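import Cfsg.Agent.S2678
import Cfsg.Agent.S0244
import Mathlib

/-!
# Restriction of scalars `Sp_2a(q ^ k) → Sp_2ka(q)`, and `Sp_2 = SL_2` (helper454)

The proof is the one of S2678 for `k = 2`.
-/

set_option autoImplicit false

namespace Cfsg.Agent.H454.SpExt

open Cfsg Cfsg.Agent.ClassicalGeometry.SympBasic Cfsg.Agent.ClassicalGeometry.SympIso Cfsg.Agent.S2678

section Ext

variable {F K : Type*} [Field F] [Field K] [Algebra F K]

theorem exists_hom [FiniteDimensional F K] [Algebra.IsSeparable F K] {k : ℕ} (h2 : Module.finrank F K = k)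
    (a : ℕ) :
    ∃ φ : ↥(Matrix.symplecticGroup (Fin a) K) →* ↥(Matrix.symplecticGroup (Fin (k * a)) F),
      Function.Injective φ := by
  classical
  have hA : (trB F K a).IsAlt := fun v => by rw [trB_apply, sympForm_self, map_zero]
  have hnd : ∀ u, (∀ v, trB F K a u v = 0) → u = 0 := by
    intro u hu
    refine eq_zero_of_forall_sympForm_right fun w => ?_
    refine (traceForm_nondegenerate F K).1 _ fun x => ?_
    rw [Algebra.traceForm_apply]
    have := hu (x • w)
    rw [trB_apply, sympForm_smul_right, mul_comm] at this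
    exact this
  have hk : Module.finrank F (Fin a ⊕ Fin a → K) = 2 * (k * a) := by
    rw [Module.finrank_pi_fintype]
    simp [h2]
    ring
  obtain ⟨e, he⟩ := exists_linearEquiv_sympForm (trB F K a) hA hnd hk
  -- the map
  let T : Matrix.symplecticGroup (Fin a) K → ((Fin a ⊕ Fin a → K) →ₗ[F] (Fin a ⊕ Fin a → K)) :=
    fun A => (Matrix.mulVecLin (A : Matrix (Fin a ⊕ Fin a) (Fin a ⊕ Fin a) K)).restrictScalars F
  have hT : ∀ A v, T A v = (A : Matrix (Fin a ⊕ Fin a) (Fin a ⊕ Fin a) K).mulVec v := fun A v => rfl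
  let f : Matrix.symplecticGroup (Fin a) K →
      ((Fin (k * a) ⊕ Fin (k * a) → F) →ₗ[F] (Fin (k * a) ⊕ Fin (k * a) → F)) :=
    fun A => e.symm.toLinearMap ∘ₗ T A ∘ₗ e.toLinearMap
  have hf : ∀ A v, f A v = e.symm ((A : Matrix (Fin a ⊕ Fin a) (Fin a ⊕ Fin a) K).mulVec (e v)) :=
    fun A v => rfl
  let M : Matrix.symplecticGroup (Fin a) K →
      Matrix (Fin (k * a) ⊕ Fin (k * a)) (Fin (k * a) ⊕ Fin (k * a)) F :=
    fun A => LinearMap.toMatrix' (f A)
  have hM : ∀ A v, (M A).mulVec v =
      e.symm ((A : Matrix (Fin a ⊕ Fin a) (Fin a ⊕ Fin a) K).mulVec (e v)) := by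
    intro A v
    rw [← hf, ← Matrix.toLin'_apply]
    simp only [M, Matrix.toLin'_toMatrix']
  have hmem : ∀ A, M A ∈ Matrix.symplecticGroup (Fin (k * a)) F := by
    intro A
    rw [mem_symplecticGroup_iff]
    intro u v
    rw [hM, hM, ← he, ← he, e.apply_symm_apply, e.apply_symm_apply, trB_apply, trB_apply,
      sympForm_mulVec A.2]
  have hext : ∀ {X Y : Matrix (Fin (k * a) ⊕ Fin (k * a)) (Fin (k * a) ⊕ Fin (k * a)) F},
      (∀ v, X.mulVec v = Y.mulVec v) → X = Y := by
    intro X Y h
    apply Matrix.toLin'.injective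
    ext v
    simp [Matrix.toLin'_apply, h]
  refine ⟨{ toFun := fun A => ⟨M A, hmem A⟩
            map_one' := ?_
            map_mul' := ?_ }, ?_⟩
  · apply Subtype.ext
    apply hext
    intro v
    show (M 1).mulVec v = _
    rw [hM]
    simp
  · intro A B
    apply Subtype.ext
    apply hext
    intro v
    show (M (A * B)).mulVec v = ((M A) * (M B)).mulVec v
    rw [← Matrix.mulVec_mulVec, hM, hM, hM, e.apply_symm_apply, coe_mul_mulVec]
  · intro A B h
    have h' : M A = M B := congrArg Subtype.val h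
    apply Subtype.ext
    apply Matrix.toLin'.injective
    apply LinearMap.ext
    intro v
    rw [Matrix.toLin'_apply, Matrix.toLin'_apply]
    have := congrArg (fun X => X.mulVec (e.symm v)) h'
    simp only [hM, e.apply_symm_apply] at this
    exact e.symm.injective this

end Ext

/-- **Restriction of scalars** `Sp_2a(q ^ k) → Sp_2ka(q)`. -/
theorem exists_hom_card {K F : Type*} [Field K] [Fintype K] [Field F] [Fintype F] {q k : ℕ} (hk : k ≠ 0)
    (hK : Fintype.card K = q ^ k) (hF : Fintype.card F = q) (a : ℕ) :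
    ∃ φ : ↥(Matrix.symplecticGroup (Fin a) K) →* ↥(Matrix.symplecticGroup (Fin (k * a)) F), Function.Injective φ := by
  obtain ⟨f⟩ := Cfsg.Agent.H194.FieldExt.nonempty_ringHom hk hK hF
  let _ : Algebra F K := f.toAlgebra
  exact exists_hom (F := F) (K := K) (Cfsg.Agent.H194.FieldExt.finrank_eq hK hF) a

theorem exists_hom_card' {K F : Type*} [Field K] [Fintype K] [Field F] [Fintype F] {q k : ℕ} (hk : k ≠ 0)
    (hK : Fintype.card K = q ^ k) (hF : Fintype.card F = q) {a n : ℕ} (hn : k * a = n) :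
    ∃ φ : ↥(Matrix.symplecticGroup (Fin a) K) →* ↥(Matrix.symplecticGroup (Fin n) F), Function.Injective φ := by
  subst hn
  exact exists_hom_card hk hK hF a

/-- `Sp_2 = SL_2` -/
def spTwo (F : Type*) [Field F] : Matrix.symplecticGroup (Fin 1) F ≃* Matrix.SpecialLinearGroup (Fin 2) F where
  toFun A := ⟨Matrix.reindex finSumFinEquiv finSumFinEquiv (A : Matrix (Fin 1 ⊕ Fin 1) (Fin 1 ⊕ Fin 1) F), by
    rw [Matrix.det_reindex_self]
    exact (S0244.result _).1 A.2⟩
  invFun A := ⟨Matrix.reindex finSumFinEquiv.symm finSumFinEquiv.symm (A : Matrix (Fin 2) (Fin 2) F), by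
    rw [S0244.result, Matrix.det_reindex_self]
    exact A.2⟩
  left_inv A := by
    apply Subtype.ext
    ext i j
    simp
  right_inv A := by
    apply Subtype.ext
    ext i j
    simp
  map_mul' A B := by
    apply Subtype.ext
    change Matrix.reindex finSumFinEquiv finSumFinEquiv (A.1 * B.1) =
      Matrix.reindex finSumFinEquiv finSumFinEquiv A.1 * Matrix.reindex finSumFinEquiv finSumFinEquiv B.1
    rw [Matrix.reindex_apply, Matrix.reindex_apply, Matrix.reindex_apply, Matrix.submatrix_mul_equiv]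

/-- `SL_2(q ^ m) → Sp_2m(q)` -/
theorem exists_sl_two {K F : Type*} [Field K] [Fintype K] [Field F] [Fintype F] {q k : ℕ} (hk : k ≠ 0)
    (hK : Fintype.card K = q ^ k) (hF : Fintype.card F = q) :
    ∃ φ : Matrix.SpecialLinearGroup (Fin 2) K →* ↥(Matrix.symplecticGroup (Fin k) F), Function.Injective φ := by
  obtain ⟨φ, hφ⟩ := exists_hom_card' hk hK hF (a := 1) (mul_one k)
  exact ⟨φ.comp (spTwo K).symm.toMonoidHom, hφ.comp (spTwo K).symm.injective⟩

end Cfsg.Agent.H454.SpExt
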