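import Cfsg.Agent.H454.SYAux
import Cfsg.Agent.H813.RadCo1

/-!
# The row `Co1` of S3846 (helper454)
-/

set_option autoImplicit false
set_option maxRecDepth 20000

namespace Cfsg.Agent.H454.SYCoOne

open Subgroup Cfsg Cfsg.Agent.H459.Rad Cfsg.Agent.H459.Iface Cfsg.Agent.H301.SY Cfsg.Agent.H454.SY
open Cfsg.Agent.H813.RadCo1 Cfsg.Agent.H813.CoSevenMain
open Cfsg.Agent.SporadicA.Co0Mono
open Cfsg.Agent.H839.Rad (rc_conj mem_rad)
open Cfsg.Agent.KFacts.Co1D4

instance simple_co1 : IsSimpleGroup Spor.Co1 := Cfsg.Agent.S0399.result.1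

theorem card_co1 : Nat.card Spor.Co1 = 4157776806543360000 := Cfsg.Agent.S0399.result.2

theorem five : NoE 5 Spor.Co1 := by
  intro x hx hR _
  obtain ⟨t, ht, hxt⟩ := exists_inv_five hx
  exact false_of_inv Nat.prime_five (by norm_num) hx (RE.rc hR) ht hxt

theorem seven : NoE 7 Spor.Co1 := by
  intro x hx hR _
  have h := RE.rc hR
  have hp : Nat.Prime 7 := by norm_num
  have : Fact (Nat.Prime 7) := ⟨hp⟩
  -- a conjugate commutes with `pp`
  obtain ⟨x', hx', h', hc⟩ : ∃ x' : Spor.Co1, orderOf x' = 7 ∧ RC (MulAut.conj x') ∧ x' * pp = pp * x' := by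
    have h1 : IsPGroup 7 ↥(zpowers x) := IsPGroup.of_card (n := 1) (by rw [Nat.card_zpowers, hx, pow_one])
    have h2 : IsPGroup 7 ↥(zpowers pp) := IsPGroup.of_card (n := 1) (by rw [Nat.card_zpowers, order_pp, pow_one])
    obtain ⟨P, hP⟩ := h1.exists_le_sylow
    obtain ⟨P', hP'⟩ := h2.exists_le_sylow
    obtain ⟨g, hg⟩ := MulAction.exists_smul_eq Spor.Co1 P P'
    have h3 : g * x * g⁻¹ ∈ (P' : Subgroup Spor.Co1) := by
      rw [← hg, Sylow.coe_subgroup_smul]
      exact smul_mem_pointwise_smul x (MulAut.conj g) _ (hP (mem_zpowers x))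
    refine ⟨g * x * g⁻¹, by rw [← MulAut.conj_apply, MulEquiv.orderOf_eq, hx], rc_conj h g, ?_⟩
    have h4 : Nat.card ↥(P' : Subgroup Spor.Co1) ∣ 7 ^ 2 := by
      obtain ⟨n, hn⟩ := IsPGroup.iff_card.1 P'.isPGroup'
      have h5 : 7 ^ n ∣ Nat.card Spor.Co1 := hn ▸ card_subgroup_dvd_card _
      rw [card_co1] at h5
      have h6 : n ≤ 2 := by
        by_contra h7
        have h8 : 7 ^ 3 ∣ 4157776806543360000 := (pow_dvd_pow 7 (by omega : 3 ≤ n)).trans h5
        revert h8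
        norm_num
      rw [hn]
      exact pow_dvd_pow 7 h6
    have h5 := Cfsg.Agent.H813.CoSevenCard.comm_of_le hp h4 ⟨_, h3⟩ ⟨pp, hP' (mem_zpowers pp)⟩
    exact congrArg Subtype.val h5
  -- it centralizes `BB`
  have hBt : BB ≠ ⊤ := by
    intro h1
    have h2 := card_BB
    rw [h1, Subgroup.card_top, card_co1] at h2
    norm_num at h2
  have hcm : ∀ m ∈ BB, MulAut.conj x' m ∈ BB := fun m hm =>
    conj_mem_of_card BB_le BB_center (by rw [order_pp, card_BB]; exact card_cent_pp) hc hm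
  have hrad : solvableRadical ↥BB = ⊥ := by
    refine rad_eq_bot_of_simple fun h1 => BB_not_comm ⟨⟨IsSimpleGroup.comm_iff_isSolvable.2 h1⟩⟩
  obtain ⟨t, ht⟩ := exists_prime_orderOf_dvd_card' 2 (show 2 ∣ Nat.card ↥BB by rw [card_BB]; norm_num)
  have h2 := h'.eq_of_rad_eq_bot hBt hcm hrad t.2
  rw [MulAut.conj_apply, mul_inv_eq_iff_eq_mul] at h2
  exact false_of_inv hp (by norm_num) hx' h' (t := t) (by rw [Subgroup.orderOf_coe, ht]) h2

theorem lw_m24 {p : ℕ} [hp : Fact p.Prime] (h : p ∣ 244823040) : Lw p Spor.Co1 := by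
  have hs : IsSimpleGroup M24 := Cfsg.Agent.S0365.result
  refine Lw.of_simple (Q := M24) not_solvable_M24 (by rw [Cfsg.Agent.S0364.result]; exact h) pm pm_inj fun hsurj => ?_
  have h1 := Nat.card_le_card_of_surjective _ hsurj
  rw [card_co1, Cfsg.Agent.S0364.result] at h1
  omega

theorem lw_thirteen : Lw 13 Spor.Co1 := by
  have : Fact (Nat.Prime 13) := ⟨by norm_num⟩
  have hs : IsSimpleGroup ↥GTwo.L := GTwo.simple_L
  refine Lw.of_simple (Q := ↥GTwo.L)
    (Cfsg.Agent.SignalizersComponents.Components.quasisimple_not_isSolvable CTwoTab.Co1.quasisimple_L)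
    (by rw [GTwo.card_L]; norm_num) GTwo.L.subtype GTwo.L.subtype_injective fun hsurj => ?_
  have h1 := Nat.card_le_card_of_surjective _ hsurj
  rw [card_co1, GTwo.card_L] at h1
  omega

theorem primes {p : ℕ} (hp : p.Prime) (h : p ∣ 4157776806543360000) :
    p = 2 ∨ p = 3 ∨ p = 5 ∨ p = 7 ∨ p = 11 ∨ p = 13 ∨ p = 23 := by
  rw [show 4157776806543360000 = 2 ^ 21 * 3 ^ 9 * 5 ^ 4 * 7 ^ 2 * 11 * 13 * 23 by norm_num] at h
  simp only [hp.dvd_mul] at h
  have key : ∀ {r k : ℕ}, r.Prime → p ∣ r ^ k → p = r := fun hr h1 =>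
    (Nat.prime_dvd_prime_iff_eq hp hr).1 (hp.dvd_of_dvd_pow h1)
  have key' : ∀ {r : ℕ}, r.Prime → p ∣ r → p = r := fun hr h1 => (Nat.prime_dvd_prime_iff_eq hp hr).1 h1
  rcases h with (((((h | h) | h) | h) | h) | h) | h
  · exact Or.inl (key Nat.prime_two h)
  · exact Or.inr (Or.inl (key Nat.prime_three h))
  · exact Or.inr (Or.inr (Or.inl (key Nat.prime_five h)))
  · exact Or.inr (Or.inr (Or.inr (Or.inl (key (by norm_num) h))))
  · exact Or.inr (Or.inr (Or.inr (Or.inr (Or.inl (key' (by norm_num) h)))))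
  · exact Or.inr (Or.inr (Or.inr (Or.inr (Or.inr (Or.inl (key' (by norm_num) h))))))
  · exact Or.inr (Or.inr (Or.inr (Or.inr (Or.inr (Or.inr (key' (by norm_num) h))))))

theorem cyc {p : ℕ} [hp : Fact p.Prime] (h : ¬ p ^ 2 ∣ 4157776806543360000) (P : Sylow p Spor.Co1) :
    IsCyclic (P : Subgroup Spor.Co1) := cyclic_of_card (by rwa [card_co1]) P

theorem all {p : ℕ} [hp : Fact p.Prime] (hp5 : 5 ≤ p) : NoE p Spor.Co1 := by
  by_cases hd : p ∣ 4157776806543360000
  · rcases primes hp.out hd with rfl | rfl | rfl | rfl | rfl | rfl | rfl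
    · omega
    · omega
    · exact five
    · exact seven
    · exact NoE.of_lw (cyc (by norm_num)) (lw_m24 (by norm_num))
    · exact NoE.of_lw (cyc (by norm_num)) lw_thirteen
    · exact NoE.of_lw (cyc (by norm_num)) (lw_m24 (by norm_num))
  · intro x hx _ _
    apply hd
    rw [← card_co1, ← hx]
    exact orderOf_dvd_natCard x

/-- **The row `Co1`.** -/
theorem noE_co1 {K : Type*} [Group K] [Finite K] [IsSimpleGroup K] (h : Cfsg.Spor.IsoCo1 K) {p : ℕ} [Fact p.Prime]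
    (hp : 5 ≤ p) (_ : Cfsg.Agent.H301.SY.Blk p K) (_ : Cfsg.Agent.H301.SY.ThO p K) : Cfsg.Agent.H301.SY.NoE p K := by
  obtain ⟨e⟩ := h
  exact NoE.congr e (all hp)

end Cfsg.Agent.H454.SYCoOne
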