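import Cfsg.Agent.H139.Bruhat

/-!
# Fusion in the upper unitriangular group of a group `SL₃(K) ≤ G ≤ GL₃(K)` (task S5260-E)

`GD Δ` is the group of invertible 3 x 3 matrices with determinant in `Δ`, `T` the upper unitriangular group,
`M`, `M'` the two abelian subgroups of `T` (unipotent radicals of the maximal parabolics).

* `alperin_gl3` : fusion in `T` is generated by the normalisers of `T`, `M`, `M'`;
* `mem_normalizer_M_iff`, `conj_M`, `det_M`, `exists_M` : the normaliser of `M` and its action on `M`;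
* `mem_normalizer_M'_iff`, `conj_M'`, `det_M'`, `exists_M'` : the same for `M'`.
-/

set_option autoImplicit false

namespace Cfsg.Agent.H454.AlperinGL3

open Matrix
open scoped MatrixGroups

variable {K : Type*} [Field K]

/-- The matrices with determinant in `Δ`. -/
abbrev GD (Δ : Subgroup Kˣ) : Subgroup (GL (Fin 3) K) :=
  Δ.comap (Matrix.GeneralLinearGroup.det : GL (Fin 3) K →* Kˣ)

/-- The entries below the diagonal vanish. -/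
def Up (x : Matrix (Fin 3) (Fin 3) K) : Prop := x 1 0 = 0 ∧ x 2 0 = 0 ∧ x 2 1 = 0

theorem up_iff (g : GL (Fin 3) K) : g ∈ Cfsg.upperTriangularGL 3 K ↔ Up g.1 := by
  constructor
  · intro h
    exact ⟨h (by decide : (0 : Fin 3) < 1), h (by decide : (0 : Fin 3) < 2), h (by decide : (1 : Fin 3) < 2)⟩
  · rintro ⟨h1, h2, h3⟩ i j hij
    fin_cases i <;> fin_cases j <;> first | exact h1 | exact h2 | exact h3 | exact absurd hij (by decide)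

theorem Up.mul {g h : GL (Fin 3) K} (hg : Up g.1) (hh : Up h.1) : Up (g * h).1 :=
  (up_iff _).1 (mul_mem ((up_iff _).2 hg) ((up_iff _).2 hh))

theorem Up.inv {g : GL (Fin 3) K} (hg : Up g.1) : Up (g⁻¹).1 :=
  (up_iff _).1 (inv_mem ((up_iff _).2 hg))

theorem fin3 {p : Fin 3 → Prop} (h0 : p 0) (h1 : p 1) (h2 : p 2) : ∀ i, p i := by
  intro i
  fin_cases i
  exacts [h0, h1, h2]

theorem mul_entry (g h : GL (Fin 3) K) (i j : Fin 3) :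
    (g * h).1 i j = g.1 i 0 * h.1 0 j + g.1 i 1 * h.1 1 j + g.1 i 2 * h.1 2 j := by
  show (g.1 * h.1) i j = _
  rw [Matrix.mul_apply, Fin.sum_univ_three]

theorem one_entry (i j : Fin 3) : ((1 : GL (Fin 3) K)).1 i j = if i = j then 1 else 0 := by
  show (1 : Matrix (Fin 3) (Fin 3) K) i j = _
  rw [Matrix.one_apply]

theorem Up.mul_diag {g h : GL (Fin 3) K} (hg : Up g.1) (hh : Up h.1) (i : Fin 3) :
    (g * h).1 i i = g.1 i i * h.1 i i := by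
  obtain ⟨h1, h2, h3⟩ := hg
  obtain ⟨k1, k2, k3⟩ := hh
  rw [mul_entry]
  fin_cases i
  · show g.1 0 0 * h.1 0 0 + g.1 0 1 * h.1 1 0 + g.1 0 2 * h.1 2 0 = g.1 0 0 * h.1 0 0
    rw [k1, k2]; ring
  · show g.1 1 0 * h.1 0 1 + g.1 1 1 * h.1 1 1 + g.1 1 2 * h.1 2 1 = g.1 1 1 * h.1 1 1
    rw [h1, k3]; ring
  · show g.1 2 0 * h.1 0 2 + g.1 2 1 * h.1 1 2 + g.1 2 2 * h.1 2 2 = g.1 2 2 * h.1 2 2
    rw [h2, h3]; ring

theorem Up.diag_mul_inv {g : GL (Fin 3) K} (hg : Up g.1) (i : Fin 3) : g.1 i i * (g⁻¹).1 i i = 1 := by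
  rw [← hg.mul_diag hg.inv, mul_inv_cancel, one_entry, if_pos rfl]

/-- Upper unitriangular. -/
def UT (x : Matrix (Fin 3) (Fin 3) K) : Prop := Up x ∧ ∀ i, x i i = 1

theorem UT.mul {g h : GL (Fin 3) K} (hg : UT g.1) (hh : UT h.1) : UT (g * h).1 :=
  ⟨hg.1.mul hh.1, fun i => by rw [hg.1.mul_diag hh.1, hg.2, hh.2, one_mul]⟩

theorem UT.inv {g : GL (Fin 3) K} (hg : UT g.1) : UT (g⁻¹).1 :=
  ⟨hg.1.inv, fun i => by have := hg.1.diag_mul_inv i; rwa [hg.2, one_mul] at this⟩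

theorem UT.one : UT ((1 : GL (Fin 3) K)).1 :=
  ⟨(up_iff _).1 (one_mem _), fun i => by rw [one_entry, if_pos rfl]⟩

/-- `b x b⁻¹` is unitriangular if `b` is triangular, `x` unitriangular. -/
theorem UT.conj {b x : GL (Fin 3) K} (hb : Up b.1) (hx : UT x.1) : UT (b * x * b⁻¹).1 := by
  refine ⟨(hb.mul hx.1).mul hb.inv, fun i => ?_⟩
  rw [(hb.mul hx.1).mul_diag hb.inv, hb.mul_diag hx.1, hx.2, mul_one, hb.diag_mul_inv]

variable (Δ : Subgroup Kˣ)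

/-- The upper unitriangular matrices. -/
def T : Subgroup (GD Δ) where
  carrier := {x | UT x.1.1}
  mul_mem' := fun {_ _} ha hb => UT.mul ha hb
  one_mem' := UT.one
  inv_mem' := fun {_} ha => UT.inv ha

/-- The unitriangular matrices with `x 0 1 = 0`. -/
def M : Subgroup (GD Δ) where
  carrier := {x | UT x.1.1 ∧ x.1.1 0 1 = 0}
  mul_mem' := by
    rintro a b ⟨ha, ha'⟩ ⟨hb, hb'⟩
    refine ⟨ha.mul hb, ?_⟩
    show (a.1 * b.1).1 0 1 = 0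
    rw [mul_entry, ha', hb', hb.1.2.2]
    ring
  one_mem' := ⟨UT.one, by show ((1 : GL (Fin 3) K)).1 0 1 = 0; rw [one_entry, if_neg (by decide)]⟩
  inv_mem' := by
    rintro a ⟨ha, ha'⟩
    refine ⟨ha.inv, ?_⟩
    have h := mul_entry a.1 a.1⁻¹ 0 1
    rw [mul_inv_cancel, one_entry, if_neg (by decide), ha', ha.2, ha.inv.1.2.2] at h
    show (a.1⁻¹).1 0 1 = 0
    linear_combination -h

/-- The unitriangular matrices with `x 1 2 = 0`. -/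
def M' : Subgroup (GD Δ) where
  carrier := {x | UT x.1.1 ∧ x.1.1 1 2 = 0}
  mul_mem' := by
    rintro a b ⟨ha, ha'⟩ ⟨hb, hb'⟩
    refine ⟨ha.mul hb, ?_⟩
    show (a.1 * b.1).1 1 2 = 0
    rw [mul_entry, ha', hb', ha.1.1]
    ring
  one_mem' := ⟨UT.one, by show ((1 : GL (Fin 3) K)).1 1 2 = 0; rw [one_entry, if_neg (by decide)]⟩
  inv_mem' := by
    rintro a ⟨ha, ha'⟩
    refine ⟨ha.inv, ?_⟩
    have h := mul_entry a.1 a.1⁻¹ 1 2
    rw [mul_inv_cancel, one_entry, if_neg (by decide), ha', ha.2, ha.1.1] at h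
    show (a.1⁻¹).1 1 2 = 0
    linear_combination -h

variable {Δ}

theorem mem_T {x : GD Δ} : x ∈ T Δ ↔ UT x.1.1 := Iff.rfl
theorem mem_M {x : GD Δ} : x ∈ M Δ ↔ UT x.1.1 ∧ x.1.1 0 1 = 0 := Iff.rfl
theorem mem_M' {x : GD Δ} : x ∈ M' Δ ↔ UT x.1.1 ∧ x.1.1 1 2 = 0 := Iff.rfl

theorem M_le_T : M Δ ≤ T Δ := fun _ h => h.1
theorem M'_le_T : M' Δ ≤ T Δ := fun _ h => h.1

/-- Triangular matrices normalise `T`. -/
theorem up_mem_normalizer {b : GD Δ} (hb : Up b.1.1) : b ∈ Subgroup.normalizer (T Δ : Set (GD Δ)) := by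
  rw [Subgroup.mem_normalizer_iff]
  intro x
  constructor
  · intro hx
    exact UT.conj hb hx
  · intro hx
    have h := UT.conj (b := b.1⁻¹) hb.inv (x := (b * x * b⁻¹).1) hx
    have e : b.1⁻¹ * (b * x * b⁻¹).1 * b.1⁻¹⁻¹ = x.1 := by
      show b.1⁻¹ * (b.1 * x.1 * b.1⁻¹) * b.1⁻¹⁻¹ = x.1
      group
    rw [e] at h
    exact h

/-! ### The normaliser of `M` -/

/-- the entries of `g x g⁻¹` for `x ∈ M` -/
theorem conj_entry_M {x : GL (Fin 3) K} (hx : UT x.1) (h01 : x.1 0 1 = 0) (g : GL (Fin 3) K) (i j : Fin 3) :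
    (g * x * g⁻¹).1 i j = (if i = j then 1 else 0) +
      (g.1 i 0 * x.1 0 2 + g.1 i 1 * x.1 1 2) * (g⁻¹).1 2 j := by
  obtain ⟨⟨h1, h2, h3⟩, hd⟩ := hx
  have e := mul_entry g g⁻¹ i j
  rw [mul_inv_cancel, one_entry] at e
  rw [mul_entry, mul_entry, mul_entry, mul_entry, h1, h2, h3, hd, hd, hd, h01, e]
  ring

/-- the entries of `g x g⁻¹` for `x ∈ M'` -/
theorem conj_entry_M' {x : GL (Fin 3) K} (hx : UT x.1) (h12 : x.1 1 2 = 0) (g : GL (Fin 3) K) (i j : Fin 3) :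
    (g * x * g⁻¹).1 i j = (if i = j then 1 else 0) +
      g.1 i 0 * (x.1 0 1 * (g⁻¹).1 1 j + x.1 0 2 * (g⁻¹).1 2 j) := by
  obtain ⟨⟨h1, h2, h3⟩, hd⟩ := hx
  have e := mul_entry g g⁻¹ i j
  rw [mul_inv_cancel, one_entry] at e
  rw [mul_entry, mul_entry, mul_entry, mul_entry, h1, h2, h3, hd, hd, hd, h12, e]
  ring

theorem row_inv {g : GL (Fin 3) K} (h0 : g.1 2 0 = 0) (h1 : g.1 2 1 = 0) :
    (g⁻¹).1 2 0 = 0 ∧ (g⁻¹).1 2 1 = 0 ∧ g.1 2 2 * (g⁻¹).1 2 2 = 1 := by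
  have e0 := mul_entry g g⁻¹ 2 0
  have e1 := mul_entry g g⁻¹ 2 1
  have e2 := mul_entry g g⁻¹ 2 2
  rw [mul_inv_cancel, one_entry, if_neg (by decide), h0, h1] at e0 e1
  rw [mul_inv_cancel, one_entry, if_pos rfl, h0, h1] at e2
  have h2 : g.1 2 2 ≠ 0 := by
    rintro h
    rw [h] at e2
    simp at e2
  refine ⟨?_, ?_, by linear_combination -e2⟩
  · have : g.1 2 2 * (g⁻¹).1 2 0 = 0 := by linear_combination -e0
    exact (mul_eq_zero.1 this).resolve_left h2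
  · have : g.1 2 2 * (g⁻¹).1 2 1 = 0 := by linear_combination -e1
    exact (mul_eq_zero.1 this).resolve_left h2

theorem col_inv {g : GL (Fin 3) K} (h0 : g.1 1 0 = 0) (h1 : g.1 2 0 = 0) :
    (g⁻¹).1 1 0 = 0 ∧ (g⁻¹).1 2 0 = 0 ∧ (g⁻¹).1 0 0 * g.1 0 0 = 1 := by
  have e0 := mul_entry g⁻¹ g 0 0
  have e1 := mul_entry g⁻¹ g 1 0
  have e2 := mul_entry g⁻¹ g 2 0
  rw [inv_mul_cancel, one_entry, if_neg (by decide), h0, h1] at e1 e2
  rw [inv_mul_cancel, one_entry, if_pos rfl, h0, h1] at e0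
  have h2 : g.1 0 0 ≠ 0 := by
    rintro h
    rw [h] at e0
    simp at e0
  refine ⟨?_, ?_, by linear_combination -e0⟩
  · have : (g⁻¹).1 1 0 * g.1 0 0 = 0 := by linear_combination -e1
    exact (mul_eq_zero.1 this).resolve_right h2
  · have : (g⁻¹).1 2 0 * g.1 0 0 = 0 := by linear_combination -e2
    exact (mul_eq_zero.1 this).resolve_right h2

theorem conj_mem_M {g x : GD Δ} (h0 : g.1.1 2 0 = 0) (h1 : g.1.1 2 1 = 0) (hx : x ∈ M Δ) :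
    g * x * g⁻¹ ∈ M Δ := by
  obtain ⟨r0, r1, r2⟩ := row_inv h0 h1
  have e := conj_entry_M hx.1 hx.2 g.1
  have e' : ∀ i j, (g * x * g⁻¹ : GD Δ).1.1 i j = (if i = j then 1 else 0) +
      (g.1.1 i 0 * x.1.1 0 2 + g.1.1 i 1 * x.1.1 1 2) * (g.1⁻¹).1 2 j := e
  refine ⟨⟨⟨?_, ?_, ?_⟩, ?_⟩, ?_⟩
  · rw [e', if_neg (by decide), r0]; ring
  · rw [e', if_neg (by decide), r0]; ring
  · rw [e', if_neg (by decide), r1]; ring
  · intro i
    rw [e', if_pos rfl]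
    fin_cases i
    · show 1 + _ * (g.1⁻¹).1 2 0 = 1
      rw [r0]; ring
    · show 1 + _ * (g.1⁻¹).1 2 1 = 1
      rw [r1]; ring
    · show 1 + (g.1.1 2 0 * x.1.1 0 2 + g.1.1 2 1 * x.1.1 1 2) * _ = 1
      rw [h0, h1]; ring
  · rw [e', if_neg (by decide), r1]; ring

theorem conj_mem_M' {g x : GD Δ} (h0 : g.1.1 1 0 = 0) (h1 : g.1.1 2 0 = 0) (hx : x ∈ M' Δ) :
    g * x * g⁻¹ ∈ M' Δ := by
  obtain ⟨r0, r1, r2⟩ := col_inv h0 h1
  have e := conj_entry_M' hx.1 hx.2 g.1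
  have e' : ∀ i j, (g * x * g⁻¹ : GD Δ).1.1 i j = (if i = j then 1 else 0) +
      g.1.1 i 0 * (x.1.1 0 1 * (g.1⁻¹).1 1 j + x.1.1 0 2 * (g.1⁻¹).1 2 j) := e
  refine ⟨⟨⟨?_, ?_, ?_⟩, ?_⟩, ?_⟩
  · rw [e', if_neg (by decide), h0]; ring
  · rw [e', if_neg (by decide), h1]; ring
  · rw [e', if_neg (by decide), h1]; ring
  · intro i
    rw [e', if_pos rfl]
    fin_cases i
    · show 1 + _ * (_ * (g.1⁻¹).1 1 0 + _ * (g.1⁻¹).1 2 0) = 1
      rw [r0, r1]; ring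
    · show 1 + g.1.1 1 0 * _ = 1
      rw [h0]; ring
    · show 1 + g.1.1 2 0 * _ = 1
      rw [h1]; ring
  · rw [e', if_neg (by decide), h0]; ring

/-- The matrix with columns; an element of `GD Δ` from a matrix with determinant in `Δ`. -/
noncomputable def mk (A : Matrix (Fin 3) (Fin 3) K) (δ : Kˣ) (hA : A.det = δ) (hδ : δ ∈ Δ) : GD Δ :=
  ⟨Matrix.GeneralLinearGroup.mkOfDetNeZero A (by rw [hA]; exact δ.ne_zero), by
    rw [Subgroup.mem_comap]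
    have : Matrix.GeneralLinearGroup.det (Matrix.GeneralLinearGroup.mkOfDetNeZero A (by rw [hA]; exact δ.ne_zero)) = δ := by
      apply Units.ext
      rw [Matrix.GeneralLinearGroup.val_det_apply]
      exact hA
    rw [this]
    exact hδ⟩

theorem mk_val (A : Matrix (Fin 3) (Fin 3) K) (δ : Kˣ) (hA : A.det = δ) (hδ : δ ∈ Δ) :
    (mk (Δ := Δ) A δ hA hδ).1.1 = A := rfl

/-- The elementary matrices `x(a,b,c)`. -/
noncomputable def xx (Δ : Subgroup Kˣ) (a b c : K) : GD Δ :=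
  mk !![1, a, c; 0, 1, b; 0, 0, 1] 1 (by simp [Matrix.det_fin_three]) (one_mem _)

theorem xx_val (a b c : K) : (xx Δ a b c).1.1 = !![1, a, c; 0, 1, b; 0, 0, 1] := rfl

theorem xx_mem (a b c : K) : xx Δ a b c ∈ T Δ := by
  refine ⟨⟨?_, ?_, ?_⟩, fun i => ?_⟩
  · rw [xx_val]; simp
  · rw [xx_val]; simp
  · rw [xx_val]; simp
  · rw [xx_val]; fin_cases i <;> simp

theorem mem_normalizer_M_iff {g : GD Δ} :
    g ∈ Subgroup.normalizer (M Δ : Set (GD Δ)) ↔ g.1.1 2 0 = 0 ∧ g.1.1 2 1 = 0 := by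
  constructor
  · intro hg
    rw [Subgroup.mem_normalizer_iff] at hg
    have hx : xx Δ 0 0 1 ∈ M Δ := ⟨xx_mem 0 0 1, by rw [xx_val]; simp⟩
    have h := (hg _).1 hx
    have e : ∀ i j, (g * xx Δ 0 0 1 * g⁻¹ : GD Δ).1.1 i j = (if i = j then 1 else 0) +
      (g.1.1 i 0 * 1 + g.1.1 i 1 * 0) * (g.1⁻¹).1 2 j := fun i j => by
      have := conj_entry_M hx.1 hx.2 g.1 i j
      rw [xx_val] at this
      simpa using this
    have k0 : ∀ i, g.1.1 i 0 * (g.1⁻¹).1 2 0 = 0 := by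
      refine fin3 ?_ ?_ ?_
      · have h' := e 0 0
        rw [h.1.2, if_pos rfl] at h'
        linear_combination -h'
      · have h' := e 1 0
        rw [h.1.1.1, if_neg (by decide)] at h'
        linear_combination -h'
      · have h' := e 2 0
        rw [h.1.1.2.1, if_neg (by decide)] at h'
        linear_combination -h'
    have k1 : ∀ i, g.1.1 i 0 * (g.1⁻¹).1 2 1 = 0 := by
      refine fin3 ?_ ?_ ?_
      · have h' := e 0 1
        rw [h.2, if_neg (by decide)] at h'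
        linear_combination -h'
      · have h' := e 1 1
        rw [h.1.2, if_pos rfl] at h'
        linear_combination -h'
      · have h' := e 2 1
        rw [h.1.1.2.2, if_neg (by decide)] at h'
        linear_combination -h'
    have e0 := mul_entry g.1⁻¹ g.1 0 0
    rw [inv_mul_cancel, one_entry, if_pos rfl] at e0
    have m0 : (g.1⁻¹).1 2 0 = 0 := by
      linear_combination (g.1⁻¹).1 2 0 * e0 + (g.1⁻¹).1 0 0 * k0 0 + (g.1⁻¹).1 0 1 * k0 1 + (g.1⁻¹).1 0 2 * k0 2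
    have m1 : (g.1⁻¹).1 2 1 = 0 := by
      linear_combination (g.1⁻¹).1 2 1 * e0 + (g.1⁻¹).1 0 0 * k1 0 + (g.1⁻¹).1 0 1 * k1 1 + (g.1⁻¹).1 0 2 * k1 2
    have := row_inv m0 m1
    rw [inv_inv] at this
    exact ⟨this.1, this.2.1⟩
  · rintro ⟨h0, h1⟩
    rw [Subgroup.mem_normalizer_iff]
    intro x
    constructor
    · exact conj_mem_M h0 h1
    · intro hx
      obtain ⟨r0, r1, -⟩ := row_inv h0 h1
      have := conj_mem_M (g := g⁻¹) r0 r1 hx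
      have e : g⁻¹ * (g * x * g⁻¹) * g⁻¹⁻¹ = x := by group
      rwa [e] at this

theorem mem_normalizer_M'_iff {g : GD Δ} :
    g ∈ Subgroup.normalizer (M' Δ : Set (GD Δ)) ↔ g.1.1 1 0 = 0 ∧ g.1.1 2 0 = 0 := by
  constructor
  · intro hg
    rw [Subgroup.mem_normalizer_iff] at hg
    have hx : xx Δ 0 0 1 ∈ M' Δ := ⟨xx_mem 0 0 1, by rw [xx_val]; simp⟩
    have h := (hg _).1 hx
    have e : ∀ i j, (g * xx Δ 0 0 1 * g⁻¹ : GD Δ).1.1 i j = (if i = j then 1 else 0) +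
      g.1.1 i 0 * (0 * (g.1⁻¹).1 1 j + 1 * (g.1⁻¹).1 2 j) := fun i j => by
      have := conj_entry_M' hx.1 hx.2 g.1 i j
      rw [xx_val] at this
      simpa using this
    have k1 : ∀ j, g.1.1 1 0 * (g.1⁻¹).1 2 j = 0 := by
      refine fin3 ?_ ?_ ?_
      · have h' := e 1 0
        rw [h.1.1.1, if_neg (by decide)] at h'
        linear_combination -h'
      · have h' := e 1 1
        rw [h.1.2, if_pos rfl] at h'
        linear_combination -h'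
      · have h' := e 1 2
        rw [h.2, if_neg (by decide)] at h'
        linear_combination -h'
    have k2 : ∀ j, g.1.1 2 0 * (g.1⁻¹).1 2 j = 0 := by
      refine fin3 ?_ ?_ ?_
      · have h' := e 2 0
        rw [h.1.1.2.1, if_neg (by decide)] at h'
        linear_combination -h'
      · have h' := e 2 1
        rw [h.1.1.2.2, if_neg (by decide)] at h'
        linear_combination -h'
      · have h' := e 2 2
        rw [h.1.2, if_pos rfl] at h'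
        linear_combination -h'
    have e0 := mul_entry g.1⁻¹ g.1 2 2
    rw [inv_mul_cancel, one_entry, if_pos rfl] at e0
    constructor
    · linear_combination g.1.1 1 0 * e0 + g.1.1 0 2 * k1 0 + g.1.1 1 2 * k1 1 + g.1.1 2 2 * k1 2
    · linear_combination g.1.1 2 0 * e0 + g.1.1 0 2 * k2 0 + g.1.1 1 2 * k2 1 + g.1.1 2 2 * k2 2
  · rintro ⟨h0, h1⟩
    rw [Subgroup.mem_normalizer_iff]
    intro x
    constructor
    · exact conj_mem_M' h0 h1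
    · intro hx
      obtain ⟨r0, r1, -⟩ := col_inv h0 h1
      have := conj_mem_M' (g := g⁻¹) r0 r1 hx
      have e : g⁻¹ * (g * x * g⁻¹) * g⁻¹⁻¹ = x := by group
      rwa [e] at this

theorem det_entries (g : GL (Fin 3) K) : ((Matrix.GeneralLinearGroup.det g : Kˣ) : K) =
    g.1 0 0 * g.1 1 1 * g.1 2 2 - g.1 0 0 * g.1 1 2 * g.1 2 1 - g.1 0 1 * g.1 1 0 * g.1 2 2 +
      g.1 0 1 * g.1 1 2 * g.1 2 0 + g.1 0 2 * g.1 1 0 * g.1 2 1 - g.1 0 2 * g.1 1 1 * g.1 2 0 := by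
  rw [Matrix.GeneralLinearGroup.val_det_apply]
  exact Matrix.det_fin_three _

/-- The action of `N(M)` on `M` (columns). -/
theorem conj_M {g : GD Δ} (hg : g ∈ Subgroup.normalizer (M Δ : Set (GD Δ))) :
    ∃ A : Matrix (Fin 2) (Fin 2) K,
      A = (g.1.1 2 2)⁻¹ • !![g.1.1 0 0, g.1.1 0 1; g.1.1 1 0, g.1.1 1 1] ∧ g.1.1 2 2 ≠ 0 ∧
      A.det * (g.1.1 2 2) ^ 3 = ((Matrix.GeneralLinearGroup.det g.1 : Kˣ) : K) ∧
      ∀ x ∈ M Δ, ![(g * x * g⁻¹).1.1 0 2, (g * x * g⁻¹).1.1 1 2] = A *ᵥ ![x.1.1 0 2, x.1.1 1 2] := by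
  obtain ⟨h0, h1⟩ := mem_normalizer_M_iff.1 hg
  obtain ⟨r0, r1, r2⟩ := row_inv h0 h1
  have h2 : g.1.1 2 2 ≠ 0 := by
    intro h
    rw [h] at r2
    simp at r2
  have e3 : (g.1⁻¹).1 2 2 = (g.1.1 2 2)⁻¹ := by
    exact eq_inv_of_mul_eq_one_left (by linear_combination r2)
  refine ⟨_, rfl, h2, ?_, fun x hx => ?_⟩
  · rw [det_entries, h0, h1, Matrix.det_smul, Matrix.det_fin_two]
    simp only [Matrix.of_apply, Matrix.cons_val', Matrix.cons_val_zero, Matrix.cons_val_one, Matrix.empty_val',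
      Matrix.cons_val_fin_one, Fintype.card_fin]
    field_simp
    ring
  · have e := conj_entry_M hx.1 hx.2 g.1
    have e0 : (g * x * g⁻¹).1.1 0 2 = _ := e 0 2
    have e1 : (g * x * g⁻¹).1.1 1 2 = _ := e 1 2
    rw [e0, e1, e3, if_neg (by decide), if_neg (by decide)]
    ext i
    fin_cases i
    · simp [Matrix.mulVec, dotProduct, Fin.sum_univ_two]
      ring
    · simp [Matrix.mulVec, dotProduct, Fin.sum_univ_two]
      ring

/-- Every matrix which can occur does occur. -/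
theorem exists_M (A : Matrix (Fin 2) (Fin 2) K) (d δ : Kˣ) (hδ : δ ∈ Δ) (h : A.det * (d : K) ^ 3 = δ) :
    ∃ g ∈ Subgroup.normalizer (M Δ : Set (GD Δ)), g.1.1 2 2 = d ∧
      ∀ x ∈ M Δ, ![(g * x * g⁻¹).1.1 0 2, (g * x * g⁻¹).1.1 1 2] = A *ᵥ ![x.1.1 0 2, x.1.1 1 2] := by
  obtain ⟨g, hgv⟩ : ∃ g : GD Δ, g.1.1 = !![d * A 0 0, d * A 0 1, 0; d * A 1 0, d * A 1 1, 0; 0, 0, (d : K)] :=
    ⟨mk _ δ (by
      rw [← h, Matrix.det_fin_three, Matrix.det_fin_two]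
      simp
      ring) hδ, rfl⟩
  have hg : g ∈ Subgroup.normalizer (M Δ : Set (GD Δ)) := by
    rw [mem_normalizer_M_iff, hgv]
    simp
  obtain ⟨B, hB, h2, -, hB'⟩ := conj_M hg
  have e : B = A := by
    rw [hB, hgv]
    have hd : (d : K) ≠ 0 := d.ne_zero
    ext i j
    fin_cases i <;> fin_cases j <;> simp [hd]
  refine ⟨g, hg, by rw [hgv]; simp, ?_⟩
  rwa [e] at hB'

/-- The action of `N(M')` on `M'` (rows). -/
theorem conj_M' {g : GD Δ} (hg : g ∈ Subgroup.normalizer (M' Δ : Set (GD Δ))) :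
    ∃ A : Matrix (Fin 2) (Fin 2) K,
      A = g.1.1 0 0 • !![(g.1⁻¹).1 1 1, (g.1⁻¹).1 1 2; (g.1⁻¹).1 2 1, (g.1⁻¹).1 2 2] ∧ g.1.1 0 0 ≠ 0 ∧
      A.det * ((Matrix.GeneralLinearGroup.det g.1 : Kˣ) : K) = (g.1.1 0 0) ^ 3 ∧
      ∀ x ∈ M' Δ, ![(g * x * g⁻¹).1.1 0 1, (g * x * g⁻¹).1.1 0 2] = ![x.1.1 0 1, x.1.1 0 2] ᵥ* A := by
  obtain ⟨h0, h1⟩ := mem_normalizer_M'_iff.1 hg
  obtain ⟨r0, r1, r2⟩ := col_inv h0 h1
  have h2 : g.1.1 0 0 ≠ 0 := by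
    intro h
    rw [h] at r2
    simp at r2
  refine ⟨_, rfl, h2, ?_, fun x hx => ?_⟩
  · have e1 := det_entries g.1⁻¹
    rw [r0, r1] at e1
    have e2 : ((Matrix.GeneralLinearGroup.det g.1⁻¹ : Kˣ) : K) * ((Matrix.GeneralLinearGroup.det g.1 : Kˣ) : K) = 1 := by
      rw [← Units.val_mul, ← map_mul, inv_mul_cancel, map_one, Units.val_one]
    rw [Matrix.det_smul, Matrix.det_fin_two]
    simp only [Matrix.of_apply, Matrix.cons_val', Matrix.cons_val_zero, Matrix.cons_val_one, Matrix.empty_val',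
      Matrix.cons_val_fin_one, Fintype.card_fin]
    rw [e1] at e2
    linear_combination (g.1.1 0 0) ^ 3 * e2 - ((g.1⁻¹).1 1 1 * (g.1⁻¹).1 2 2 - (g.1⁻¹).1 1 2 * (g.1⁻¹).1 2 1) *
      ((Matrix.GeneralLinearGroup.det g.1 : Kˣ) : K) * (g.1.1 0 0) ^ 2 * r2
  · have e := conj_entry_M' hx.1 hx.2 g.1
    have e0 : (g * x * g⁻¹).1.1 0 1 = _ := e 0 1
    have e1 : (g * x * g⁻¹).1.1 0 2 = _ := e 0 2
    rw [e0, e1, if_neg (by decide), if_neg (by decide)]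
    ext i
    fin_cases i
    · simp [Matrix.vecMul, dotProduct, Fin.sum_univ_two]
      ring
    · simp [Matrix.vecMul, dotProduct, Fin.sum_univ_two]
      ring

/-- Every matrix which can occur does occur. -/
theorem exists_M' (A : Matrix (Fin 2) (Fin 2) K) (d δ : Kˣ) (hδ : δ ∈ Δ) (h : A.det * (δ : K) = (d : K) ^ 3) :
    ∃ g ∈ Subgroup.normalizer (M' Δ : Set (GD Δ)), g.1.1 0 0 = d ∧
      ∀ x ∈ M' Δ, ![(g * x * g⁻¹).1.1 0 1, (g * x * g⁻¹).1.1 0 2] = ![x.1.1 0 1, x.1.1 0 2] ᵥ* A := by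
  have hd : (d : K) ≠ 0 := d.ne_zero
  have hd' : (δ : K) ≠ 0 := δ.ne_zero
  obtain ⟨g, hgv⟩ : ∃ g : GD Δ, g.1.1 = !![(d : K)⁻¹, 0, 0; 0, (d : K)⁻¹ * A 0 0, (d : K)⁻¹ * A 0 1;
      0, (d : K)⁻¹ * A 1 0, (d : K)⁻¹ * A 1 1] :=
    ⟨mk _ δ⁻¹ (by
      rw [Units.val_inv_eq_inv_val, Matrix.det_fin_three]
      rw [Matrix.det_fin_two] at h
      simp
      field_simp
      linear_combination h) (inv_mem hδ), rfl⟩
  have hg0 : g ∈ Subgroup.normalizer (M' Δ : Set (GD Δ)) := by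
    rw [mem_normalizer_M'_iff, hgv]
    simp
  have hg := inv_mem hg0
  obtain ⟨B, hB, h2, -, hB'⟩ := conj_M' hg
  obtain ⟨h0, h1⟩ := mem_normalizer_M'_iff.1 hg0
  obtain ⟨r0, r1, r2⟩ := col_inv h0 h1
  have e00 : (g.1⁻¹).1 0 0 = d := by
    have e1 : g.1.1 0 0 = (d : K)⁻¹ := by rw [hgv]; rfl
    rw [e1] at r2
    calc (g.1⁻¹).1 0 0 = (g.1⁻¹).1 0 0 * (d : K)⁻¹ * d := by field_simp
      _ = d := by rw [r2, one_mul]
  have e : B = A := by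
    rw [hB]
    have e1 : (g⁻¹ : GD Δ).1⁻¹ = g.1 := by
      show g.1⁻¹⁻¹ = g.1
      rw [inv_inv]
    rw [e1, hgv]
    have e2 : (g⁻¹ : GD Δ).1.1 0 0 = d := e00
    rw [e2]
    ext i j
    fin_cases i <;> fin_cases j <;> simp [hd]
  refine ⟨g⁻¹, hg, e00, ?_⟩
  rwa [e] at hB'

/-! ### Fusion -/

/-- A simple reflection of determinant one. -/
noncomputable def s1 (Δ : Subgroup Kˣ) : GD Δ :=
  ⟨⟨!![0, 1, 0; -1, 0, 0; 0, 0, 1], !![0, -1, 0; 1, 0, 0; 0, 0, 1],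
    by ext i j; fin_cases i <;> fin_cases j <;> simp [Matrix.mul_apply, Fin.sum_univ_three],
    by ext i j; fin_cases i <;> fin_cases j <;> simp [Matrix.mul_apply, Fin.sum_univ_three]⟩, by
    rw [Subgroup.mem_comap]
    have e : Matrix.GeneralLinearGroup.det (⟨!![0, 1, 0; -1, 0, 0; 0, 0, 1], !![0, -1, 0; 1, 0, 0; 0, 0, 1],
      by ext i j; fin_cases i <;> fin_cases j <;> simp [Matrix.mul_apply, Fin.sum_univ_three],
      by ext i j; fin_cases i <;> fin_cases j <;> simp [Matrix.mul_apply, Fin.sum_univ_three]⟩ : GL (Fin 3) K) = 1 := by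
      apply Units.ext
      rw [Matrix.GeneralLinearGroup.val_det_apply]
      simp [Matrix.det_fin_three]
    rw [e]
    exact one_mem _⟩

/-- A simple reflection of determinant one. -/
noncomputable def s2 (Δ : Subgroup Kˣ) : GD Δ :=
  ⟨⟨!![1, 0, 0; 0, 0, 1; 0, -1, 0], !![1, 0, 0; 0, 0, -1; 0, 1, 0],
    by ext i j; fin_cases i <;> fin_cases j <;> simp [Matrix.mul_apply, Fin.sum_univ_three],
    by ext i j; fin_cases i <;> fin_cases j <;> simp [Matrix.mul_apply, Fin.sum_univ_three]⟩, by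
    rw [Subgroup.mem_comap]
    have e : Matrix.GeneralLinearGroup.det (⟨!![1, 0, 0; 0, 0, 1; 0, -1, 0], !![1, 0, 0; 0, 0, -1; 0, 1, 0],
      by ext i j; fin_cases i <;> fin_cases j <;> simp [Matrix.mul_apply, Fin.sum_univ_three],
      by ext i j; fin_cases i <;> fin_cases j <;> simp [Matrix.mul_apply, Fin.sum_univ_three]⟩ : GL (Fin 3) K) = 1 := by
      apply Units.ext
      rw [Matrix.GeneralLinearGroup.val_det_apply]
      simp [Matrix.det_fin_three]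
    rw [e]
    exact one_mem _⟩

theorem s1_val : (s1 Δ).1.1 = !![0, 1, 0; -1, 0, 0; 0, 0, 1] := rfl
theorem s1_inv : ((s1 Δ).1⁻¹).1 = !![0, -1, 0; 1, 0, 0; 0, 0, 1] := rfl
theorem s2_val : (s2 Δ).1.1 = !![1, 0, 0; 0, 0, 1; 0, -1, 0] := rfl
theorem s2_inv : ((s2 Δ).1⁻¹).1 = !![1, 0, 0; 0, 0, -1; 0, 1, 0] := rfl

theorem s1_mem : s1 Δ ∈ Subgroup.normalizer (M Δ : Set (GD Δ)) := by
  rw [mem_normalizer_M_iff, s1_val]
  simp

theorem s2_mem : s2 Δ ∈ Subgroup.normalizer (M' Δ : Set (GD Δ)) := by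
  rw [mem_normalizer_M'_iff, s2_val]
  simp

theorem conj_s1 (x : GL (Fin 3) K) : ((s1 Δ).1⁻¹ * x * (s1 Δ).1).1 =
    !![x.1 1 1, -x.1 1 0, -x.1 1 2; -x.1 0 1, x.1 0 0, x.1 0 2; -x.1 2 1, x.1 2 0, x.1 2 2] := by
  show ((s1 Δ).1⁻¹).1 * x.1 * (s1 Δ).1.1 = _
  rw [s1_val, s1_inv]
  ext i j
  fin_cases i <;> fin_cases j <;> simp [Matrix.vecMul, dotProduct, Matrix.mul_apply, Fin.sum_univ_three]

theorem conj_s2 (x : GL (Fin 3) K) : ((s2 Δ).1⁻¹ * x * (s2 Δ).1).1 =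
    !![x.1 0 0, -x.1 0 2, x.1 0 1; -x.1 2 0, x.1 2 2, -x.1 2 1; x.1 1 0, -x.1 1 2, x.1 1 1] := by
  show ((s2 Δ).1⁻¹).1 * x.1 * (s2 Δ).1.1 = _
  rw [s2_val, s2_inv]
  ext i j
  fin_cases i <;> fin_cases j <;> simp [Matrix.vecMul, dotProduct, Matrix.mul_apply, Fin.sum_univ_three]

/-- The set of diagonal matrices. -/
def Dg (x : Matrix (Fin 3) (Fin 3) K) : Prop :=
  x 0 1 = 0 ∧ x 0 2 = 0 ∧ x 1 0 = 0 ∧ x 1 2 = 0 ∧ x 2 0 = 0 ∧ x 2 1 = 0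

theorem Dg.up {x : Matrix (Fin 3) (Fin 3) K} (h : Dg x) : Up x := ⟨h.2.2.1, h.2.2.2.2.1, h.2.2.2.2.2⟩

open Cfsg.Agent.H139.Bruhat in
theorem perm_one {h : GL (Fin 3) K} (hh : Dg h.1) :
    ∃ h' : GL (Fin 3) K, Dg h'.1 ∧ permGL K 3 (Equiv.swap 0 1) * h = h' * (s1 Δ).1 := by
  refine ⟨permGL K 3 (Equiv.swap 0 1) * h * (s1 Δ).1⁻¹, ?_, by group⟩
  obtain ⟨h1, h2, h3, h4, h5, h6⟩ := hh
  have e : ∀ i j, (permGL K 3 (Equiv.swap 0 1) * h * (s1 Δ).1⁻¹).1 i j =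
      h.1 ((Equiv.swap 0 1 : Equiv.Perm (Fin 3))⁻¹ i) 0 * ((s1 Δ).1⁻¹).1 0 j +
      h.1 ((Equiv.swap 0 1 : Equiv.Perm (Fin 3))⁻¹ i) 1 * ((s1 Δ).1⁻¹).1 1 j +
      h.1 ((Equiv.swap 0 1 : Equiv.Perm (Fin 3))⁻¹ i) 2 * ((s1 Δ).1⁻¹).1 2 j := by
    intro i j
    rw [mul_entry]
    have : ∀ k, (permGL K 3 (Equiv.swap 0 1) * h).1 i k = h.1 ((Equiv.swap 0 1 : Equiv.Perm (Fin 3))⁻¹ i) k :=
      fun k => permGL_mul_apply _ _ _ _
    rw [this, this, this]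
  rw [s1_inv] at e
  have t0 : (Equiv.swap 0 1 : Equiv.Perm (Fin 3))⁻¹ 0 = 1 := by decide
  have t1 : (Equiv.swap 0 1 : Equiv.Perm (Fin 3))⁻¹ 1 = 0 := by decide
  have t2 : (Equiv.swap 0 1 : Equiv.Perm (Fin 3))⁻¹ 2 = 2 := by decide
  refine ⟨?_, ?_, ?_, ?_, ?_, ?_⟩
  all_goals (rw [e]; simp only [t0, t1, t2, h1, h2, h3, h4, h5, h6]; simp)

open Cfsg.Agent.H139.Bruhat in
theorem perm_two {h : GL (Fin 3) K} (hh : Dg h.1) :
    ∃ h' : GL (Fin 3) K, Dg h'.1 ∧ permGL K 3 (Equiv.swap 1 2) * h = h' * (s2 Δ).1 := by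
  refine ⟨permGL K 3 (Equiv.swap 1 2) * h * (s2 Δ).1⁻¹, ?_, by group⟩
  obtain ⟨h1, h2, h3, h4, h5, h6⟩ := hh
  have e : ∀ i j, (permGL K 3 (Equiv.swap 1 2) * h * (s2 Δ).1⁻¹).1 i j =
      h.1 ((Equiv.swap 1 2 : Equiv.Perm (Fin 3))⁻¹ i) 0 * ((s2 Δ).1⁻¹).1 0 j +
      h.1 ((Equiv.swap 1 2 : Equiv.Perm (Fin 3))⁻¹ i) 1 * ((s2 Δ).1⁻¹).1 1 j +
      h.1 ((Equiv.swap 1 2 : Equiv.Perm (Fin 3))⁻¹ i) 2 * ((s2 Δ).1⁻¹).1 2 j := by
    intro i j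
    rw [mul_entry]
    have : ∀ k, (permGL K 3 (Equiv.swap 1 2) * h).1 i k = h.1 ((Equiv.swap 1 2 : Equiv.Perm (Fin 3))⁻¹ i) k :=
      fun k => permGL_mul_apply _ _ _ _
    rw [this, this, this]
  rw [s2_inv] at e
  have t0 : (Equiv.swap 1 2 : Equiv.Perm (Fin 3))⁻¹ 0 = 0 := by decide
  have t1 : (Equiv.swap 1 2 : Equiv.Perm (Fin 3))⁻¹ 1 = 2 := by decide
  have t2 : (Equiv.swap 1 2 : Equiv.Perm (Fin 3))⁻¹ 2 = 1 := by decide
  refine ⟨?_, ?_, ?_, ?_, ?_, ?_⟩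
  all_goals (rw [e]; simp only [t0, t1, t2, h1, h2, h3, h4, h5, h6]; simp)

/-- The six Weyl group representatives of determinant one. -/
def Wl (w : GD Δ) : Prop := w = 1 ∨ w = s1 Δ ∨ w = s2 Δ ∨ w = s1 Δ * s2 Δ ∨ w = s2 Δ * s1 Δ ∨ w = s1 Δ * (s2 Δ * s1 Δ)

open Cfsg.Agent.H139.Bruhat in
theorem perm_all (σ : Equiv.Perm (Fin 3)) {h : GL (Fin 3) K} (hh : Dg h.1) :
    ∃ h' : GL (Fin 3) K, Dg h'.1 ∧ ∃ w : GD Δ, Wl w ∧ permGL K 3 σ * h = h' * w.1 := by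
  have hσ : ∀ σ : Equiv.Perm (Fin 3), σ = 1 ∨ σ = Equiv.swap 0 1 ∨ σ = Equiv.swap 1 2 ∨
      σ = Equiv.swap 0 1 * Equiv.swap 1 2 ∨ σ = Equiv.swap 1 2 * Equiv.swap 0 1 ∨
      σ = Equiv.swap 0 1 * (Equiv.swap 1 2 * Equiv.swap 0 1) := by decide
  obtain ⟨a1, ha1, e1⟩ := perm_one (Δ := Δ) hh
  obtain ⟨a2, ha2, e2⟩ := perm_two (Δ := Δ) hh
  obtain ⟨b1, hb1, f1⟩ := perm_one (Δ := Δ) ha2
  obtain ⟨b2, hb2, f2⟩ := perm_two (Δ := Δ) ha1
  obtain ⟨c1, hc1, g1⟩ := perm_one (Δ := Δ) hb2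
  rcases hσ σ with rfl | rfl | rfl | rfl | rfl | rfl
  · exact ⟨h, hh, 1, Or.inl rfl, by rw [map_one, one_mul]; exact (mul_one h).symm⟩
  · exact ⟨a1, ha1, s1 Δ, Or.inr (Or.inl rfl), e1⟩
  · exact ⟨a2, ha2, s2 Δ, Or.inr (Or.inr (Or.inl rfl)), e2⟩
  · refine ⟨b1, hb1, s1 Δ * s2 Δ, Or.inr (Or.inr (Or.inr (Or.inl rfl))), ?_⟩
    rw [map_mul, mul_assoc, e2, ← mul_assoc, f1, mul_assoc]
    rfl
  · refine ⟨b2, hb2, s2 Δ * s1 Δ, Or.inr (Or.inr (Or.inr (Or.inr (Or.inl rfl)))), ?_⟩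
    rw [map_mul, mul_assoc, e1, ← mul_assoc, f2, mul_assoc]
    rfl
  · refine ⟨c1, hc1, s1 Δ * (s2 Δ * s1 Δ), Or.inr (Or.inr (Or.inr (Or.inr (Or.inr rfl)))), ?_⟩
    rw [map_mul, map_mul, mul_assoc, mul_assoc, e1, ← mul_assoc (permGL K 3 (Equiv.swap 1 2)), f2, mul_assoc b2,
      ← mul_assoc (permGL K 3 (Equiv.swap 0 1)), g1, mul_assoc]
    rfl

/-- **Bruhat decomposition** in `GD Δ`. -/
theorem bruhat (g : GD Δ) : ∃ b w v : GD Δ, Up b.1.1 ∧ Wl w ∧ v ∈ T Δ ∧ g = b * w * v := by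
  obtain ⟨u, hu, σ, v, hv, e⟩ := Cfsg.Agent.H139.Bruhat.bruhat g.1
  rw [up_iff] at hu hv
  -- the diagonal part of `v`
  have hdet : (Matrix.diagonal fun i => v.1 i i).det ≠ 0 := by
    rw [Matrix.det_diagonal]
    apply Finset.prod_ne_zero_iff.2
    intro i _ h
    have := hv.diag_mul_inv i
    rw [h, zero_mul] at this
    exact zero_ne_one this
  obtain ⟨h, hh⟩ : ∃ h : GL (Fin 3) K, h.1 = Matrix.diagonal fun i => v.1 i i :=
    ⟨Matrix.GeneralLinearGroup.mkOfDetNeZero _ hdet, rfl⟩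
  have hD : Dg h.1 := by
    rw [hh]
    refine ⟨?_, ?_, ?_, ?_, ?_, ?_⟩ <;> exact Matrix.diagonal_apply_ne _ (by decide)
  have hT : UT (h⁻¹ * v).1 := by
    refine ⟨(hD.up.inv).mul hv, fun i => ?_⟩
    rw [(hD.up.inv).mul_diag hv]
    have e1 := hD.up.diag_mul_inv i
    have e2 : h.1 i i = v.1 i i := by rw [hh, Matrix.diagonal_apply_eq]
    rw [← e2, mul_comm]
    exact e1
  obtain ⟨h', hh', w, hw, ew⟩ := perm_all (Δ := Δ) σ hD
  have hdetT : ∀ x : GL (Fin 3) K, UT x.1 → Matrix.GeneralLinearGroup.det x = 1 := by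
    intro x hx
    apply Units.ext
    rw [det_entries, hx.1.1, hx.1.2.1, hx.1.2.2, hx.2, hx.2, hx.2]
    simp
  have hvm : h⁻¹ * v ∈ GD Δ := by
    rw [Subgroup.mem_comap, hdetT _ hT]
    exact one_mem _
  have eg : g.1 = u * h' * w.1 * (h⁻¹ * v) := by
    rw [e]
    calc u * Cfsg.Agent.H139.Bruhat.permGL K 3 σ * v = u * (Cfsg.Agent.H139.Bruhat.permGL K 3 σ * h) * (h⁻¹ * v) := by group
      _ = _ := by rw [ew]; group
  have hb : u * h' ∈ GD Δ := by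
    have : u * h' = g.1 * (h⁻¹ * v)⁻¹ * w.1⁻¹ := by rw [eg]; group
    rw [this]
    exact mul_mem (mul_mem g.2 (inv_mem hvm)) (inv_mem w.2)
  exact ⟨⟨u * h', hb⟩, w, ⟨h⁻¹ * v, hvm⟩, hu.mul hh'.up, hw, hT, Subtype.ext eg⟩

section Alperin

variable {L : Subgroup (GD Δ) → GD Δ → Prop}

/-- All the `T`-fusion induced by `g` is in `L`. -/
def Good (L : Subgroup (GD Δ) → GD Δ → Prop) (g : GD Δ) : Prop :=
  ∀ P ≤ T Δ, P.map (MulAut.conj g⁻¹).toMonoidHom ≤ T Δ → L P g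

theorem map_conj_mul (P : Subgroup (GD Δ)) (g g' : GD Δ) : P.map (MulAut.conj (g * g')⁻¹).toMonoidHom =
    (P.map (MulAut.conj g⁻¹).toMonoidHom).map (MulAut.conj g'⁻¹).toMonoidHom := by
  rw [Subgroup.map_map]
  congr 1
  ext x : 1
  show (g * g')⁻¹ * x * (g * g')⁻¹⁻¹ = g'⁻¹ * (g⁻¹ * x * g⁻¹⁻¹) * g'⁻¹⁻¹
  group

theorem map_conj_le {N : Subgroup (GD Δ)} {g : GD Δ} (hg : g ∈ Subgroup.normalizer (N : Set (GD Δ))) {P : Subgroup (GD Δ)}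
    (hP : P ≤ N) : P.map (MulAut.conj g⁻¹).toMonoidHom ≤ N := by
  rintro _ ⟨x, hx, rfl⟩
  have := (Subgroup.mem_normalizer_iff.1 (inv_mem hg) x).1 (hP hx)
  exact this

/-- **Fusion in the unitriangular group** is generated by the normalisers of `T`, `M`, `M'`. -/
theorem alperin_gl3 (L : Subgroup (GD Δ) → GD Δ → Prop)
    (hmono : ∀ P P' g, P' ≤ P → L P g → L P' g)
    (hcomp : ∀ P g g', P ≤ T Δ → P.map (MulAut.conj g⁻¹).toMonoidHom ≤ T Δ →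
      P.map (MulAut.conj (g * g')⁻¹).toMonoidHom ≤ T Δ → L P g → L (P.map (MulAut.conj g⁻¹).toMonoidHom) g' →
      L P (g * g'))
    (hT : ∀ g ∈ Subgroup.normalizer (T Δ : Set (GD Δ)), L (T Δ) g)
    (hM : ∀ g ∈ Subgroup.normalizer (M Δ : Set (GD Δ)), L (M Δ) g)
    (hM' : ∀ g ∈ Subgroup.normalizer (M' Δ : Set (GD Δ)), L (M' Δ) g) :
    ∀ P ≤ T Δ, ∀ g, P.map (MulAut.conj g⁻¹).toMonoidHom ≤ T Δ → L P g := by
  -- elements of `N(T)`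
  have hN : ∀ b ∈ Subgroup.normalizer (T Δ : Set (GD Δ)), ∀ g, Good L g → Good L (b * g) := by
    intro b hb g hg P hP hPg
    have h1 := map_conj_le hb hP
    refine hcomp P b g hP h1 hPg (hmono _ _ _ hP (hT b hb)) (hg _ h1 ?_)
    rw [← map_conj_mul]
    exact hPg
  have hN' : ∀ b ∈ Subgroup.normalizer (T Δ : Set (GD Δ)), ∀ g, Good L g → Good L (g * b) := by
    intro b hb g hg P hP hPg
    have h1 : P.map (MulAut.conj g⁻¹).toMonoidHom ≤ T Δ := by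
      have := map_conj_le (inv_mem hb) hPg
      rw [← map_conj_mul, mul_inv_cancel_right] at this
      exact this
    exact hcomp P g b hP h1 hPg (hg P hP h1) (hmono _ _ _ h1 (hT b hb))
  -- extension by `s1`, `s2`
  have hs1 : ∀ w, Good L w → (∀ x ∈ T Δ, (s1 Δ * w)⁻¹ * x * (s1 Δ * w) ∈ T Δ → x.1.1 0 1 = 0) → Good L (s1 Δ * w) := by
    intro w hw hx P hP hPw
    have hPM : P ≤ M Δ := by
      intro x hxP
      refine ⟨hP hxP, hx x (hP hxP) ?_⟩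
      have h : (s1 Δ * w)⁻¹ * x * (s1 Δ * w)⁻¹⁻¹ ∈ T Δ := hPw (Subgroup.mem_map_of_mem _ hxP)
      rwa [inv_inv] at h
    have h1 : P.map (MulAut.conj (s1 Δ)⁻¹).toMonoidHom ≤ T Δ := (map_conj_le s1_mem hPM).trans M_le_T
    refine hcomp P _ w hP h1 hPw (hmono _ _ _ hPM (hM _ s1_mem)) (hw _ h1 ?_)
    rw [← map_conj_mul]
    exact hPw
  have hs2 : ∀ w, Good L w → (∀ x ∈ T Δ, (s2 Δ * w)⁻¹ * x * (s2 Δ * w) ∈ T Δ → x.1.1 1 2 = 0) → Good L (s2 Δ * w) := by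
    intro w hw hx P hP hPw
    have hPM : P ≤ M' Δ := by
      intro x hxP
      refine ⟨hP hxP, hx x (hP hxP) ?_⟩
      have h : (s2 Δ * w)⁻¹ * x * (s2 Δ * w)⁻¹⁻¹ ∈ T Δ := hPw (Subgroup.mem_map_of_mem _ hxP)
      rwa [inv_inv] at h
    have h1 : P.map (MulAut.conj (s2 Δ)⁻¹).toMonoidHom ≤ T Δ := (map_conj_le s2_mem hPM).trans M'_le_T
    refine hcomp P _ w hP h1 hPw (hmono _ _ _ hPM (hM' _ s2_mem)) (hw _ h1 ?_)
    rw [← map_conj_mul]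
    exact hPw
  have g1 : Good L (1 : GD Δ) := fun P hP _ => hmono _ _ _ hP (hT 1 (one_mem _))
  have c1 : ∀ x : GD Δ, ((s1 Δ)⁻¹ * x * s1 Δ).1.1 =
    !![x.1.1 1 1, -x.1.1 1 0, -x.1.1 1 2; -x.1.1 0 1, x.1.1 0 0, x.1.1 0 2; -x.1.1 2 1, x.1.1 2 0, x.1.1 2 2] :=
    fun x => conj_s1 x.1
  have c2 : ∀ x : GD Δ, ((s2 Δ)⁻¹ * x * s2 Δ).1.1 =
    !![x.1.1 0 0, -x.1.1 0 2, x.1.1 0 1; -x.1.1 2 0, x.1.1 2 2, -x.1.1 2 1; x.1.1 1 0, -x.1.1 1 2, x.1.1 1 1] :=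
    fun x => conj_s2 x.1
  have gs1 : Good L (s1 Δ) := by
    have := hs1 1 g1 (fun x _ h => by
      rw [mul_one] at h
      have := h.1.1
      rw [c1] at this
      simpa using this)
    rwa [mul_one] at this
  have gs2 : Good L (s2 Δ) := by
    have := hs2 1 g1 (fun x _ h => by
      rw [mul_one] at h
      have := h.1.2.2
      rw [c2] at this
      simpa using this)
    rwa [mul_one] at this
  have e12 : ∀ x : GD Δ, (s1 Δ * s2 Δ)⁻¹ * x * (s1 Δ * s2 Δ) = (s2 Δ)⁻¹ * ((s1 Δ)⁻¹ * x * s1 Δ) * s2 Δ :=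
    fun x => by group
  have e21 : ∀ x : GD Δ, (s2 Δ * s1 Δ)⁻¹ * x * (s2 Δ * s1 Δ) = (s1 Δ)⁻¹ * ((s2 Δ)⁻¹ * x * s2 Δ) * s1 Δ :=
    fun x => by group
  have e121 : ∀ x : GD Δ, (s1 Δ * (s2 Δ * s1 Δ))⁻¹ * x * (s1 Δ * (s2 Δ * s1 Δ)) =
      (s1 Δ)⁻¹ * ((s2 Δ)⁻¹ * ((s1 Δ)⁻¹ * x * s1 Δ) * s2 Δ) * s1 Δ := fun x => by group
  have gs12 : Good L (s1 Δ * s2 Δ) := hs1 _ gs2 (fun x _ h => by
    rw [e12] at h
    have := h.1.2.1
    rw [c2, c1] at this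
    simpa using this)
  have gs21 : Good L (s2 Δ * s1 Δ) := hs2 _ gs1 (fun x _ h => by
    rw [e21] at h
    have := h.1.2.1
    rw [c1, c2] at this
    simpa using this)
  have gs121 : Good L (s1 Δ * (s2 Δ * s1 Δ)) := hs1 _ gs21 (fun x _ h => by
    rw [e121] at h
    have := h.1.2.2
    rw [c1, c2, c1] at this
    simpa using this)
  intro P hP g hg
  obtain ⟨b, w, v, hb, hw, hv, rfl⟩ := bruhat g
  have gw : Good L w := by
    rcases hw with rfl | rfl | rfl | rfl | rfl | rfl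
    exacts [g1, gs1, gs2, gs12, gs21, gs121]
  exact hN' v (Subgroup.le_normalizer hv) _ (hN b (up_mem_normalizer hb) w gw) P hP hg

end Alperin

/-! ### Coordinates on `T` -/

theorem T_mul {x y : GD Δ} (hx : x ∈ T Δ) (hy : y ∈ T Δ) :
    (x * y).1.1 0 1 = x.1.1 0 1 + y.1.1 0 1 ∧ (x * y).1.1 1 2 = x.1.1 1 2 + y.1.1 1 2 ∧
      (x * y).1.1 0 2 = x.1.1 0 2 + y.1.1 0 2 + x.1.1 0 1 * y.1.1 1 2 := by
  obtain ⟨⟨h1, h2, h3⟩, h4⟩ := hx
  obtain ⟨⟨k1, k2, k3⟩, k4⟩ := hy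
  refine ⟨?_, ?_, ?_⟩
  · show (x.1 * y.1).1 0 1 = _
    rw [mul_entry, h4, k4, k3]; ring
  · show (x.1 * y.1).1 1 2 = _
    rw [mul_entry, h4, k4, h1]; ring
  · show (x.1 * y.1).1 0 2 = _
    rw [mul_entry, h4, k4]; ring

theorem T_ext {x y : GD Δ} (hx : x ∈ T Δ) (hy : y ∈ T Δ) (h01 : x.1.1 0 1 = y.1.1 0 1)
    (h12 : x.1.1 1 2 = y.1.1 1 2) (h02 : x.1.1 0 2 = y.1.1 0 2) : x = y := by
  obtain ⟨⟨h1, h2, h3⟩, h4⟩ := hx
  obtain ⟨⟨k1, k2, k3⟩, k4⟩ := hy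
  apply Subtype.ext
  apply Units.ext
  ext i j
  revert i
  refine fin3 ?_ ?_ ?_ <;> revert j <;> refine fin3 ?_ ?_ ?_
  · rw [h4, k4]
  · exact h01
  · exact h02
  · rw [h1, k1]
  · rw [h4, k4]
  · exact h12
  · rw [h2, k2]
  · rw [h3, k3]
  · rw [h4, k4]

theorem xx_coord (a b c : K) : (xx Δ a b c).1.1 0 1 = a ∧ (xx Δ a b c).1.1 1 2 = b ∧ (xx Δ a b c).1.1 0 2 = c :=
  ⟨rfl, rfl, rfl⟩

theorem eq_xx {x : GD Δ} (hx : x ∈ T Δ) : x = xx Δ (x.1.1 0 1) (x.1.1 1 2) (x.1.1 0 2) :=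
  T_ext hx (xx_mem _ _ _) rfl rfl rfl

end Cfsg.Agent.H454.AlperinGL3
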