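import Cfsg.Agent.H454.FineAux
import Cfsg.Agent.H912.BdSL
import Cfsg.Agent.H912.Bd4
import Cfsg.Agent.S0243
import Cfsg.Agent.S0249
import Cfsg.Agent.S0265
import Cfsg.Agent.S0813
import Cfsg.Agent.S2086
import Mathlib

/-!
# `Fine` for `PSL_n(q)`, `n ≥ 3` (helper454, S4881)
-/

set_option autoImplicit false

namespace Cfsg.Agent.H454.FinePsl

universe u v

open Cfsg.Agent.H698 Cfsg.Agent.H912.Bd Cfsg.Agent.H454.FineAux Matrix

section card

variable {F : Type*} [Field F] [Fintype F]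

theorem prod_le (q k : ℕ) :
    ∏ i : Fin (k + 1), (q ^ (k + 1) - q ^ (i : ℕ)) ≤ (q - 1) * q ^ ((k + 1) ^ 2 - 1) := by
  rw [Fin.prod_univ_castSucc]
  have h1 : ∏ i : Fin k, (q ^ (k + 1) - q ^ ((Fin.castSucc i : Fin (k + 1)) : ℕ)) ≤ (q ^ (k + 1)) ^ k := by
    calc _ ≤ ∏ _i : Fin k, q ^ (k + 1) := Finset.prod_le_prod' fun i _ => Nat.sub_le _ _
      _ = _ := by rw [Finset.prod_const, Finset.card_univ, Fintype.card_fin]
  have h2 : q ^ (k + 1) - q ^ ((Fin.last k : Fin (k + 1)) : ℕ) = (q - 1) * q ^ k := by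
    rw [Fin.val_last, pow_succ, Nat.sub_mul, one_mul, mul_comm]
  rw [h2]
  calc _ ≤ (q ^ (k + 1)) ^ k * ((q - 1) * q ^ k) := Nat.mul_le_mul_right _ h1
    _ = (q - 1) * q ^ ((k + 1) * k + k) := by rw [← pow_mul, pow_add]; ring
    _ = _ := by
      congr 2
      have : (k + 1) ^ 2 = (k + 1) * k + k + 1 := by ring
      omega

theorem card_pgl_le {q n : ℕ} (hF : Fintype.card F = q) (hn : 1 ≤ n) :
    Nat.card (ProjGenLinGroup (Fin n) F) ≤ q ^ (n ^ 2 - 1) := by
  obtain ⟨k, rfl⟩ : ∃ k, n = k + 1 := ⟨n - 1, by omega⟩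
  have h1 := Cfsg.Agent.S0265.card_GL_eq_PGL (F := F) (n := k + 1) (by omega)
  rw [Matrix.card_GL_field, hF, Nat.card_units, Nat.card_eq_fintype_card, hF] at h1
  have hq1 : 1 < q := hF ▸ Fintype.one_lt_card
  have h2 := prod_le q k
  rw [h1] at h2
  exact Nat.le_of_mul_le_mul_left h2 (by omega)

theorem dvd_card {q n r : ℕ} (hF : Fintype.card F = q) (hn : 2 ≤ n) (hr : r.Prime) (hrq : r ∣ q) :
    r ∣ Nat.card (ProjectiveSpecialLinearGroup (Fin n) F) := by
  have hq1 : 1 < q := hF ▸ Fintype.one_lt_card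
  have h1 := Cfsg.Agent.S0243.result hF n hn
  have h2 : r ∣ ∏ i : Fin n, (q ^ n - q ^ (i : ℕ)) := by
    refine (Dvd.dvd.trans ?_ (Finset.dvd_prod_of_mem _ (Finset.mem_univ (⟨1, by omega⟩ : Fin n))))
    refine Nat.dvd_sub (hrq.trans (dvd_pow_self q (by omega))) ?_
    simpa using hrq
  rw [← h1] at h2
  have h3 : ¬ r ∣ q - 1 := by
    intro h
    have h4 := (Nat.dvd_sub_iff_right (by omega : 1 ≤ q) hrq).1 h
    exact hr.one_lt.ne' (Nat.dvd_one.1 h4)
  rcases (Nat.Prime.dvd_mul hr).1 h2 with h4 | h4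
  · exact absurd (h4.trans (Nat.gcd_dvd_right _ _)) h3
  rcases (Nat.Prime.dvd_mul hr).1 h4 with h5 | h5
  · exact absurd h5 h3
  · exact h5

end card

/-- the inequality -/
theorem num {n q : ℕ} (hn : 3 ≤ n) (hq : 2 ≤ q) (h32 : ¬ (n = 3 ∧ q = 2)) : (q - 1) * n ^ 2 + 6 ≤ 3 * q ^ (n - 1) := by
  obtain ⟨a, rfl⟩ : ∃ a, q = a + 1 := ⟨q - 1, by omega⟩
  rw [Nat.add_sub_cancel]
  rcases (by omega : n = 3 ∨ 4 ≤ n) with rfl | h4
  · have ha : 2 ≤ a := by omega
    norm_num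
    nlinarith
  · clear h32 hn
    induction n, h4 using Nat.le_induction with
    | base =>
      norm_num
      have ha : 1 ≤ a := by omega
      nlinarith [mul_le_mul ha ha (by norm_num) (by omega), mul_self_nonneg (a * a)]
    | succ n hn ih =>
      have ha : 1 ≤ a := by omega
      have e : (a + 1) ^ (n + 1 - 1) = (a + 1) * (a + 1) ^ (n - 1) := by
        rw [← pow_succ']; congr 1; omega
      rw [e]
      have h1 : 2 * (3 * (a + 1) ^ (n - 1)) ≤ (a + 1) * (3 * (a + 1) ^ (n - 1)) := Nat.mul_le_mul_right _ (by omega)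
      have h2 : (n + 1) ^ 2 ≤ 2 * n ^ 2 := by nlinarith
      have h3 : a * (n + 1) ^ 2 ≤ a * (2 * n ^ 2) := Nat.mul_le_mul_left _ h2
      nlinarith

theorem charP_of_card {F : Type*} [Field F] [Fintype F] : ∃ p f : ℕ, p.Prime ∧ 1 ≤ f ∧ CharP F p ∧ Fintype.card F = p ^ f := by
  obtain ⟨p, hp⟩ := CharP.exists F
  obtain ⟨f, hpp, hf⟩ := FiniteField.card F p
  exact ⟨p, f, hpp, f.2, hp, hf⟩

/-- **`PSL_n(q)`, `n ≥ 3`**, `(n, q) ≠ (3, 4), (4, 2)`. -/
theorem fine_psl {T : Type u} [Group T] [Finite T] {F : Type} [Field F] [Fintype F] {n : ℕ} (hn : 3 ≤ n)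
    (h34 : ¬ (n = 3 ∧ Fintype.card F = 4)) (h42 : ¬ (n = 4 ∧ Fintype.card F = 2))
    (e : T ≃* ProjectiveSpecialLinearGroup (Fin n) F) : Cfsg.Agent.H698.Fine.{u, u} T := by
  obtain ⟨p, f, hp, hf, hchar, hF⟩ := charP_of_card (F := F)
  have hpf : Fact p.Prime := ⟨hp⟩
  have hs : IsSimpleGroup (ProjectiveSpecialLinearGroup (Fin n) F) := Cfsg.Agent.S0249.result n hn
  have hnt : Nontrivial T := e.toEquiv.nontrivial
  have hsT : IsSimpleGroup T := IsSimpleGroup.isSimpleGroup_of_surjective e.symm.toMonoidHom e.symm.surjective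
  have hA : Nat.card (MulAut T) = 2 * f * Nat.card (ProjGenLinGroup (Fin n) F) := by
    rw [card_mulAut_congr e, Cfsg.Agent.S0813.result p f hf hF n (by omega) (by omega), if_neg (by omega)]
  have hcT : Nat.card T = Nat.card (ProjectiveSpecialLinearGroup (Fin n) F) := Nat.card_congr e.toEquiv
  have hq2 : 2 ≤ p ^ f := by
    have := hF ▸ Fintype.one_lt_card (α := F)
    omega
  by_cases h32 : n = 3 ∧ Fintype.card F = 2
  · -- `PSL_3(2)`
    obtain ⟨rfl, hF2⟩ := h32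
    have hpgl : Nat.card (ProjGenLinGroup (Fin 3) F) = 168 := by
      have h1 := Cfsg.Agent.S0265.card_GL_eq_PGL (F := F) (n := 3) (by omega)
      rw [Matrix.card_GL_field, hF2, Nat.card_units, Nat.card_eq_fintype_card, hF2] at h1
      simp [Fin.prod_univ_succ] at h1
      omega
    have hpsl : Nat.card T = 168 := by
      have h1 := Cfsg.Agent.S0243.result hF2 3 (by norm_num)
      simp [Fin.prod_univ_succ] at h1
      omega
    have hf1 : f = 1 := by
      have h2 : 2 * f ≤ 2 := (two_f_le hp.two_le hf).trans (by rw [← hF, hF2])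
      omega
    refine fine_of_nonab fun hna => ?_
    refine Fine.of_lt5 (center_eq_bot hna) (by rw [hpsl]; norm_num) ?_
    intro p' m hp' h11 _ hm _
    rw [hA, hpgl, hf1]
    have h3 : p' ^ 3 ≤ p' ^ m := Nat.pow_le_pow_right (by omega) hm
    refine lt_of_lt_of_le ?_ h3
    obtain ⟨k, rfl⟩ : ∃ k, p' = k + 9 := ⟨p' - 9, by omega⟩
    rw [Nat.add_sub_cancel]
    nlinarith [sq_nonneg ((k : ℤ) - 2)]
  · refine fine_of_bd (r := p) (d := (p ^ f) ^ (n - 1) - 2) (a := Nat.gcd n (p ^ f - 1)) hp ?_ ?_ ?_ ?_ ?_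
    · rw [hcT]
      exact dvd_card hF (by omega) hp (dvd_pow_self p (by omega))
    · refine Cfsg.Agent.H487.HasSchurMultiplier.congr_left
        (Cfsg.Agent.S2086.result hF n (by omega) (by omega) ?_) e.symm
      simp only [Set.mem_insert_iff, Set.mem_singleton_iff, Prod.mk.injEq, not_or]
      rw [hF] at h34 h42 h32
      refine ⟨by omega, by omega, h32, h34, h42⟩
    · have h1 : ¬ p ∣ p ^ f - 1 := by
        intro h
        have h4 := (Nat.dvd_sub_iff_right (by omega : 1 ≤ p ^ f) (dvd_pow_self p (by omega))).1 h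
        exact hp.one_lt.ne' (Nat.dvd_one.1 h4)
      exact (Nat.Coprime.symm ((Nat.Prime.coprime_iff_not_dvd hp).2 fun h => h1 (h.trans (Nat.gcd_dvd_right _ _))))
    · intro K _ hK
      have h1 := (bd_psl (F := K) hp hK hn hchar).congr e
      rw [hF] at h1
      refine h1.mono ?_
      have h2 : 2 ^ 2 ≤ (p ^ f) ^ (n - 1) := by
        calc 2 ^ 2 ≤ 2 ^ (n - 1) := Nat.pow_le_pow_right (by norm_num) (by omega)
          _ ≤ _ := Nat.pow_le_pow_left hq2 _
      omega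
    · rw [hA]
      have h1 := card_pgl_le hF (show 1 ≤ n by omega)
      have h2 := two_f_le hp.two_le hf
      have h3 := num hn hq2 (by rw [← hF]; exact h32)
      calc 2 * f * Nat.card (ProjGenLinGroup (Fin n) F) ≤ (p ^ f) * (p ^ f) ^ (n ^ 2 - 1) := Nat.mul_le_mul h2 h1
        _ = (p ^ f) ^ (n ^ 2) := by
          rw [← pow_succ']
          congr 1
          have : 0 < n ^ 2 := by positivity
          omega
        _ ≤ 11 ^ ((p ^ f) ^ (n - 1) - 2) := pow_le_eleven (by omega) (by omega)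

end Cfsg.Agent.H454.FinePsl
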