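import Cfsg.Agent.H454.FineAux
import Cfsg.Agent.H175.BdSU
import Cfsg.Agent.H912.Bd4
import Cfsg.Agent.S0280
import Cfsg.Agent.S0283
import Cfsg.Agent.S0815
import Cfsg.Agent.S2089
import Mathlib

/-!
# `Fine` for `PSU_n(q)`, `n ≥ 3` (helper454, S4881)
-/

set_option autoImplicit false

namespace Cfsg.Agent.H454.FinePsu

universe u v

open Cfsg.Agent.H698 Cfsg.Agent.H912.Bd Cfsg.Agent.H454.FineAux Matrix

/-- the factor of the order of `PSU_n(q)` -/
def fac (q j : ℕ) : ℕ := if Even j then q ^ (j + 1) + 1 else q ^ (j + 1) - 1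

theorem pair_le {q : ℕ} (hq : 1 ≤ q) (a : ℕ) : (q ^ a - 1) * (q ^ (a + 1) + 1) ≤ q ^ (a + (a + 1)) := by
  have h0 : 0 < q ^ a := by positivity
  obtain ⟨b, hb⟩ : ∃ b, q ^ a = b + 1 := ⟨q ^ a - 1, by omega⟩
  have h1 : q ^ (a + 1) = (b + 1) * q := by rw [pow_succ, hb]
  have h2 : q ^ (a + (a + 1)) = (b + 1) * ((b + 1) * q) := by rw [pow_add q a (a + 1), h1, hb]
  rw [h2, h1, hb, Nat.add_sub_cancel]
  nlinarith

/-- `∏_{1 ≤ j ≤ 2k} fac q j ≤ q ^ (2 + 3 + ... + (2k + 1))` -/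
theorem prod_fac_le {q : ℕ} (hq : 1 ≤ q) (k : ℕ) :
    ∏ j ∈ Finset.range (2 * k), fac q (j + 1) ≤ q ^ (k * (2 * k + 3)) := by
  induction k with
  | zero => simp
  | succ k ih =>
    rw [show 2 * (k + 1) = 2 * k + 1 + 1 by ring, Finset.prod_range_succ, Finset.prod_range_succ]
    have h1 : fac q (2 * k + 1) = q ^ (2 * k + 2) - 1 := by
      unfold fac
      rw [if_neg (by rw [Nat.not_even_iff_odd]; exact ⟨k, rfl⟩)]
    have h2 : fac q (2 * k + 1 + 1) = q ^ (2 * k + 2 + 1) + 1 := by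
      unfold fac
      rw [if_pos ⟨k + 1, by ring⟩]
    rw [h1, h2, mul_assoc]
    calc _ ≤ q ^ (k * (2 * k + 3)) * q ^ ((2 * k + 2) + (2 * k + 2 + 1)) := Nat.mul_le_mul ih (pair_le hq _)
      _ = _ := by rw [← pow_add]; congr 1; ring

theorem prod_fac_le' {q : ℕ} (hq : 1 ≤ q) (n : ℕ) :
    ∃ E, 2 * E = n * (n + 3) ∧ ∏ j ∈ Finset.range n, fac q (j + 1) ≤ q ^ E := by
  rcases Nat.even_or_odd' n with ⟨k, rfl | rfl⟩
  · exact ⟨k * (2 * k + 3), by ring, prod_fac_le hq k⟩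
  · refine ⟨k * (2 * k + 3) + (2 * k + 2), by ring, ?_⟩
    rw [Finset.prod_range_succ, pow_add]
    refine Nat.mul_le_mul (prod_fac_le hq k) ?_
    unfold fac
    rw [if_neg (by rw [Nat.not_even_iff_odd]; exact ⟨k, rfl⟩)]
    exact Nat.sub_le _ _

variable {F : Type*} [Field F] [Fintype F]

theorem card_le {n q : ℕ} (hF : Fintype.card F = q ^ 2) (hn : 2 ≤ n) :
    Nat.gcd n (q + 1) * Nat.card (Cfsg.PSU n F q) ≤ q ^ (n ^ 2 - 1) := by
  have hq : 1 ≤ q := by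
    rcases Nat.eq_zero_or_pos q with h | h
    · rw [h] at hF
      exact absurd hF (by simp)
    · exact h
  have h1 := Cfsg.Agent.S0280.result hF n hn
  obtain ⟨m, rfl⟩ : ∃ m, n = m + 1 := ⟨n - 1, by omega⟩
  obtain ⟨E, hE, hle⟩ := prod_fac_le' hq m
  rw [Finset.prod_range_succ'] at h1
  have h2 : ∏ i ∈ Finset.range m, (if Even (i + 1) then q ^ (i + 1 + 1) + 1 else q ^ (i + 1 + 1) - 1) =
      ∏ j ∈ Finset.range m, fac q (j + 1) := rfl
  rw [h2, if_pos (by decide), zero_add, pow_one] at h1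
  have h3 : (q + 1) * (Nat.gcd (m + 1) (q + 1) * Nat.card (Cfsg.PSU (m + 1) F q)) =
      (q + 1) * (q ^ ((m + 1) * (m + 1 - 1) / 2) * ∏ j ∈ Finset.range m, fac q (j + 1)) := by
    linear_combination h1
  rw [Nat.eq_of_mul_eq_mul_left (by omega) h3]
  calc _ ≤ q ^ ((m + 1) * (m + 1 - 1) / 2) * q ^ E := Nat.mul_le_mul_left _ hle
    _ = q ^ ((m + 1) ^ 2 - 1) := by
      rw [← pow_add]
      congr 1
      have h4 : 2 * ((m + 1) * (m + 1 - 1) / 2) = (m + 1) * m := by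
        rw [Nat.add_sub_cancel]
        exact Nat.mul_div_cancel' (by rw [mul_comm]; exact (Nat.even_mul_succ_self m).two_dvd)
      have h5 : (m + 1) ^ 2 = (m + 1) * m + m + 1 := by ring
      have h6 : m * (m + 3) = (m + 1) * m + 2 * m := by ring
      omega

theorem dvd_card {n q r : ℕ} (hF : Fintype.card F = q ^ 2) (hn : 2 ≤ n) (hr : r.Prime) (hrq : r ∣ q) :
    r ∣ Nat.card (Cfsg.PSU n F q) := by
  have h1 := Cfsg.Agent.S0280.result hF n hn
  have h2 : r ∣ q ^ (n * (n - 1) / 2) := by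
    refine hrq.trans (dvd_pow_self q ?_)
    obtain ⟨m, rfl⟩ : ∃ m, n = m + 2 := ⟨n - 2, by omega⟩
    have : 2 ≤ (m + 2) * (m + 2 - 1) := by
      rw [show m + 2 - 1 = m + 1 by omega]
      nlinarith
    omega
  have h3 := h2.mul_right (∏ i ∈ Finset.range n, (if Even i then q ^ (i + 1) + 1 else q ^ (i + 1) - 1))
  rw [← h1] at h3
  have h4 : ¬ r ∣ q + 1 := by
    intro h
    have h4 := (Nat.dvd_add_right hrq).1 h
    exact hr.one_lt.ne' (Nat.dvd_one.1 h4)
  rcases (Nat.Prime.dvd_mul hr).1 h3 with h5 | h5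
  · exact absurd (h5.trans (Nat.gcd_dvd_right _ _)) h4
  rcases (Nat.Prime.dvd_mul hr).1 h5 with h6 | h6
  · exact absurd h6 h4
  · exact h6

/-- the inequality -/
theorem num {n q : ℕ} (hn : 4 ≤ n) (hq : 3 ≤ q) : (q - 1) * n ^ 2 + 3 ≤ 3 * ((q - 1) * q ^ (n - 2)) := by
  obtain ⟨a, rfl⟩ : ∃ a, q = a + 1 := ⟨q - 1, by omega⟩
  rw [Nat.add_sub_cancel]
  have ha : 2 ≤ a := by omega
  induction n, hn using Nat.le_induction with
  | base =>
    norm_num
    nlinarith [mul_le_mul ha ha (by norm_num) (by omega), mul_self_nonneg (a * a)]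
  | succ n hn ih =>
    have e : (a + 1) ^ (n + 1 - 2) = (a + 1) * (a + 1) ^ (n - 2) := by
      rw [← pow_succ']; congr 1; omega
    rw [e]
    have h1 : 2 * (3 * (a * (a + 1) ^ (n - 2))) ≤ (a + 1) * (3 * (a * (a + 1) ^ (n - 2))) := Nat.mul_le_mul_right _ (by omega)
    have h2 : (n + 1) ^ 2 ≤ 2 * n ^ 2 := by nlinarith
    have h3 : a * (n + 1) ^ 2 ≤ a * (2 * n ^ 2) := Nat.mul_le_mul_left _ h2
    nlinarith

theorem num_two {n : ℕ} (hn : 6 ≤ n) : n ^ 2 + 3 ≤ 3 * 2 ^ (n - 2) := by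
  induction n, hn using Nat.le_induction with
  | base => norm_num
  | succ n hn ih =>
    have e : 2 ^ (n + 1 - 2) = 2 * 2 ^ (n - 2) := by
      rw [← pow_succ']; congr 1; omega
    rw [e]
    nlinarith

/-- `q ^ (n ^ 2) ≤ 11 ^ ((q - 1) q ^ (n - 2) - 1)` -/
theorem num_all {n q : ℕ} (hn : 3 ≤ n) (hq : 2 ≤ q) (h32 : ¬ (n = 3 ∧ q = 2)) (h42 : ¬ (n = 4 ∧ q = 2))
    (h52 : ¬ (n = 5 ∧ q = 2)) : q ^ (n ^ 2) ≤ 11 ^ ((q - 1) * q ^ (n - 2) - 1) := by
  rcases (by omega : (n = 3 ∧ q = 3) ∨ (n = 3 ∧ 4 ≤ q) ∨ (4 ≤ n ∧ 3 ≤ q) ∨ (6 ≤ n ∧ q = 2)) with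
    ⟨rfl, rfl⟩ | ⟨rfl, h⟩ | ⟨h1, h2⟩ | ⟨h1, rfl⟩
  · norm_num
  · apply pow_le_eleven (by omega)
    obtain ⟨a, rfl⟩ : ∃ a, q = a + 4 := ⟨q - 4, by omega⟩
    have h1 : (a + 4 - 1) * (a + 4) ^ (3 - 2) = (a + 3) * (a + 4) := by
      rw [show 3 - 2 = 1 by norm_num, pow_one]; congr 1
    rw [h1]
    have h2 : (a + 3) * (a + 4) = a * a + 7 * a + 12 := by ring
    rw [h2, show a + 4 - 1 = a + 3 by omega]
    have h3 : 3 * (a * a + 7 * a + 12 - 1) = 3 * (a * a) + 21 * a + 33 := by omega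
    rw [h3]
    have := Nat.zero_le (a * a)
    omega
  · apply pow_le_eleven (by omega)
    have := num h1 h2
    omega
  · apply pow_le_eleven (by omega)
    have := num_two h1
    omega

/-- **`PSU_n(q)`, `n ≥ 3`**. -/
theorem fine_psu {T : Type u} [Group T] [Finite T] {F : Type} [Field F] [Fintype F] {n q : ℕ} (hF : Fintype.card F = q ^ 2)
    (hn : 3 ≤ n) (h32 : ¬ (n = 3 ∧ q = 2)) (h42 : ¬ (n = 4 ∧ q = 2)) (h43 : ¬ (n = 4 ∧ q = 3)) (h62 : ¬ (n = 6 ∧ q = 2))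
    (e : T ≃* Cfsg.PSU n F q) : Cfsg.Agent.H698.Fine.{u, u} T := by
  obtain ⟨p, hchar⟩ := CharP.exists F
  obtain ⟨k, hp, hk⟩ := FiniteField.card F p
  have hpf : Fact p.Prime := ⟨hp⟩
  obtain ⟨f, -, hq⟩ : ∃ f ≤ (k : ℕ), q = p ^ f := (Nat.dvd_prime_pow hp).1 (by rw [← hk, hF]; exact dvd_pow_self q two_ne_zero)
  have hf : 1 ≤ f := by
    rcases Nat.eq_zero_or_pos f with h | h
    · rw [h, pow_zero] at hq
      rw [hq, one_pow] at hF
      exact absurd (Fintype.one_lt_card (α := F)) (by omega)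
    · exact h
  have hpq : p ∣ q := by rw [hq]; exact dvd_pow_self p (by omega)
  have hq2 : 2 ≤ q := by
    rw [hq]
    exact (two_f_le hp.two_le hf).trans' (by omega)
  have hs : IsSimpleGroup (Cfsg.PSU n F q) := Cfsg.Agent.S0283.result hF n hn h32
  have hnt : Nontrivial T := e.toEquiv.nontrivial
  have hsT : IsSimpleGroup T := IsSimpleGroup.isSimpleGroup_of_surjective e.symm.toMonoidHom e.symm.surjective
  have hcT : Nat.card T = Nat.card (Cfsg.PSU n F q) := Nat.card_congr e.toEquiv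
  have hA : Nat.card (MulAut T) = (2 * f) * (Nat.gcd n (q + 1) * Nat.card (Cfsg.PSU n F q)) := by
    rw [card_mulAut_congr e, Cfsg.Agent.S0815.result p f hf hq hF n (by omega) (by omega)]
    ring
  have hle := card_le hF (show 2 ≤ n by omega)
  have hM : Cfsg.HasCyclicSchurMultiplier T (Nat.gcd n (q + 1)) := by
    refine Cfsg.Agent.H487.HasSchurMultiplier.congr_left (Cfsg.Agent.S2089.result n q hF hn h32 ?_) e.symm
    simp only [Set.mem_insert_iff, Set.mem_singleton_iff, Prod.mk.injEq, not_or]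
    exact ⟨h42, h43, h62⟩
  have hcop : (Nat.gcd n (q + 1)).Coprime p := by
    refine (Nat.Coprime.symm ((Nat.Prime.coprime_iff_not_dvd hp).2 fun h => ?_))
    have h4 := (Nat.dvd_add_right hpq).1 (h.trans (Nat.gcd_dvd_right _ _))
    exact hp.one_lt.ne' (Nat.dvd_one.1 h4)
  have hrT : p ∣ Nat.card T := by
    rw [hcT]
    exact dvd_card hF (by omega) hp hpq
  have hB : ∀ (K : Type u) [Field K], (p : K) ≠ 0 → Bd K p ((q - 1) * q ^ (n - 2)) T := fun K _ hK =>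
    Cfsg.Agent.H175.BdSU.bd_psu hp hF hn hK e
  have hpos : 1 ≤ (q - 1) * q ^ (n - 2) := Nat.mul_pos (by omega) (by positivity)
  by_cases h52 : n = 5 ∧ q = 2
  · obtain ⟨rfl, rfl⟩ := h52
    have hp2 : p = 2 := (Nat.prime_dvd_prime_iff_eq hp Nat.prime_two).1 hpq
    have hf1 : f = 1 := by
      rw [hp2] at hq
      exact (Nat.pow_right_injective le_rfl (by simpa using hq)).symm
    have hc : Nat.card (Cfsg.PSU 5 F 2) = 13685760 := by
      have h1 := Cfsg.Agent.S0280.result hF 5 (by norm_num)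
      simp [Finset.prod_range_succ, show ¬ Even 1 by decide, show Even 2 by decide, show ¬ Even 3 by decide,
        show Even 4 by decide] at h1
      omega
    refine fine_of_nonab fun hna => ?_
    refine Fine.of_lt (center_eq_bot hna) (by rw [hcT, hc]; norm_num) ?_
    intro p' m hp' h11 hpT _ hR
    have h8 : 8 ≤ m := by
      have h1 := hR.le_of_Bd hp' hp hrT hpT hM (by
        rw [show Nat.card (Multiplicative (ZMod (Nat.gcd 5 (2 + 1)))) = Nat.gcd 5 (2 + 1) by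
          rw [Nat.card_congr Multiplicative.toAdd, Nat.card_zmod]]
        exact hcop) hB
      norm_num at h1
      exact h1
    have h13 : 13 ≤ p' := by
      by_contra hlt
      rcases (by omega : p' = 11 ∨ p' = 12) with rfl | rfl
      · exact hpT (by rw [hcT, hc]; norm_num)
      · exact absurd hp' (by norm_num)
    rw [hA, hc, hf1]
    norm_num
    have h2 : 13 ^ 7 ≤ p' ^ 7 := Nat.pow_le_pow_left h13 7
    have h3 : p' ^ 8 ≤ p' ^ m := Nat.pow_le_pow_right (by omega) h8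
    have h4 : (p' - 3) * 27371520 ≤ (p' - 3) * p' ^ 7 := Nat.mul_le_mul_left _ (by norm_num at h2; omega)
    have h5 : (p' - 3) * p' ^ 7 + 3 * p' ^ 7 = p' ^ 8 := by
      rw [← add_mul, pow_succ p' 7, mul_comm (p' ^ 7)]
      congr 1
      omega
    norm_num at h2
    omega
  · refine fine_of_bd (r := p) (d := (q - 1) * q ^ (n - 2) - 1) hp hrT hM hcop ?_ ?_
    · intro K _ hK
      rw [Nat.sub_add_cancel hpos]
      exact hB K hK
    · rw [hA]
      have h2 : 2 * f ≤ q := by rw [hq]; exact two_f_le hp.two_le hf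
      calc _ ≤ q * q ^ (n ^ 2 - 1) := Nat.mul_le_mul h2 hle
        _ = q ^ (n ^ 2) := by
          rw [← pow_succ']
          congr 1
          have : 0 < n ^ 2 := by positivity
          omega
        _ ≤ _ := num_all hn hq2 h32 h42 h52

end Cfsg.Agent.H454.FinePsu
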