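import Mathlib

/-!
# Integral columns of norm 3 and 9: the combinatorial core of S3805

`core`: integral vectors `x, y, m, n` of norm 3 and `r` of norm 9 indexed by the irreducible characters,
with prescribed inner products, orthogonal to the degrees and to the values at three involutions, and
with the class algebra relations `e1, e2, e3`; then a character not orthogonal to `x` and `y` has an
involution in its kernel, or there are four characters of degree 1.
-/

set_option autoImplicit false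

namespace Cfsg.Agent.H454.KleinComb

variable {ι : Type*} [Fintype ι] [DecidableEq ι]

/-- An integral vector of norm 3. -/
theorem supp3 (f : ι → ℤ) (h : ∑ i, f i * f i = 3) :
    ∃ a b c : ι, a ≠ b ∧ a ≠ c ∧ b ≠ c ∧ (f a = 1 ∨ f a = -1) ∧ (f b = 1 ∨ f b = -1) ∧
      (f c = 1 ∨ f c = -1) ∧ ∀ i, i ≠ a → i ≠ b → i ≠ c → f i = 0 := by
  classical
  set S := Finset.univ.filter fun i => f i ≠ 0 with hS
  have h1 : ∑ i ∈ S, f i * f i = 3 := by
    rw [← h, hS, Finset.sum_filter]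
    refine Finset.sum_congr rfl fun i _ => ?_
    by_cases hi : f i = 0
    · simp [hi]
    · simp [hi]
  have h2 : ∀ i, i ∈ S → f i = 1 ∨ f i = -1 := by
    intro i hi
    have h3 : f i * f i ≤ ∑ i ∈ S, f i * f i :=
      Finset.single_le_sum (f := fun i => f i * f i) (fun j _ => mul_self_nonneg _) hi
    have h4 : f i ≠ 0 := (Finset.mem_filter.1 hi).2
    rw [h1] at h3
    have h5 : f i < 2 := by nlinarith
    have h6 : -2 < f i := by nlinarith
    omega
  have h3 : S.card = 3 := by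
    have : ∑ i ∈ S, f i * f i = S.card := by
      rw [Finset.card_eq_sum_ones, Nat.cast_sum]
      refine Finset.sum_congr rfl fun i hi => ?_
      rcases h2 i hi with h | h <;> rw [h] <;> norm_num
    rw [h1] at this
    exact_mod_cast this.symm
  obtain ⟨a, b, c, hab, hac, hbc, hS'⟩ := Finset.card_eq_three.1 h3
  refine ⟨a, b, c, hab, hac, hbc, h2 a (by rw [hS']; simp), h2 b (by rw [hS']; simp),
    h2 c (by rw [hS']; simp), fun i ha hb hc => ?_⟩
  by_contra hi
  have : i ∈ S := Finset.mem_filter.2 ⟨Finset.mem_univ _, hi⟩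
  rw [hS'] at this
  simp only [Finset.mem_insert, Finset.mem_singleton] at this
  tauto

/-- Summing over a three element support. -/
theorem sum3 {R : Type*} [CommRing R] (f g : ι → R) {a b c : ι} (hab : a ≠ b) (hac : a ≠ c)
    (hbc : b ≠ c) (h : ∀ i, i ≠ a → i ≠ b → i ≠ c → f i = 0) :
    ∑ i, f i * g i = f a * g a + f b * g b + f c * g c := by
  classical
  have h1 : ∑ i, f i * g i = ∑ i ∈ ({a, b, c} : Finset ι), f i * g i := by
    refine (Finset.sum_subset (Finset.subset_univ _) fun i _ hi => ?_).symm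
    simp only [Finset.mem_insert, Finset.mem_singleton, not_or] at hi
    rw [h i hi.1 hi.2.1 hi.2.2, zero_mul]
  rw [h1, Finset.sum_insert (by simp [hab, hac]), Finset.sum_insert (by simp [hbc]),
    Finset.sum_singleton]
  ring

/-- A norm 3 vector with a known element of the support. -/
theorem supp3' (f : ι → ℤ) (h : ∑ i, f i * f i = 3) (a : ι) (ha : f a ≠ 0) :
    ∃ b c : ι, a ≠ b ∧ a ≠ c ∧ b ≠ c ∧ (f a = 1 ∨ f a = -1) ∧ (f b = 1 ∨ f b = -1) ∧
      (f c = 1 ∨ f c = -1) ∧ ∀ i, i ≠ a → i ≠ b → i ≠ c → f i = 0 := by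
  obtain ⟨a', b, c, h1, h2, h3, h4, h5, h6, h7⟩ := supp3 f h
  have h8 : a = a' ∨ a = b ∨ a = c := by
    by_contra hc
    push Not at hc
    exact ha (h7 a hc.1 hc.2.1 hc.2.2)
  rcases h8 with rfl | rfl | rfl
  · exact ⟨b, c, h1, h2, h3, h4, h5, h6, h7⟩
  · exact ⟨a', c, h1.symm, h3, h2, h5, h4, h6, fun i a b c => h7 i b a c⟩
  · exact ⟨a', b, h2.symm, h3.symm, h1, h6, h4, h5, fun i a b c => h7 i b c a⟩

theorem tri {x y : ℤ} (hx : x = 1 ∨ x = -1) (hy : y = 0 ∨ y = 1 ∨ y = -1) :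
    (y = 0 ∧ x * y = 0) ∨ (y = x ∧ x * y = 1) ∨ (y = -x ∧ x * y = -1) := by
  rcases hx with rfl | rfl <;> rcases hy with rfl | rfl | rfl <;> simp

/-- The common element of two norm 3 vectors with product 1, orthogonal to a positive vector. -/
theorem common (x y D : ι → ℤ) (hD : ∀ i, 0 < D i) (hxx : ∑ i, x i * x i = 3)
    (hyy : ∑ i, y i * y i = 3) (hxy : ∑ i, x i * y i = 1) (hxD : ∑ i, x i * D i = 0)
    (hyD : ∑ i, y i * D i = 0) :
    ∃ p a b : ι, p ≠ a ∧ p ≠ b ∧ a ≠ b ∧ (x p = 1 ∨ x p = -1) ∧ (x a = 1 ∨ x a = -1) ∧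
      (x b = 1 ∨ x b = -1) ∧ (∀ i, i ≠ p → i ≠ a → i ≠ b → x i = 0) ∧ y p = x p ∧ y a = 0 ∧
      y b = 0 := by
  obtain ⟨a, b, c, hab, hac, hbc, ha, hb, hc, h0⟩ := supp3 x hxx
  have e1 := hxy
  rw [sum3 x y hab hac hbc h0] at e1
  have e2 := hxD
  rw [sum3 x D hab hac hbc h0] at e2
  have hy2 : ∀ i, y i = 0 ∨ y i = 1 ∨ y i = -1 := by
    intro i
    have h3 : y i * y i ≤ ∑ i, y i * y i :=
      Finset.single_le_sum (f := fun i => y i * y i) (fun j _ => mul_self_nonneg _) (Finset.mem_univ i)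
    rw [hyy] at h3
    have h5 : y i < 2 := by nlinarith
    have h6 : -2 < y i := by nlinarith
    omega
  have hDa := hD a
  have hDb := hD b
  have hDc := hD c
  have hpa : x a * D a ≠ 0 := mul_ne_zero (by omega) hDa.ne'
  have hpb : x b * D b ≠ 0 := mul_ne_zero (by omega) hDb.ne'
  have hpc : x c * D c ≠ 0 := mul_ne_zero (by omega) hDc.ne'
  -- all three nonzero is impossible
  have hno : ¬ (y a ≠ 0 ∧ y b ≠ 0 ∧ y c ≠ 0) := by
    rintro ⟨ka, kb, kc⟩
    have h4 : ∀ i, i ≠ a → i ≠ b → i ≠ c → y i = 0 := by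
      intro i ia ib ic
      have h2 : ∑ j ∈ ({i, a, b, c} : Finset ι), y j * y j ≤ ∑ i, y i * y i :=
        Finset.sum_le_sum_of_subset_of_nonneg (Finset.subset_univ _) fun i _ _ => mul_self_nonneg _
      rw [Finset.sum_insert (by simp [ia, ib, ic]), Finset.sum_insert (by simp [hab, hac]),
        Finset.sum_insert (by simp [hbc]), Finset.sum_singleton, hyy] at h2
      have k1 : 0 < y a * y a := mul_self_pos.2 ka
      have k2 : 0 < y b * y b := mul_self_pos.2 kb
      have k3 : 0 < y c * y c := mul_self_pos.2 kc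
      by_contra hi
      have k4 : 0 < y i * y i := mul_self_pos.2 hi
      omega
    have e3 := hyD
    rw [sum3 y D hab hac hbc h4] at e3
    rcases tri ha (hy2 a) with h | ⟨h1, h2⟩ | ⟨h1, h2⟩
    · exact ka h.1
    all_goals rcases tri hb (hy2 b) with h | ⟨h3, h4⟩ | ⟨h3, h4⟩
    all_goals try exact kb h.1
    all_goals rcases tri hc (hy2 c) with h | ⟨h5, h6⟩ | ⟨h5, h6⟩
    all_goals try exact kc h.1
    all_goals rw [h2, h4, h6] at e1
    all_goals first
      | omega
      | (rw [h1, h3, h5] at e3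
         first
           | exact hpa (by linarith)
           | exact hpb (by linarith)
           | exact hpc (by linarith))
  have hcase : (y a = x a ∧ y b = 0 ∧ y c = 0) ∨ (y b = x b ∧ y a = 0 ∧ y c = 0) ∨
      (y c = x c ∧ y a = 0 ∧ y b = 0) := by
    rcases tri ha (hy2 a) with ⟨h1, h2⟩ | ⟨h1, h2⟩ | ⟨h1, h2⟩ <;>
      rcases tri hb (hy2 b) with ⟨h3, h4⟩ | ⟨h3, h4⟩ | ⟨h3, h4⟩ <;>
      rcases tri hc (hy2 c) with ⟨h5, h6⟩ | ⟨h5, h6⟩ | ⟨h5, h6⟩ <;>
      rw [h2, h4, h6] at e1 <;> omega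
  rcases hcase with ⟨h1, h2, h3⟩ | ⟨h1, h2, h3⟩ | ⟨h1, h2, h3⟩
  · exact ⟨a, b, c, hab, hac, hbc, ha, hb, hc, h0, h1, h2, h3⟩
  · exact ⟨b, a, c, hab.symm, hbc, hac, hb, ha, hc, fun i a b c => h0 i b a c, h1, h2, h3⟩
  · exact ⟨c, a, b, hac.symm, hbc.symm, hab, hc, ha, hb, fun i a b c => h0 i b c a, h1, h2, h3⟩

/-- Summing over a two element support. -/
theorem sum2 {R : Type*} [AddCommMonoid R] (f : ι → R) {a b : ι} (hab : a ≠ b)
    (h : ∀ i, i ≠ a → i ≠ b → f i = 0) : ∑ i, f i = f a + f b := by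
  classical
  have h1 : ∑ i, f i = ∑ i ∈ ({a, b} : Finset ι), f i := by
    refine (Finset.sum_subset (Finset.subset_univ _) fun i _ hi => ?_).symm
    simp only [Finset.mem_insert, Finset.mem_singleton, not_or] at hi
    exact h i hi.1 hi.2
  rw [h1, Finset.sum_insert (by simp [hab]), Finset.sum_singleton]

/-- The relations for one involution. -/
structure Inv (D x y r : ι → ℤ) (o : ι) (Z : ι → ℤ) : Prop where
  zo : Z o = 1
  xZ : ∑ i, x i * Z i = 0
  yZ : ∑ i, y i * Z i = 0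
  rZ : ∑ i, r i * Z i = 0
  e1 : ∑ i, ((x i : ℚ) * r i) * ((Z i : ℚ) / D i) = 3 * ∑ i, ((x i : ℚ) * y i) * ((Z i : ℚ) / D i)
  e2 : ∑ i, ((y i : ℚ) * r i) * ((Z i : ℚ) / D i) = 3 * ∑ i, ((x i : ℚ) * y i) * ((Z i : ℚ) / D i)
  e3 : ∑ i, ((r i : ℚ) * r i) * ((Z i : ℚ) / D i) = 9 * ∑ i, ((x i : ℚ) * y i) * ((Z i : ℚ) / D i)

theorem sum3q (f g : ι → ℤ) (l : ι → ℚ) {a b c : ι} (hab : a ≠ b) (hac : a ≠ c)
    (hbc : b ≠ c) (h : ∀ i, i ≠ a → i ≠ b → i ≠ c → f i = 0) :
    ∑ i, ((f i : ℚ) * g i) * l i =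
      ((f a : ℚ) * g a) * l a + ((f b : ℚ) * g b) * l b + ((f c : ℚ) * g c) * l c := by
  rw [sum3 (fun i => (f i : ℚ) * g i) l hab hac hbc]
  intro i h1 h2 h3
  rw [h i h1 h2 h3]
  simp

/-- The proportionality of `r` and `D` on the two other elements. -/
theorem stepA (D x r Z : ι → ℤ) (hD : ∀ i, 0 < D i) {p a b : ι} (hpa : p ≠ a) (hpb : p ≠ b)
    (hab : a ≠ b) (xa : x a = 1 ∨ x a = -1) (xb : x b = 1 ∨ x b = -1)
    (h0 : ∀ i, i ≠ p → i ≠ a → i ≠ b → x i = 0)
    (hxr : ∑ i, x i * r i = 3) (hxD : ∑ i, x i * D i = 0) (hxZ : ∑ i, x i * Z i = 0)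
    (e1 : ∑ i, ((x i : ℚ) * r i) * ((Z i : ℚ) / D i) = 3 * ((Z p : ℚ) / D p))
    (hq : ∑ i, ((x i : ℚ) * Z i) * ((Z i : ℚ) / D i) ≠ 0) :
    r a * D b = r b * D a := by
  rw [sum3 x _ hpa hpb hab h0] at hxr hxD hxZ
  rw [sum3q x _ _ hpa hpb hab h0] at e1 hq
  have hDp : (D p : ℚ) ≠ 0 := by exact_mod_cast (hD p).ne'
  have hDa : (D a : ℚ) ≠ 0 := by exact_mod_cast (hD a).ne'
  have hDb : (D b : ℚ) ≠ 0 := by exact_mod_cast (hD b).ne'
  set lp : ℚ := (Z p : ℚ) / D p with hlp
  set la : ℚ := (Z a : ℚ) / D a with hla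
  set lb : ℚ := (Z b : ℚ) / D b with hlb
  have zp : (Z p : ℚ) = lp * D p := by rw [hlp]; field_simp
  have za : (Z a : ℚ) = la * D a := by rw [hla]; field_simp
  have zb : (Z b : ℚ) = lb * D b := by rw [hlb]; field_simp
  have hxr' : (x p : ℚ) * r p + x a * r a + x b * r b = 3 := by exact_mod_cast hxr
  have hxD' : (x p : ℚ) * D p + x a * D a + x b * D b = 0 := by exact_mod_cast hxD
  have hxZ' : (x p : ℚ) * Z p + x a * Z a + x b * Z b = 0 := by exact_mod_cast hxZ
  rw [zp, za, zb] at hxZ'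
  have f1 : (la - lp) * (x a * D a) + (lb - lp) * (x b * D b) = 0 := by
    linear_combination hxZ' - lp * hxD'
  have f2 : (la - lp) * (x a * r a) + (lb - lp) * (x b * r b) = 0 := by
    linear_combination e1 - lp * hxr'
  have f3 : (x a : ℚ) * x a = 1 := by rcases xa with h | h <;> rw [h] <;> norm_num
  have f4 : (x b : ℚ) * x b = 1 := by rcases xb with h | h <;> rw [h] <;> norm_num
  have key : ((r a : ℚ) * D b - r b * D a) = 0 := by
    by_contra hne
    -- then both differences vanish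
    have g1 : (la - lp) * ((x a * x b : ℚ) * (r a * D b - r b * D a)) = 0 := by
      linear_combination (x b * D b : ℚ) * f2 - (x b * r b : ℚ) * f1
    have g2 : (lb - lp) * ((x a * x b : ℚ) * (r a * D b - r b * D a)) = 0 := by
      linear_combination (x a * r a : ℚ) * f1 - (x a * D a : ℚ) * f2
    have hab' : ((x a * x b : ℚ) * (r a * D b - r b * D a)) ≠ 0 := by
      refine mul_ne_zero (mul_ne_zero ?_ ?_) hne
      · intro h; rw [h] at f3; norm_num at f3
      · intro h; rw [h] at f4; norm_num at f4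
    have g3 : la = lp := sub_eq_zero.1 ((mul_eq_zero.1 g1).resolve_right hab')
    have g4 : lb = lp := sub_eq_zero.1 ((mul_eq_zero.1 g2).resolve_right hab')
    apply hq
    rw [zp, za, zb, g3, g4]
    linear_combination (lp * lp) * hxD'
  have : ((r a * D b : ℤ) : ℚ) = ((r b * D a : ℤ) : ℚ) := by
    push_cast
    linear_combination key
  exact_mod_cast this

/-- The integral points. -/
theorem stepB {A B1 B2 C1 C2 : ℤ} (h1 : A + B1 + B2 = 3) (h2 : A + C1 + C2 = 3)
    (h3 : 1 + A * A + B1 * B1 + B2 * B2 + C1 * C1 + C2 * C2 ≤ 9) (hB : B1 = 0 ↔ B2 = 0)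
    (hC : C1 = 0 ↔ C2 = 0) : A = 1 ∧ B1 = 1 ∧ B2 = 1 ∧ C1 = 1 ∧ C2 = 1 := by
  have a1 : A < 3 := by nlinarith [mul_self_nonneg B1, mul_self_nonneg B2, mul_self_nonneg C1, mul_self_nonneg C2]
  have a2 : -3 < A := by nlinarith [mul_self_nonneg B1, mul_self_nonneg B2, mul_self_nonneg C1, mul_self_nonneg C2]
  have b1 : B1 < 3 := by nlinarith [mul_self_nonneg A, mul_self_nonneg B2, mul_self_nonneg C1, mul_self_nonneg C2]
  have b2 : -3 < B1 := by nlinarith [mul_self_nonneg A, mul_self_nonneg B2, mul_self_nonneg C1, mul_self_nonneg C2]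
  have c1 : C1 < 3 := by nlinarith [mul_self_nonneg A, mul_self_nonneg B2, mul_self_nonneg B1, mul_self_nonneg C2]
  have c2 : -3 < C1 := by nlinarith [mul_self_nonneg A, mul_self_nonneg B2, mul_self_nonneg B1, mul_self_nonneg C2]
  obtain rfl : B2 = 3 - A - B1 := by linarith
  obtain rfl : C2 = 3 - A - C1 := by linarith
  interval_cases A <;> interval_cases B1 <;> interval_cases C1 <;> simp_all

theorem stepC {xp xa xb rp ra rb Dp Da Db : ℤ} (hp : xp = 1 ∨ xp = -1) (ha : xa = 1 ∨ xa = -1)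
    (hb : xb = 1 ∨ xb = -1) (kp : xp * rp = 1) (ka : xa * ra = 1) (kb : xb * rb = 1)
    (dp : 0 < Dp) (da : 0 < Da) (db : 0 < Db) (e : ra * Db = rb * Da)
    (f : xp * Dp + xa * Da + xb * Db = 0) :
    rp = xp ∧ xa = -xp ∧ xb = -xp ∧ ra = -xp ∧ rb = -xp ∧ Dp = 2 * Da ∧ Db = Da := by
  obtain rfl : rp = xp := by rcases hp with rfl | rfl <;> omega
  obtain rfl : ra = xa := by rcases ha with rfl | rfl <;> omega
  obtain rfl : rb = xb := by rcases hb with rfl | rfl <;> omega
  rcases hp with rfl | rfl <;> rcases ha with rfl | rfl <;> rcases hb with rfl | rfl <;> omega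

theorem arithD {s mp ma mb mc md : ℤ} (hs : s = 1 ∨ s = -1) (ex : s * mp + -s * ma + -s * mb = 0)
    (ey : s * mp + -s * mc + -s * md = -1)
    (h : mp * mp + ma * ma + mb * mb + mc * mc + md * md ≤ 2) :
    (mp = 0 ∧ ma = 0 ∧ mb = 0 ∧ mc = s ∧ md = 0) ∨ (mp = 0 ∧ ma = 0 ∧ mb = 0 ∧ mc = 0 ∧ md = s) ∨
      (mp = -s ∧ ma = -s ∧ mb = 0) ∨ (mp = -s ∧ ma = 0 ∧ mb = -s) := by
  have hss : s * s = 1 := by rcases hs with rfl | rfl <;> norm_num
  obtain rfl : mp = ma + mb := by linear_combination s * ex - (mp - ma - mb) * hss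
  obtain rfl : md = ma + mb + s - mc := by
    linear_combination (-s) * ey + (ma + mb - mc - md) * hss
  have a1 : ma < 2 := by nlinarith [mul_self_nonneg (ma + mb), mul_self_nonneg mb, mul_self_nonneg mc, mul_self_nonneg (ma + mb + s - mc)]
  have a2 : -2 < ma := by nlinarith [mul_self_nonneg (ma + mb), mul_self_nonneg mb, mul_self_nonneg mc, mul_self_nonneg (ma + mb + s - mc)]
  have b1 : mb < 2 := by nlinarith [mul_self_nonneg (ma + mb), mul_self_nonneg ma, mul_self_nonneg mc, mul_self_nonneg (ma + mb + s - mc)]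
  have b2 : -2 < mb := by nlinarith [mul_self_nonneg (ma + mb), mul_self_nonneg ma, mul_self_nonneg mc, mul_self_nonneg (ma + mb + s - mc)]
  have c1 : mc < 2 := by nlinarith [mul_self_nonneg (ma + mb), mul_self_nonneg ma, mul_self_nonneg mb, mul_self_nonneg (ma + mb + s - mc)]
  have c2 : -2 < mc := by nlinarith [mul_self_nonneg (ma + mb), mul_self_nonneg ma, mul_self_nonneg mb, mul_self_nonneg (ma + mb + s - mc)]
  rcases hs with rfl | rfl <;> interval_cases ma <;> interval_cases mb <;> interval_cases mc <;>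
    simp_all

/-- The support of `m`. -/
theorem stepD (D x y r m : ι → ℤ) (o p a b c d : ι) (Do : D o = 1)
    (op : o ≠ p) (oa : o ≠ a) (ob : o ≠ b) (oc : o ≠ c) (od : o ≠ d) (pa : p ≠ a) (pb : p ≠ b)
    (ab : a ≠ b) (pc : p ≠ c) (pd : p ≠ d) (cd : c ≠ d) (ac : a ≠ c) (ad : a ≠ d) (bc : b ≠ c)
    (bd : b ≠ d) (s K : ℤ) (hs : s = 1 ∨ s = -1) (xp : x p = s) (xa : x a = -s) (xb : x b = -s)
    (x0 : ∀ i, i ≠ p → i ≠ a → i ≠ b → x i = 0) (yp : y p = s) (yc : y c = -s) (yd : y d = -s)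
    (y0 : ∀ i, i ≠ p → i ≠ c → i ≠ d → y i = 0) (ro : r o = 1) (rp : r p = s) (ra : r a = -s)
    (rb : r b = -s) (rc : r c = -s) (rd : r d = -s) (Dc : D c = K) (Dd : D d = K)
    (mo : m o = -1) (hmm : ∑ i, m i * m i = 3) (hmx : ∑ i, m i * x i = 0)
    (hmy : ∑ i, m i * y i = -1) (hmr : ∑ i, m i * r i = -3) (hmD : ∑ i, m i * D i = 0) :
    ∃ v : ι, v ≠ o ∧ v ≠ p ∧ v ≠ a ∧ v ≠ b ∧ v ≠ c ∧ v ≠ d ∧ (r v = 1 ∨ r v = -1) ∧
      r v * D v = s * K - 1 ∧ m v = - r v ∧ m p = 0 ∧ m a = 0 ∧ m b = 0 ∧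
      (∀ i, i ≠ o → i ≠ c → i ≠ d → i ≠ v → m i = 0) := by
  classical
  have ex : x p * m p + x a * m a + x b * m b = 0 := by
    rw [← sum3 x m pa pb ab x0, ← hmx]
    exact Finset.sum_congr rfl fun i _ => mul_comm _ _
  have ey : y p * m p + y c * m c + y d * m d = -1 := by
    rw [← sum3 y m pc pd cd y0, ← hmy]
    exact Finset.sum_congr rfl fun i _ => mul_comm _ _
  rw [xp, xa, xb] at ex
  rw [yp, yc, yd] at ey
  obtain ⟨u, v, ou, ov, uv, -, hu, hv, m0⟩ := supp3' m hmm o (by rw [mo]; norm_num)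
  have er := hmr
  rw [sum3 m r ou ov uv m0, mo, ro] at er
  have eD := hmD
  rw [sum3 m D ou ov uv m0, mo, Do] at eD
  -- the two cases for the element of the support among `c, d`
  have fin : ∀ e v : ι, (e = c ∨ e = d) → o ≠ e → o ≠ v → e ≠ v → (m e = 1 ∨ m e = -1) →
      (m v = 1 ∨ m v = -1) → (∀ i, i ≠ o → i ≠ e → i ≠ v → m i = 0) →
      (-1 * 1 + m e * r e + m v * r v = -3) → (-1 * 1 + m e * D e + m v * D v = 0) →
      v ≠ p → v ≠ a → v ≠ b → v ≠ c → v ≠ d →
      ∃ v : ι, v ≠ o ∧ v ≠ p ∧ v ≠ a ∧ v ≠ b ∧ v ≠ c ∧ v ≠ d ∧ (r v = 1 ∨ r v = -1) ∧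
      r v * D v = s * K - 1 ∧ m v = - r v ∧ m p = 0 ∧ m a = 0 ∧ m b = 0 ∧
      (∀ i, i ≠ o → i ≠ c → i ≠ d → i ≠ v → m i = 0) := by
    intro e v he oe ov ev me mv m0 er eD vp va vb vc vd
    have hep : e ≠ p := by rcases he with rfl | rfl <;> [exact pc.symm; exact pd.symm]
    have hea : e ≠ a := by rcases he with rfl | rfl <;> [exact ac.symm; exact ad.symm]
    have heb : e ≠ b := by rcases he with rfl | rfl <;> [exact bc.symm; exact bd.symm]
    have mp := m0 p op.symm hep.symm vp.symm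
    have ma := m0 a oa.symm hea.symm va.symm
    have mb := m0 b ob.symm heb.symm vb.symm
    have hre : r e = -s := by rcases he with rfl | rfl <;> assumption
    have hDe : D e = K := by rcases he with rfl | rfl <;> assumption
    have hme : m e = s := by
      rcases he with rfl | rfl
      · have h1 := m0 d od.symm cd.symm vd.symm
        rw [mp, h1] at ey
        rcases hs with rfl | rfl <;> omega
      · have h1 := m0 c oc.symm cd vc.symm
        rw [mp, h1] at ey
        rcases hs with rfl | rfl <;> omega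
    rw [hme, hre] at er
    rw [hme, hDe] at eD
    have hss : s * -s = -1 := by rcases hs with rfl | rfl <;> norm_num
    rw [hss] at er
    have hrv : m v = - r v ∧ (r v = 1 ∨ r v = -1) := by
      rcases mv with h | h <;> rw [h] at er ⊢ <;> omega
    refine ⟨v, ov.symm, vp, va, vb, vc, vd, hrv.2, ?_, hrv.1, mp, ma, mb, ?_⟩
    · rw [hrv.1] at eD
      linarith
    · intro i h1 h2 h3 h4
      refine m0 i h1 ?_ h4
      rcases he with rfl | rfl <;> assumption
  have hsq : m p * m p + m a * m a + m b * m b + m c * m c + m d * m d ≤ 2 := by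
    have h2 : ∑ j ∈ ({o, p, a, b, c, d} : Finset ι), m j * m j ≤ ∑ i, m i * m i :=
      Finset.sum_le_sum_of_subset_of_nonneg (Finset.subset_univ _) fun i _ _ => mul_self_nonneg _
    rw [Finset.sum_insert (by simp [op, oa, ob, oc, od]), Finset.sum_insert (by simp [pa, pb, pc, pd]),
      Finset.sum_insert (by simp [ab, ac, ad]), Finset.sum_insert (by simp [bc, bd]),
      Finset.sum_insert (by simp [cd]), Finset.sum_singleton, hmm, mo] at h2
    linarith
  have hs0 : s ≠ 0 := by rcases hs with rfl | rfl <;> norm_num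
  have mem : ∀ i, m i ≠ 0 → i ≠ o → i = u ∨ i = v := by
    intro i h1 h2
    by_contra hc
    push Not at hc
    exact h1 (m0 i h2 hc.1 hc.2)
  have hu0 : m u ≠ 0 := by rcases hu with h | h <;> rw [h] <;> norm_num
  have hv0 : m v ≠ 0 := by rcases hv with h | h <;> rw [h] <;> norm_num
  have hss : s * s = 1 := by rcases hs with rfl | rfl <;> norm_num
  have swap : ∀ e f : ι, e ≠ f → (e = u ∨ e = v) → (f = u ∨ f = v) →
      m e * r e + m f * r f = m u * r u + m v * r v := by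
    intro e f hef he hf
    rcases he with rfl | rfl <;> rcases hf with rfl | rfl
    · exact absurd rfl hef
    · rfl
    · exact add_comm _ _
    · exact absurd rfl hef
  rcases arithD hs ex ey hsq with ⟨mp, ma, mb, mc, md⟩ | ⟨mp, ma, mb, mc, md⟩ | ⟨mp, ma, mb⟩ |
    ⟨mp, ma, mb⟩
  · rcases mem c (by rw [mc]; exact hs0) oc.symm with rfl | rfl
    · exact fin c v (Or.inl rfl) oc ov uv hu hv m0 er eD (by rintro rfl; exact hv0 mp)
        (by rintro rfl; exact hv0 ma) (by rintro rfl; exact hv0 mb) uv.symm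
        (by rintro rfl; exact hv0 md)
    · exact fin c u (Or.inl rfl) oc ou uv.symm hv hu (fun i h1 h2 h3 => m0 i h1 h3 h2)
        (by linarith) (by linarith) (by rintro rfl; exact hu0 mp)
        (by rintro rfl; exact hu0 ma) (by rintro rfl; exact hu0 mb) uv
        (by rintro rfl; exact hu0 md)
  · rcases mem d (by rw [md]; exact hs0) od.symm with rfl | rfl
    · exact fin d v (Or.inr rfl) od ov uv hu hv m0 er eD (by rintro rfl; exact hv0 mp)
        (by rintro rfl; exact hv0 ma) (by rintro rfl; exact hv0 mb)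
        (by rintro rfl; exact hv0 mc) uv.symm
    · exact fin d u (Or.inr rfl) od ou uv.symm hv hu (fun i h1 h2 h3 => m0 i h1 h3 h2)
        (by linarith) (by linarith) (by rintro rfl; exact hu0 mp)
        (by rintro rfl; exact hu0 ma) (by rintro rfl; exact hu0 mb)
        (by rintro rfl; exact hu0 mc) uv
  · have h1 := swap p a pa (mem p (by rw [mp]; simpa using hs0) op.symm)
      (mem a (by rw [ma]; simpa using hs0) oa.symm)
    rw [mp, ma, rp, ra] at h1
    exfalso
    nlinarith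
  · have h1 := swap p b pb (mem p (by rw [mp]; simpa using hs0) op.symm)
      (mem b (by rw [mb]; simpa using hs0) ob.symm)
    rw [mp, mb, rp, rb] at h1
    exfalso
    nlinarith

/-- The final computation for one involution. -/
theorem stepF (D x y r Z : ι → ℤ) (hD : ∀ i, 0 < D i) (o p a b c d v w e : ι) (Do : D o = 1)
    (hS : ∀ f : ι → ℚ, (∀ i, r i = 0 → f i = 0) →
      ∑ i, f i = f o + f p + f a + f b + f c + f d + f v + f w + f e)
    (pa : p ≠ a) (pb : p ≠ b) (ab : a ≠ b) (pc : p ≠ c) (pd : p ≠ d) (cd : c ≠ d)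
    (s K : ℤ) (hs : s = 1 ∨ s = -1) (xp : x p = s) (xa : x a = -s) (xb : x b = -s)
    (x0 : ∀ i, i ≠ p → i ≠ a → i ≠ b → x i = 0) (yp : y p = s) (yc : y c = -s) (yd : y d = -s)
    (y0 : ∀ i, i ≠ p → i ≠ c → i ≠ d → y i = 0) (ro : r o = 1) (rp : r p = s) (ra : r a = -s)
    (rb : r b = -s) (rc : r c = -s) (rd : r d = -s) (Dp : D p = 2 * K) (Da : D a = K)
    (Db : D b = K) (Dc : D c = K) (Dd : D d = K) (rv : r v = 1 ∨ r v = -1)
    (rDv : r v * D v = s * K - 1) (rw' : r w = 1 ∨ r w = -1) (rDw : r w * D w = s * K - 1)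
    (re : r e = 1) (De : D e = 1) (I : Inv D x y r o Z) (hZe : Z e = 1) (ya : y a = 0)
    (yb : y b = 0) :
    s * K = 2 ∨ Z p = D p := by
  have hK : (K : ℚ) ≠ 0 := by
    have := hD a
    rw [Da] at this
    exact_mod_cast this.ne'
  have hss : (s : ℚ) * s = 1 := by rcases hs with rfl | rfl <;> norm_num
  set l : ι → ℚ := fun i => (Z i : ℚ) / D i with hl
  have hZ : ∀ i, (Z i : ℚ) = l i * D i := by
    intro i
    have : (D i : ℚ) ≠ 0 := by exact_mod_cast (hD i).ne'
    simp only [hl]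
    field_simp
  have hm : ∑ i, ((x i : ℚ) * y i) * l i = l p := by
    rw [sum3q x y l pa pb ab x0, xp, xa, xb, yp, ya, yb]
    push_cast
    linear_combination l p * hss
  have e1 := I.e1
  have e2 := I.e2
  have e3 := I.e3
  change ∑ i, ((x i : ℚ) * r i) * l i = 3 * ∑ i, ((x i : ℚ) * y i) * l i at e1
  change ∑ i, ((y i : ℚ) * r i) * l i = 3 * ∑ i, ((x i : ℚ) * y i) * l i at e2
  change ∑ i, ((r i : ℚ) * r i) * l i = 9 * ∑ i, ((x i : ℚ) * y i) * l i at e3
  rw [hm] at e1 e2 e3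
  rw [sum3q x r l pa pb ab x0, xp, xa, xb, rp, ra, rb] at e1
  rw [sum3q y r l pc pd cd y0, yp, yc, yd, rp, rc, rd] at e2
  rw [hS (fun i => ((r i : ℚ) * r i) * l i) (fun i hi => by simp [hi])] at e3
  rw [ro, rp, ra, rb, rc, rd, re] at e3
  have hv2 : (r v : ℚ) * r v = 1 := by rcases rv with h | h <;> rw [h] <;> norm_num
  have hw2 : (r w : ℚ) * r w = 1 := by rcases rw' with h | h <;> rw [h] <;> norm_num
  rw [hv2, hw2] at e3
  push_cast at e1 e2 e3
  have lo : l o = 1 := by simp [hl, I.zo, Do]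
  have le : l e = 1 := by simp [hl, hZe, De]
  have g1 : l a + l b = 2 * l p := by
    linear_combination e1 - (l p + l a + l b) * hss
  have g2 : l c + l d = 2 * l p := by
    linear_combination e2 - (l p + l c + l d) * hss
  have g3 : l v + l w = 4 * l p - 2 := by
    rw [lo, le] at e3
    linear_combination e3 - g1 - g2 - (l p + l a + l b + l c + l d) * hss
  have e4 : ∑ i, (r i : ℚ) * Z i = 0 := by exact_mod_cast I.rZ
  rw [hS (fun i => (r i : ℚ) * Z i) (fun i hi => by simp [hi])] at e4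
  rw [ro, rp, ra, rb, rc, rd, re, hZ o, hZ p, hZ a, hZ b, hZ c, hZ d, hZ v, hZ w, hZ e, Do, Dp, Da,
    Db, Dc, Dd, De, lo, le] at e4
  have hDv : (r v : ℚ) * D v = s * K - 1 := by exact_mod_cast rDv
  have hDw : (r w : ℚ) * D w = s * K - 1 := by exact_mod_cast rDw
  push_cast at e4
  have key : ((s : ℚ) * K - 2) * (l p - 1) = 0 := by
    linear_combination e4 / 2 - l v / 2 * hDv - l w / 2 * hDw + (s * K / 2) * g1 + (s * K / 2) * g2 -
      (s * K - 1) / 2 * g3
  rcases mul_eq_zero.1 key with h | h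
  · left
    have h1 : ((s * K : ℤ) : ℚ) = (2 : ℤ) := by
      push_cast
      linarith
    exact_mod_cast h1
  · right
    have h1 : (Z p : ℚ) = D p := by
      rw [hZ p]
      linear_combination (D p : ℚ) * h
    exact_mod_cast h1

/-- **The combinatorial core of S3805.** -/
theorem core (D x y r m n Z1 Z2 Z3 : ι → ℤ) (o : ι) (hD : ∀ i, 0 < D i) (Do : D o = 1)
    (xo : x o = 0) (yo : y o = 0) (ro : r o = 1) (mo : m o = -1) (no : n o = -1)
    (hxx : ∑ i, x i * x i = 3) (hyy : ∑ i, y i * y i = 3) (hmm : ∑ i, m i * m i = 3)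
    (hnn : ∑ i, n i * n i = 3) (hrr : ∑ i, r i * r i = 9) (hxy : ∑ i, x i * y i = 1)
    (hxr : ∑ i, x i * r i = 3) (hyr : ∑ i, y i * r i = 3) (hmx : ∑ i, m i * x i = 0)
    (hmy : ∑ i, m i * y i = -1) (hmr : ∑ i, m i * r i = -3) (hnx : ∑ i, n i * x i = -1)
    (hny : ∑ i, n i * y i = 0) (hnr : ∑ i, n i * r i = -3) (hmn : ∑ i, m i * n i = 1)
    (hxD : ∑ i, x i * D i = 0) (hyD : ∑ i, y i * D i = 0) (hrD : ∑ i, r i * D i = 0)
    (hmD : ∑ i, m i * D i = 0) (hnD : ∑ i, n i * D i = 0)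
    (I1 : Inv D x y r o Z1) (I2 : Inv D x y r o Z2) (I3 : Inv D x y r o Z3)
    (q1 : ∑ i, ((x i : ℚ) * Z1 i) * ((Z1 i : ℚ) / D i) ≠ 0)
    (q2 : ∑ i, ((y i : ℚ) * Z2 i) * ((Z2 i : ℚ) / D i) ≠ 0)
    (lin : ∀ i, D i = 1 → Z1 i = 1 ∨ Z2 i = 1 ∨ Z3 i = 1) :
    (∃ i, x i ≠ 0 ∧ y i ≠ 0 ∧ (Z1 i = D i ∨ Z2 i = D i ∨ Z3 i = D i)) ∨
    (∃ a b c d : ι, a ≠ b ∧ a ≠ c ∧ a ≠ d ∧ b ≠ c ∧ b ≠ d ∧ c ≠ d ∧ D a = 1 ∧ D b = 1 ∧ D c = 1 ∧
      D d = 1) := by
  classical
  obtain ⟨p, a, b, pa, pb, ab, xp, xa, xb, x0, yp, ya, yb⟩ := common x y D hD hxx hyy hxy hxD hyD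
  have xp0 : x p ≠ 0 := by rcases xp with h | h <;> rw [h] <;> norm_num
  have xa0 : x a ≠ 0 := by rcases xa with h | h <;> rw [h] <;> norm_num
  have xb0 : x b ≠ 0 := by rcases xb with h | h <;> rw [h] <;> norm_num
  have yp0 : y p ≠ 0 := by rw [yp]; exact xp0
  obtain ⟨c, d, pc, pd, cd, yp', yc, yd, y0⟩ := supp3' y hyy p yp0
  have yc0 : y c ≠ 0 := by rcases yc with h | h <;> rw [h] <;> norm_num
  have yd0 : y d ≠ 0 := by rcases yd with h | h <;> rw [h] <;> norm_num
  have ac : a ≠ c := by rintro rfl; exact yc0 ya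
  have ad : a ≠ d := by rintro rfl; exact yd0 ya
  have bc : b ≠ c := by rintro rfl; exact yc0 yb
  have bd : b ≠ d := by rintro rfl; exact yd0 yb
  have op : o ≠ p := by rintro rfl; exact xp0 xo
  have oa : o ≠ a := by rintro rfl; exact xa0 xo
  have ob : o ≠ b := by rintro rfl; exact xb0 xo
  have oc : o ≠ c := by rintro rfl; exact yc0 yo
  have od : o ≠ d := by rintro rfl; exact yd0 yo
  -- the value at `p` of the central character
  have hm : ∀ Z : ι → ℤ, ∑ i, ((x i : ℚ) * y i) * ((Z i : ℚ) / D i) = (Z p : ℚ) / D p := by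
    intro Z
    rw [sum3q x y _ pa pb ab x0, ya, yb, yp]
    have : (x p : ℚ) * x p = 1 := by rcases xp with h | h <;> rw [h] <;> norm_num
    push_cast
    linear_combination ((Z p : ℚ) / D p) * this
  have A1 : r a * D b = r b * D a := stepA D x r Z1 hD pa pb ab xa xb x0 hxr hxD I1.xZ
    (by rw [I1.e1, hm]) q1
  have A2 : r c * D d = r d * D c := stepA D y r Z2 hD pc pd cd yc yd y0 hyr hyD I2.yZ
    (by rw [I2.e2, hm]) q2
  have B1 := hxr
  rw [sum3 x r pa pb ab x0] at B1
  have B2 := hyr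
  rw [sum3 y r pc pd cd y0, yp] at B2
  have hsq : r p * r p + r a * r a + r b * r b + r c * r c + r d * r d ≤ 8 := by
    have h2 : ∑ j ∈ ({o, p, a, b, c, d} : Finset ι), r j * r j ≤ ∑ i, r i * r i :=
      Finset.sum_le_sum_of_subset_of_nonneg (Finset.subset_univ _) fun i _ _ => mul_self_nonneg _
    rw [Finset.sum_insert (by simp [op, oa, ob, oc, od]), Finset.sum_insert (by simp [pa, pb, pc, pd]),
      Finset.sum_insert (by simp [ab, ac, ad]), Finset.sum_insert (by simp [bc, bd]),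
      Finset.sum_insert (by simp [cd]), Finset.sum_singleton, hrr, ro] at h2
    linarith
  have sq : ∀ {u t : ℤ}, (u = 1 ∨ u = -1) → (u * t) * (u * t) = t * t := by
    intro u t hu
    rcases hu with rfl | rfl <;> ring
  obtain ⟨k1, k2, k3, k4, k5⟩ := stepB B1 B2 (by
      rw [sq xp, sq xa, sq xb, sq yc, sq yd]; linarith) (by
      have hDa := hD a; have hDb := hD b
      constructor
      · intro h
        rcases mul_eq_zero.1 h with h | h
        · exact absurd h xa0
        · rw [h, zero_mul] at A1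
          rcases mul_eq_zero.1 A1.symm with h | h
          · rw [h, mul_zero]
          · omega
      · intro h
        rcases mul_eq_zero.1 h with h | h
        · exact absurd h xb0
        · rw [h, zero_mul] at A1
          rcases mul_eq_zero.1 A1 with h | h
          · rw [h, mul_zero]
          · omega) (by
      have hDc := hD c; have hDd := hD d
      constructor
      · intro h
        rcases mul_eq_zero.1 h with h | h
        · exact absurd h yc0
        · rw [h, zero_mul] at A2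
          rcases mul_eq_zero.1 A2.symm with h | h
          · rw [h, mul_zero]
          · omega
      · intro h
        rcases mul_eq_zero.1 h with h | h
        · exact absurd h yd0
        · rw [h, zero_mul] at A2
          rcases mul_eq_zero.1 A2 with h | h
          · rw [h, mul_zero]
          · omega)
  have C1 := hxD
  rw [sum3 x D pa pb ab x0] at C1
  have C2 := hyD
  rw [sum3 y D pc pd cd y0] at C2
  obtain ⟨rp, xa', xb', ra, rb, Dp, Db⟩ := stepC xp xa xb k1 k2 k3 (hD p) (hD a) (hD b) A1 C1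
  obtain ⟨-, yc', yd', rc, rd, Dp', Dd⟩ := stepC yp' yc yd (by rw [yp]; exact k1) k4 k5 (hD p)
    (hD c) (hD d) A2 C2
  rw [yp] at yc' yd' rc rd
  have Dc : D c = D a := by omega
  rw [Dc] at Dd
  obtain ⟨v, vo, vp, va, vb, vc, vd, rv, rDv, mv, mp, ma, mb, m0⟩ :=
    stepD D x y r m o p a b c d Do op oa ob oc od pa pb ab pc pd cd ac ad bc bd (x p) (D a) xp rfl
      xa' xb' x0 yp yc' yd' y0 ro rp ra rb rc rd Dc Dd mo hmm hmx hmy hmr hmD
  obtain ⟨w, wo, wp, wc, wd, wa, wb, rw', rDw, nw, np, nc, nd, n0⟩ :=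
    stepD D y x r n o p c d a b Do op oc od oa ob pc pd cd pa pb ab ac.symm bc.symm ad.symm bd.symm
      (x p) (D a) xp yp yc' yd' y0 rfl xa' xb' x0 ro rp rc rd ra rb rfl Db no hnn hny hnx hnr hnD
  have vw : v ≠ w := by
    rintro rfl
    have h1 : ∑ i, m i * n i = m o * n o + m v * n v := by
      refine sum2 (fun i => m i * n i) vo.symm fun i h1 h2 => ?_
      by_cases h3 : i = c
      · rw [h3, nc, mul_zero]
      by_cases h4 : i = d
      · rw [h4, nd, mul_zero]
      rw [m0 i h1 h3 h4 h2, zero_mul]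
    rw [hmn, mo, no, mv, nw] at h1
    rcases rv with h | h <;> rw [h] at h1 <;> norm_num at h1
  -- the remaining element of the support of `r`
  set S : Finset ι := {o, p, a, b, c, d, v, w} with hS
  have expand : ∀ {M : Type} [AddCommMonoid M] (f : ι → M), ∑ i ∈ S, f i =
      f o + (f p + (f a + (f b + (f c + (f d + (f v + f w)))))) := by
    intro M _ f
    rw [hS, Finset.sum_insert (by simp [op, oa, ob, oc, od, vo.symm, wo.symm]),
      Finset.sum_insert (by simp [pa, pb, pc, pd, vp.symm, wp.symm]),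
      Finset.sum_insert (by simp [ab, ac, ad, va.symm, wa.symm]),
      Finset.sum_insert (by simp [bc, bd, vb.symm, wb.symm]),
      Finset.sum_insert (by simp [cd, vc.symm, wc.symm]),
      Finset.sum_insert (by simp [vd.symm, wd.symm]),
      Finset.sum_insert (by simp [vw]), Finset.sum_singleton]
  have hrest : ∑ i ∈ Sᶜ, r i * r i = 1 := by
    have h1 := Finset.sum_add_sum_compl S (fun i => r i * r i)
    rw [expand, hrr] at h1
    have e1 : r p * r p = 1 := by rw [rp]; rcases xp with h | h <;> rw [h] <;> norm_num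
    have e2 : r a * r a = 1 := by rw [ra]; rcases xp with h | h <;> rw [h] <;> norm_num
    have e3 : r b * r b = 1 := by rw [rb]; rcases xp with h | h <;> rw [h] <;> norm_num
    have e4 : r c * r c = 1 := by rw [rc]; rcases xp with h | h <;> rw [h] <;> norm_num
    have e5 : r d * r d = 1 := by rw [rd]; rcases xp with h | h <;> rw [h] <;> norm_num
    have e6 : r v * r v = 1 := by rcases rv with h | h <;> rw [h] <;> norm_num
    have e7 : r w * r w = 1 := by rcases rw' with h | h <;> rw [h] <;> norm_num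
    rw [ro, e1, e2, e3, e4, e5, e6, e7] at h1
    linarith
  obtain ⟨e, heS, hre⟩ : ∃ e ∈ Sᶜ, r e ≠ 0 := by
    by_contra hc
    push Not at hc
    rw [Finset.sum_eq_zero (fun i hi => by rw [hc i hi, mul_zero])] at hrest
    norm_num at hrest
  have hother : ∀ i ∈ Sᶜ, i ≠ e → r i = 0 := by
    intro i hi hie
    by_contra hc
    have h1 : ∑ j ∈ ({e, i} : Finset ι), r j * r j ≤ ∑ j ∈ Sᶜ, r j * r j :=
      Finset.sum_le_sum_of_subset_of_nonneg (by
        intro j hj
        rcases Finset.mem_insert.1 hj with rfl | hj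
        · exact heS
        · rw [Finset.mem_singleton.1 hj]; exact hi) fun i _ _ => mul_self_nonneg _
    rw [Finset.sum_insert (by simpa using hie.symm), Finset.sum_singleton, hrest] at h1
    have h2 := mul_self_pos.2 hc
    have h3 := mul_self_pos.2 hre
    omega
  have hsumr : ∀ {M : Type} [AddCommMonoid M] (f : ι → M), (∀ i, r i = 0 → f i = 0) →
      ∑ i, f i = (f o + (f p + (f a + (f b + (f c + (f d + (f v + f w))))))) + f e := by
    intro M _ f hf
    rw [← Finset.sum_add_sum_compl S f, expand, Finset.sum_eq_single_of_mem e heS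
      (fun i hi hie => hf i (hother i hi hie))]
  have hree : r e = 1 ∨ r e = -1 := by
    have h1 : r e * r e = 1 := by
      rw [← hrest, Finset.sum_eq_single_of_mem e heS
        (fun i hi hie => by rw [hother i hi hie, mul_zero])]
    have h2 : (r e - 1) * (r e + 1) = 0 := by linarith
    rcases mul_eq_zero.1 h2 with h | h
    · left; linarith
    · right; linarith
  have hDe : r e * D e = 1 := by
    have h1 := hrD
    rw [hsumr (fun i => r i * D i) (fun i hi => by simp [hi])] at h1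
    rw [ro, Do, rp, ra, rb, rc, rd, rDv, rDw, Dp, Db, Dc, Dd] at h1
    linear_combination h1
  have hDe1 := hD e
  have re : r e = 1 := by
    rcases hree with h | h
    · exact h
    · rw [h] at hDe; omega
  have De : D e = 1 := by
    rw [re] at hDe; omega
  have eS : e ≠ o ∧ e ≠ p ∧ e ≠ a ∧ e ≠ b ∧ e ≠ c ∧ e ≠ d ∧ e ≠ v ∧ e ≠ w := by
    have := Finset.mem_compl.1 heS
    rw [hS] at this
    simp only [Finset.mem_insert, Finset.mem_singleton, not_or] at this
    exact this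
  have hfin : ∀ Z : ι → ℤ, Inv D x y r o Z → Z e = 1 → x p * D a = 2 ∨ Z p = D p := by
    intro Z I hZe
    refine stepF D x y r Z hD o p a b c d v w e Do (fun f hf => ?_) pa pb ab pc pd cd (x p) (D a) xp
      rfl xa' xb' x0 yp yc' yd' y0 ro rp ra rb rc rd Dp rfl Db Dc Dd rv rDv rw' rDw re De I hZe ya yb
    rw [hsumr f hf]
    ring
  have h4 : x p * D a = 2 → (∃ a b c d : ι, a ≠ b ∧ a ≠ c ∧ a ≠ d ∧ b ≠ c ∧ b ≠ d ∧ c ≠ d ∧
      D a = 1 ∧ D b = 1 ∧ D c = 1 ∧ D d = 1) := by
    intro h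
    rw [h] at rDv rDw
    refine ⟨o, v, w, e, vo.symm, wo.symm, eS.1.symm, vw, eS.2.2.2.2.2.2.1.symm,
      eS.2.2.2.2.2.2.2.symm, Do, ?_, ?_, De⟩
    · have := hD v
      rcases rv with h | h <;> rw [h] at rDv <;> omega
    · have := hD w
      rcases rw' with h | h <;> rw [h] at rDw <;> omega
  rcases lin e De with h | h | h
  · rcases hfin Z1 I1 h with h1 | h1
    · exact Or.inr (h4 h1)
    · exact Or.inl ⟨p, xp0, yp0, Or.inl h1⟩
  · rcases hfin Z2 I2 h with h1 | h1
    · exact Or.inr (h4 h1)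
    · exact Or.inl ⟨p, xp0, yp0, Or.inr (Or.inl h1)⟩
  · rcases hfin Z3 I3 h with h1 | h1
    · exact Or.inr (h4 h1)
    · exact Or.inl ⟨p, xp0, yp0, Or.inr (Or.inr h1)⟩

end Cfsg.Agent.H454.KleinComb
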