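import Mathlib
import Cfsg.Prelude.Def_Characters
import Cfsg.Agent.Characters.Core
import Cfsg.Agent.Characters.ClassMul
import Cfsg.Agent.CharactersDeep.LinearExt
import Cfsg.Agent.J3Type.CharTools
import Cfsg.Agent.H686.CharKit
import Cfsg.Agent.H454.KleinComb
import Cfsg.Agent.S0154

/-!
# Character theory of a group with a Sylow 3-subgroup of order 9 and a Klein four automizer

* `isConj_inv_of_mul`: `a³ = b³ = (ab)² = 1` implies `a ~ b⁻¹`;
* `Setup.main`: the conclusion of the combinatorial core `KleinComb.core`.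
-/

set_option autoImplicit false
set_option linter.unusedSectionVars false

open scoped ComplexConjugate
open Cfsg Cfsg.Agent.Characters

namespace Cfsg.Agent.H454.KleinChar

universe u

variable {G : Type u} [Group G]

/-- Two elements of order 3 whose product is an involution generate `A₄`: the first is conjugate to the
inverse of the second. -/
theorem isConj_inv_of_mul {a b : G} (ha : a ^ 3 = 1) (hb : b ^ 3 = 1) (hab : (a * b) ^ 2 = 1) :
    IsConj a b⁻¹ := by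
  set z := a * b with hz
  have hz2 : z * z = 1 := by rw [← pow_two, hab]
  have hbz : b = a⁻¹ * z := by rw [hz]; group
  have hzi : z⁻¹ = z := inv_eq_of_mul_eq_one_left hz2
  have hbi : b⁻¹ = z * a := by rw [hbz, mul_inv_rev, hzi, inv_inv]
  have hbb : b * b = z * a := by
    rw [← hbi]
    refine eq_inv_of_mul_eq_one_left ?_
    rw [← hb]; simp only [pow_succ, pow_zero, one_mul]
  have haa : a * a = a⁻¹ := by
    refine eq_inv_of_mul_eq_one_left ?_
    rw [← ha]; simp only [pow_succ, pow_zero, one_mul]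
  rw [isConj_comm, isConj_iff]
  refine ⟨a * z * a⁻¹, ?_⟩
  rw [hbi, mul_inv_rev, mul_inv_rev, inv_inv, hzi]
  calc a * z * a⁻¹ * (z * a) * (a * (z * a⁻¹)) = a * z * a⁻¹ * z * (a * a) * (z * a⁻¹) := by group
    _ = a * z * ((a⁻¹ * z) * (a⁻¹ * z)) * a⁻¹ := by rw [haa]; group
    _ = a * (z * z) := by rw [← hbz, hbb]; group
    _ = a := by rw [hz2, mul_one]

/-- The integral part of a character value. -/
noncomputable def val (g : G) (χ : IrrCharacter G) : ℤ := ⌊((χ : G → ℂ) g).re⌋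

/-- Real elements of order dividing 6 are rational. -/
theorem val_coe [Finite G] {g : G} (h6 : g ^ 6 = 1) (hr : IsConj g g⁻¹) (χ : IrrCharacter G) :
    ((val g χ : ℤ) : ℂ) = (χ : G → ℂ) g := by
  obtain ⟨k, hk⟩ := J3Type.CharTools.int_of_conj (Core.isIrr_isCharacter χ.2) g (fun m hm => by
    have hd : orderOf g ∣ 6 := orderOf_dvd_of_pow_eq_one h6
    have hg : g ^ m = g ^ (m % orderOf g) := (pow_mod_orderOf g m).symm
    have h2 : g ^ m = g ∨ g ^ m = g⁻¹ := by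
      have h3 : orderOf g = 1 ∨ orderOf g = 2 ∨ orderOf g = 3 ∨ orderOf g = 6 := by
        have : orderOf g ∈ Nat.divisors 6 := Nat.mem_divisors.2 ⟨hd, by norm_num⟩
        have h4 : Nat.divisors 6 = {1, 2, 3, 6} := by decide
        rw [h4] at this
        simpa using this
      have hm' : Nat.Coprime (m % orderOf g) (orderOf g) :=
        ((Nat.gcd_rec (orderOf g) m).symm.trans (Nat.gcd_comm _ m)).trans hm
      have hp : 0 < orderOf g := orderOf_pos g
      have hlt : m % orderOf g < orderOf g := Nat.mod_lt _ hp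
      have hone : g ^ orderOf g = 1 := pow_orderOf_eq_one g
      rw [hg]
      rcases h3 with h | h | h | h <;> rw [h] at hm' hlt hone ⊢
      · left
        rw [pow_one] at hone
        rw [hone, one_pow]
      · generalize m % 2 = t at hm' hlt ⊢
        interval_cases t
        · exact absurd hm' (by decide)
        · left; rw [pow_one]
      · generalize m % 3 = t at hm' hlt ⊢
        interval_cases t
        · exact absurd hm' (by decide)
        · left; rw [pow_one]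
        · right
          refine eq_inv_of_mul_eq_one_left ?_
          rw [← hone]; simp only [pow_succ, pow_zero, one_mul]
      · generalize m % 6 = t at hm' hlt ⊢
        interval_cases t <;> first | exact absurd hm' (by decide) | skip
        · left; rw [pow_one]
        · right
          refine eq_inv_of_mul_eq_one_left ?_
          rw [← hone]; simp only [pow_succ, pow_zero, one_mul]
    rcases h2 with h2 | h2
    · rw [h2]
    · rw [h2]; exact hr)
  rw [val, hk]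
  simp

theorem val_congr {g h : G} (hc : IsConj g h) : val g = val h := by
  funext χ
  rw [val, val, J3Type.CharTools.class_eq (Core.isIrr_isCharacter χ.2) hc]

/-- Column orthogonality for integral columns. -/
theorem orth_self [Finite G] [Fintype (IrrCharacter G)] {g : G} (h6 : g ^ 6 = 1)
    (hr : IsConj g g⁻¹) {k : ℤ} (hk : (Nat.card (Subgroup.centralizer ({g} : Set G)) : ℤ) = k) :
    val g ⬝ᵥ val g = k := by
  classical
  have h := H686.CharKit.col_orth g g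
  rw [if_pos (IsConj.refl g)] at h
  have h1 : ((∑ χ, val g χ * val g χ : ℤ) : ℂ) = (k : ℂ) := by
    rw [← hk]
    push_cast
    rw [← h]
    refine Finset.sum_congr rfl fun χ _ => ?_
    rw [← val_coe h6 hr]
    simp
  exact_mod_cast h1

theorem orth_ne [Finite G] [Fintype (IrrCharacter G)] {g h : G} (g6 : g ^ 6 = 1)
    (hg : IsConj g g⁻¹) (h6 : h ^ 6 = 1) (hh : IsConj h h⁻¹) (hn : ¬ IsConj g h) :
    val g ⬝ᵥ val h = 0 := by
  classical
  have hc := H686.CharKit.col_orth g h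
  rw [if_neg hn] at hc
  have h1 : ((∑ χ, val g χ * val h χ : ℤ) : ℂ) = ((0 : ℤ) : ℂ) := by
    push_cast
    rw [← hc]
    refine Finset.sum_congr rfl fun χ _ => ?_
    rw [← val_coe g6 hg, ← val_coe h6 hh]
    simp
  exact_mod_cast h1

/-- Class algebra constants vanish for non-conjugate real elements of order 3 and an involution. -/
theorem class_zero [Finite G] [Fintype (IrrCharacter G)] {g h z : G} (g3 : g ^ 3 = 1)
    (hg : IsConj g g⁻¹) (h3 : h ^ 3 = 1) (hh : IsConj h h⁻¹) (z2 : z ^ 2 = 1)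
    (hn : ¬ IsConj g h) :
    ∑ i : IrrCharacter G, ((val g i : ℚ) * val h i) * ((val z i : ℚ) / val 1 i) = 0 := by
  have hc := ClassMul.card_conj_mul_conj g h z
  have h0 : Nat.card {p : G × G // p.1 * g * p.1⁻¹ * (p.2 * h * p.2⁻¹) = z} = 0 := by
    rw [Nat.card_eq_zero]
    left
    refine ⟨fun p => hn ?_⟩
    obtain ⟨⟨c, d⟩, hp⟩ := p
    simp only at hp
    have e1 : IsConj g (c * g * c⁻¹) := isConj_iff.2 ⟨c, rfl⟩
    have e2 : IsConj h (d * h * d⁻¹) := isConj_iff.2 ⟨d, rfl⟩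
    have e3 : IsConj (c * g * c⁻¹) (d * h * d⁻¹)⁻¹ := isConj_inv_of_mul
      (by rw [conj_pow, g3]; group) (by rw [conj_pow, h3]; group) (by rw [hp, z2])
    have e4 : IsConj h⁻¹ (d * h * d⁻¹)⁻¹ := by
      rw [isConj_iff]; exact ⟨d, by group⟩
    exact (e1.trans e3).trans (e4.symm.trans hh.symm)
  rw [h0] at hc
  have hG : (Nat.card G : ℂ) ≠ 0 := Core.card_ne_zero_complex
  have h1 : ∑ χ : IrrCharacter G, (χ : G → ℂ) g * (χ : G → ℂ) h * conj ((χ : G → ℂ) z) /
      (χ : G → ℂ) 1 = 0 := by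
    rw [Nat.cast_zero] at hc
    exact (mul_eq_zero.1 hc.symm).resolve_left hG
  have z6 : z ^ 6 = 1 := by
    rw [show 6 = 2 * 3 by norm_num, pow_mul, z2, one_pow]
  have hz : IsConj z z⁻¹ := by
    have : z⁻¹ = z := inv_eq_of_mul_eq_one_left (by rw [← pow_two, z2])
    rw [this]
  have g6 : g ^ 6 = 1 := by rw [show 6 = 3 * 2 by norm_num, pow_mul, g3, one_pow]
  have h6 : h ^ 6 = 1 := by rw [show 6 = 3 * 2 by norm_num, pow_mul, h3, one_pow]
  have h2 : ((∑ i : IrrCharacter G, ((val g i : ℚ) * val h i) * ((val z i : ℚ) / val 1 i) : ℚ) : ℂ)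
      = ((0 : ℚ) : ℂ) := by
    rw [Rat.cast_zero, ← h1, Rat.cast_sum]
    refine Finset.sum_congr rfl fun χ _ => ?_
    rw [← val_coe g6 hg, ← val_coe h6 hh, ← val_coe z6 hz, ← val_coe (g := (1 : G)) (by simp) (by simp)]
    push_cast
    rw [map_intCast]
    ring
  exact_mod_cast h2

/-- The count of elements inverting `g` in the class of `z`. -/
theorem class_inv [Finite G] [Fintype (IrrCharacter G)] {z : G} (z2 : z ^ 2 = 1) :
    ∃ c : ℚ, 0 < c ∧ ∀ g : G, g ^ 3 = 1 → IsConj g g⁻¹ →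
      (Nat.card {u : G // IsConj z u ∧ u * g * u⁻¹ = g⁻¹} : ℚ) =
        c * ∑ i : IrrCharacter G, ((val g i : ℚ) * val z i) * ((val z i : ℚ) / val 1 i) := by
  refine ⟨((Subgroup.centralizer ({z} : Set G)).index : ℚ) *
      ((Subgroup.centralizer ({z} : Set G)).index : ℚ) / (Nat.card G : ℚ), ?_, ?_⟩
  · have h1 : 0 < (Subgroup.centralizer ({z} : Set G)).index :=
      Nat.pos_of_ne_zero Subgroup.index_ne_zero_of_finite
    have h2 : 0 < Nat.card G := Nat.card_pos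
    positivity
  intro g g3 hg
  have hc := ClassMul.card_class_mul z z g
  have he : Nat.card {p : G × G // IsConj z p.1 ∧ IsConj z p.2 ∧ p.1 * p.2 = g} =
      Nat.card {u : G // IsConj z u ∧ u * g * u⁻¹ = g⁻¹} := by
    have hinv : ∀ u : G, IsConj z u → u * u = 1 := by
      intro u hu
      obtain ⟨c, rfl⟩ := isConj_iff.1 hu
      rw [← pow_two, conj_pow, z2]; group
    have hgg : g * g = g⁻¹ := by
      refine eq_inv_of_mul_eq_one_left ?_
      rw [← g3]; simp only [pow_succ, pow_zero, one_mul]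
    refine Nat.card_congr ⟨fun p => ⟨p.1.1, p.2.1, ?_⟩, fun u => ⟨(u.1, u.1 * g), u.2.1, ?_, ?_⟩,
      fun p => ?_, fun u => ?_⟩
    · obtain ⟨⟨u, v⟩, hu, hv, huv⟩ := p
      simp only at hu hv huv ⊢
      have h1 := hinv u hu
      have h2 := hinv v hv
      have hui : u⁻¹ = u := inv_eq_of_mul_eq_one_left h1
      have hvi : v⁻¹ = v := inv_eq_of_mul_eq_one_left h2
      rw [← huv, mul_inv_rev, hui, hvi]
      calc u * (u * v) * u = (u * u) * v * u := by group
        _ = v * u := by rw [h1, one_mul]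
    · obtain ⟨u, hu, hug⟩ := u
      simp only
      have h1 := hinv u hu
      have hui : u⁻¹ = u := inv_eq_of_mul_eq_one_left h1
      refine hu.trans (isConj_iff.2 ⟨g, ?_⟩)
      have h2 : u * g = g⁻¹ * u := by rw [← hug]; group
      have h3 : g⁻¹ * u = g * g * u := by rw [hgg]
      -- g u g⁻¹ = u g
      have h4 : g * (u * g) = u := by rw [h2]; group
      calc g * u * g⁻¹ = g * (g * (u * g)) * g⁻¹ := by rw [h4]
        _ = g * g * u := by group
        _ = u * g := by rw [← h3, h2]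
    · obtain ⟨u, hu, hug⟩ := u
      simp only
      have h1 := hinv u hu
      calc u * (u * g) = (u * u) * g := by group
        _ = g := by rw [h1, one_mul]
    · obtain ⟨⟨u, v⟩, hu, hv, huv⟩ := p
      simp only at hu hv huv ⊢
      have h1 := hinv u hu
      congr 1
      rw [← huv]
      congr 1
      calc u * (u * v) = (u * u) * v := by group
        _ = v := by rw [h1, one_mul]
    · rfl
  rw [he] at hc
  have z6 : z ^ 6 = 1 := by
    rw [show 6 = 2 * 3 by norm_num, pow_mul, z2, one_pow]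
  have hz : IsConj z z⁻¹ := by
    have : z⁻¹ = z := inv_eq_of_mul_eq_one_left (by rw [← pow_two, z2])
    rw [this]
  have g6 : g ^ 6 = 1 := by rw [show 6 = 3 * 2 by norm_num, pow_mul, g3, one_pow]
  have h2 : (((Nat.card {u : G // IsConj z u ∧ u * g * u⁻¹ = g⁻¹} : ℚ)) : ℂ) =
      ((((Subgroup.centralizer ({z} : Set G)).index : ℚ) *
      ((Subgroup.centralizer ({z} : Set G)).index : ℚ) / (Nat.card G : ℚ) *
      ∑ i : IrrCharacter G, ((val g i : ℚ) * val z i) * ((val z i : ℚ) / val 1 i) : ℚ) : ℂ) := by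
    push_cast
    rw [hc]
    congr 1
    refine Finset.sum_congr rfl fun χ _ => ?_
    rw [← val_coe g6 hg, ← val_coe z6 hz, ← val_coe (g := (1 : G)) (by simp) (by simp)]
    rw [map_intCast]
    ring
  exact_mod_cast h2

theorem four_of_distinct {ι : Type*} [Finite ι] {P : ι → Prop} {a b c d : ι} (ab : a ≠ b)
    (ac : a ≠ c) (ad : a ≠ d) (bc : b ≠ c) (bd : b ≠ d) (cd : c ≠ d) (ha : P a) (hb : P b)
    (hc : P c) (hd : P d) : 4 ≤ Nat.card {i // P i} := by
  classical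
  have := Fintype.ofFinite ι
  rw [Nat.card_eq_fintype_card, Fintype.card_subtype]
  have h1 : ({a, b, c, d} : Finset ι) ⊆ Finset.univ.filter P := by
    intro i hi
    simp only [Finset.mem_insert, Finset.mem_singleton] at hi
    rw [Finset.mem_filter]
    refine ⟨Finset.mem_univ _, ?_⟩
    rcases hi with rfl | rfl | rfl | rfl <;> assumption
  have h2 : ({a, b, c, d} : Finset ι).card = 4 := by
    rw [Finset.card_insert_of_notMem (by simp [ab, ac, ad]),
      Finset.card_insert_of_notMem (by simp [bc, bd]),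
      Finset.card_insert_of_notMem (by simp [cd]), Finset.card_singleton]
  rw [← h2]
  exact Finset.card_le_card h1

/-- The configuration: `⟨e1, e2⟩` elementary of order 9, `z1` and `z2` commuting involutions inverting
one factor and centralizing the other. -/
structure Setup (e1 e2 z1 z2 : G) : Prop where
  e1_3 : e1 ^ 3 = 1
  e2_3 : e2 ^ 3 = 1
  e1_ne : e1 ≠ 1
  e2_ne : e2 ≠ 1
  comm : e1 * e2 = e2 * e1
  z1_2 : z1 ^ 2 = 1
  z2_2 : z2 ^ 2 = 1
  zcomm : z1 * z2 = z2 * z1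
  a11 : z1 * e1 * z1⁻¹ = e1⁻¹
  a12 : z1 * e2 * z1⁻¹ = e2
  a21 : z2 * e1 * z2⁻¹ = e1
  a22 : z2 * e2 * z2⁻¹ = e2⁻¹
  c1 : Nat.card (Subgroup.centralizer ({e1} : Set G)) = 18
  c2 : Nat.card (Subgroup.centralizer ({e2} : Set G)) = 18
  c12 : Nat.card (Subgroup.centralizer ({e1 * e2} : Set G)) = 9
  cw1 : Nat.card (Subgroup.centralizer ({e1 * z2} : Set G)) = 6
  cw2 : Nat.card (Subgroup.centralizer ({z1 * e2} : Set G)) = 6
  n12 : ¬ IsConj e1 e2
  n13 : ¬ IsConj e1 (e1 * e2)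
  n23 : ¬ IsConj e2 (e1 * e2)
  inv : ∀ g : G, g * (e1 * e2) * g⁻¹ = (e1 * e2)⁻¹ → g * e1 * g⁻¹ = e1⁻¹ ∧ g * e2 * g⁻¹ = e2⁻¹

theorem mul_self_of_three {g : G} (h : g ^ 3 = 1) : g * g = g⁻¹ := by
  refine eq_inv_of_mul_eq_one_left ?_
  rw [← h]; simp only [pow_succ, pow_zero, one_mul]

theorem inv_of_two {g : G} (h : g ^ 2 = 1) : g⁻¹ = g :=
  inv_eq_of_mul_eq_one_left (by rw [← pow_two, h])

theorem isConj_pow_eq_one {g h : G} (hc : IsConj g h) (k : ℕ) : g ^ k = 1 → h ^ k = 1 := by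
  intro hg
  obtain ⟨c, rfl⟩ := isConj_iff.1 hc
  rw [conj_pow, hg]; group

theorem isConj_inv {g h : G} (hc : IsConj g h) : IsConj g⁻¹ h⁻¹ := by
  obtain ⟨c, rfl⟩ := isConj_iff.1 hc
  exact isConj_iff.2 ⟨c, by group⟩

theorem isConj_sq {g h : G} (hc : IsConj g h) : IsConj (g ^ 2) (h ^ 2) := by
  obtain ⟨c, rfl⟩ := isConj_iff.1 hc
  exact isConj_iff.2 ⟨c, by rw [conj_pow]⟩

namespace Setup

variable {e1 e2 z1 z2 : G} (S : Setup e1 e2 z1 z2)
include S

theorem r1 : IsConj e1 e1⁻¹ := isConj_iff.2 ⟨z1, S.a11⟩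
theorem r2 : IsConj e2 e2⁻¹ := isConj_iff.2 ⟨z2, S.a22⟩

theorem conj3 (e : G) : z1 * z2 * e * (z1 * z2)⁻¹ = z1 * (z2 * e * z2⁻¹) * z1⁻¹ := by group

theorem a31 : z1 * z2 * e1 * (z1 * z2)⁻¹ = e1⁻¹ := by rw [S.conj3, S.a21, S.a11]
theorem a32 : z1 * z2 * e2 * (z1 * z2)⁻¹ = e2⁻¹ := by
  have h := congrArg (fun g => g⁻¹) S.a12
  simp only [mul_inv_rev, inv_inv] at h
  rw [S.conj3, S.a22, mul_assoc]
  exact h

theorem inv12 : (e1 * e2)⁻¹ = e1⁻¹ * e2⁻¹ := by rw [S.comm, mul_inv_rev]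

theorem r12 : IsConj (e1 * e2) (e1 * e2)⁻¹ := by
  refine isConj_iff.2 ⟨z1 * z2, ?_⟩
  calc z1 * z2 * (e1 * e2) * (z1 * z2)⁻¹ =
      (z1 * z2 * e1 * (z1 * z2)⁻¹) * (z1 * z2 * e2 * (z1 * z2)⁻¹) := by group
    _ = (e1 * e2)⁻¹ := by rw [S.a31, S.a32, S.inv12]

theorem e12_3 : (e1 * e2) ^ 3 = 1 := by
  have : Commute e1 e2 := S.comm
  rw [this.mul_pow, S.e1_3, S.e2_3, one_mul]

theorem e12_ne : e1 * e2 ≠ 1 := by
  intro h
  have h1 : e2 = e1⁻¹ := eq_inv_of_mul_eq_one_right h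
  have h2 := S.a12
  rw [h1] at h2
  have h3 : z1 * e1⁻¹ * z1⁻¹ = e1 := by
    have := congrArg (fun g => g⁻¹) S.a11
    simp only [mul_inv_rev, inv_inv] at this
    rw [mul_assoc]
    exact this
  have h4 : e1 * e1 = 1 := by
    rw [h3] at h2
    nth_rewrite 1 [h2]
    group
  have h5 := mul_self_of_three S.e1_3
  rw [h4] at h5
  exact S.e1_ne (inv_eq_one.1 h5.symm)

theorem cz1 : z2 * e1 = e1 * z2 := by
  have := S.a21
  rw [mul_inv_eq_iff_eq_mul] at this
  exact this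

theorem cz2 : z1 * e2 = e2 * z1 := by
  have := S.a12
  rw [mul_inv_eq_iff_eq_mul] at this
  exact this

theorem w1_sq : (e1 * z2) ^ 2 = e1⁻¹ := by
  have : Commute e1 z2 := S.cz1.symm
  rw [this.mul_pow, S.z2_2, mul_one, pow_two, mul_self_of_three S.e1_3]

theorem w2_sq : (z1 * e2) ^ 2 = e2⁻¹ := by
  have : Commute z1 e2 := S.cz2
  rw [this.mul_pow, S.z1_2, one_mul, pow_two, mul_self_of_three S.e2_3]

theorem w1_6 : (e1 * z2) ^ 6 = 1 := by
  rw [show 6 = 2 * 3 by norm_num, pow_mul, S.w1_sq, inv_pow, S.e1_3, inv_one]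

theorem w2_6 : (z1 * e2) ^ 6 = 1 := by
  rw [show 6 = 2 * 3 by norm_num, pow_mul, S.w2_sq, inv_pow, S.e2_3, inv_one]

theorem z1z2 : z1 * z2 * z1⁻¹ = z2 := by rw [S.zcomm]; group
theorem z2z1 : z2 * z1 * z2⁻¹ = z1 := by rw [← S.zcomm]; group

theorem rw1 : IsConj (e1 * z2) (e1 * z2)⁻¹ := by
  refine isConj_iff.2 ⟨z1, ?_⟩
  calc z1 * (e1 * z2) * z1⁻¹ = (z1 * e1 * z1⁻¹) * (z1 * z2 * z1⁻¹) := by group
    _ = e1⁻¹ * z2⁻¹ := by rw [S.a11, S.z1z2, inv_of_two S.z2_2]
    _ = (e1 * z2)⁻¹ := by rw [← S.cz1, mul_inv_rev]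

theorem rw2 : IsConj (z1 * e2) (z1 * e2)⁻¹ := by
  refine isConj_iff.2 ⟨z2, ?_⟩
  calc z2 * (z1 * e2) * z2⁻¹ = (z2 * z1 * z2⁻¹) * (z2 * e2 * z2⁻¹) := by group
    _ = z1⁻¹ * e2⁻¹ := by rw [S.a22, S.z2z1, inv_of_two S.z1_2]
    _ = (z1 * e2)⁻¹ := by rw [S.cz2, mul_inv_rev]

theorem z12_2 : (z1 * z2) ^ 2 = 1 := by
  have : Commute z1 z2 := S.zcomm
  rw [this.mul_pow, S.z1_2, S.z2_2, one_mul]

theorem z1_ne : z1 ≠ 1 := by
  intro h
  have h1 := S.a11
  rw [h] at h1
  have h2 : e1 * e1 = 1 := by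
    nth_rewrite 2 [show e1 = e1⁻¹ from by simpa using h1]
    group
  rw [mul_self_of_three S.e1_3] at h2
  exact S.e1_ne (inv_eq_one.1 h2)

theorem z2_ne : z2 ≠ 1 := by
  intro h
  have h1 := S.a22
  rw [h] at h1
  have h2 : e2 * e2 = 1 := by
    nth_rewrite 2 [show e2 = e2⁻¹ from by simpa using h1]
    group
  rw [mul_self_of_three S.e2_3] at h2
  exact S.e2_ne (inv_eq_one.1 h2)

omit S in
/-- an element of order 3 is not conjugate to an involution -/
theorem not32 {e z : G} (e3 : e ^ 3 = 1) (he : e ≠ 1) (hz : z ^ 2 = 1) : ¬ IsConj e z := by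
  intro h
  have h1 := isConj_pow_eq_one h.symm 2 hz
  rw [pow_two, mul_self_of_three e3] at h1
  exact he (inv_eq_one.1 h1)

theorem w1_3 : (e1 * z2) ^ 3 ≠ 1 := by
  intro h
  have h1 : e1 * z2 = (e1 * z2) ^ 3 * ((e1 * z2) ^ 2)⁻¹ := by group
  rw [h, S.w1_sq, inv_inv, one_mul] at h1
  exact S.z2_ne (mul_eq_left.1 h1)

theorem w2_3 : (z1 * e2) ^ 3 ≠ 1 := by
  intro h
  have h1 : z1 * e2 = (z1 * e2) ^ 3 * ((z1 * e2) ^ 2)⁻¹ := by group
  rw [h, S.w2_sq, inv_inv, one_mul] at h1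
  exact S.z1_ne (mul_eq_right.1 h1)

theorem nw {e : G} (he : e ^ 3 = 1) : ¬ IsConj (e1 * z2) e := fun h =>
  S.w1_3 (isConj_pow_eq_one h.symm 3 he)

theorem nw' {e : G} (he : e ^ 3 = 1) : ¬ IsConj (z1 * e2) e := fun h =>
  S.w2_3 (isConj_pow_eq_one h.symm 3 he)

theorem nww : ¬ IsConj (e1 * z2) (z1 * e2) := by
  intro h
  have h1 := isConj_sq h
  rw [S.w1_sq, S.w2_sq] at h1
  exact S.n12 (S.r1.trans (h1.trans S.r2.symm))

variable [Finite G]

/-- At least four linear characters. -/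
theorem four_le : 4 ≤ (commutator G).index := by
  classical
  have := Core.finite_irr (G := G)
  have : Fintype (IrrCharacter G) := Fintype.ofFinite _
  have six3 : ∀ {g : G}, g ^ 3 = 1 → g ^ 6 = 1 := by
    intro g h
    rw [show 6 = 3 * 2 by norm_num, pow_mul, h, one_pow]
  have six2 : ∀ {g : G}, g ^ 2 = 1 → g ^ 6 = 1 := by
    intro g h
    rw [show 6 = 2 * 3 by norm_num, pow_mul, h, one_pow]
  have two : ∀ {g : G}, g ^ 2 = 1 → IsConj g g⁻¹ := by
    intro g h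
    rw [inv_of_two h]
  have one6 : (1 : G) ^ 6 = 1 := one_pow _
  have one3 : (1 : G) ^ 3 = 1 := one_pow _
  have oner : IsConj (1 : G) (1 : G)⁻¹ := by rw [inv_one]
  set V1 := val (G := G) e1 with hV1
  set V2 := val (G := G) e2 with hV2
  set R := val (G := G) (e1 * e2) with hR
  set S1 := val (G := G) (e1 * z2) with hS1
  set S2 := val (G := G) (z1 * e2) with hS2
  set D := val (G := G) 1 with hD
  have cV1 : ∀ χ : IrrCharacter G, ((V1 χ : ℤ) : ℂ) = (χ : G → ℂ) e1 := val_coe (six3 S.e1_3) S.r1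
  have cV2 : ∀ χ : IrrCharacter G, ((V2 χ : ℤ) : ℂ) = (χ : G → ℂ) e2 := val_coe (six3 S.e2_3) S.r2
  have cR : ∀ χ : IrrCharacter G, ((R χ : ℤ) : ℂ) = (χ : G → ℂ) (e1 * e2) :=
    val_coe (six3 S.e12_3) S.r12
  have cS1 : ∀ χ : IrrCharacter G, ((S1 χ : ℤ) : ℂ) = (χ : G → ℂ) (e1 * z2) := val_coe S.w1_6 S.rw1
  have cS2 : ∀ χ : IrrCharacter G, ((S2 χ : ℤ) : ℂ) = (χ : G → ℂ) (z1 * e2) := val_coe S.w2_6 S.rw2
  have cD : ∀ χ : IrrCharacter G, ((D χ : ℤ) : ℂ) = (χ : G → ℂ) 1 := val_coe one6 oner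
  have cZ : ∀ {z : G}, z ^ 2 = 1 → ∀ χ : IrrCharacter G, ((val z χ : ℤ) : ℂ) = (χ : G → ℂ) z :=
    fun hz => val_coe (six2 hz) (two hz)
  -- congruences
  have kV1 : ∀ χ : IrrCharacter G, (3 : ℤ) ∣ V1 χ - D χ := fun χ =>
    J3Type.CharTools.int_congr (Core.isIrr_isCharacter χ.2) e1 Nat.prime_three (cV1 χ).symm
      (by rw [S.e1_3]; exact (cD χ).symm)
  have kV2 : ∀ χ : IrrCharacter G, (3 : ℤ) ∣ V2 χ - D χ := fun χ =>
    J3Type.CharTools.int_congr (Core.isIrr_isCharacter χ.2) e2 Nat.prime_three (cV2 χ).symm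
      (by rw [S.e2_3]; exact (cD χ).symm)
  have kR : ∀ χ : IrrCharacter G, (3 : ℤ) ∣ R χ - D χ := fun χ =>
    J3Type.CharTools.int_congr (Core.isIrr_isCharacter χ.2) (e1 * e2) Nat.prime_three (cR χ).symm
      (by rw [S.e12_3]; exact (cD χ).symm)
  have kS1 : ∀ χ : IrrCharacter G, (2 : ℤ) ∣ S1 χ - V1 χ := fun χ =>
    J3Type.CharTools.int_congr (Core.isIrr_isCharacter χ.2) (e1 * z2) Nat.prime_two (cS1 χ).symm
      (by
        rw [S.w1_sq, cV1]
        exact (J3Type.CharTools.class_eq (Core.isIrr_isCharacter χ.2) S.r1).symm)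
  have kS2 : ∀ χ : IrrCharacter G, (2 : ℤ) ∣ S2 χ - V2 χ := fun χ =>
    J3Type.CharTools.int_congr (Core.isIrr_isCharacter χ.2) (z1 * e2) Nat.prime_two (cS2 χ).symm
      (by
        rw [S.w2_sq, cV2]
        exact (J3Type.CharTools.class_eq (Core.isIrr_isCharacter χ.2) S.r2).symm)
  -- orthogonality
  have o11 : V1 ⬝ᵥ V1 = 18 := orth_self (six3 S.e1_3) S.r1 (by exact_mod_cast S.c1)
  have o22 : V2 ⬝ᵥ V2 = 18 := orth_self (six3 S.e2_3) S.r2 (by exact_mod_cast S.c2)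
  have oRR : R ⬝ᵥ R = 9 := orth_self (six3 S.e12_3) S.r12 (by exact_mod_cast S.c12)
  have oS1 : S1 ⬝ᵥ S1 = 6 := orth_self S.w1_6 S.rw1 (by exact_mod_cast S.cw1)
  have oS2 : S2 ⬝ᵥ S2 = 6 := orth_self S.w2_6 S.rw2 (by exact_mod_cast S.cw2)
  have o12 : V1 ⬝ᵥ V2 = 0 := orth_ne (six3 S.e1_3) S.r1 (six3 S.e2_3) S.r2 S.n12
  have o1R : V1 ⬝ᵥ R = 0 := orth_ne (six3 S.e1_3) S.r1 (six3 S.e12_3) S.r12 S.n13
  have o2R : V2 ⬝ᵥ R = 0 := orth_ne (six3 S.e2_3) S.r2 (six3 S.e12_3) S.r12 S.n23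
  have oSS : S1 ⬝ᵥ S2 = 0 := orth_ne S.w1_6 S.rw1 S.w2_6 S.rw2 S.nww
  have p11 : S1 ⬝ᵥ V1 = 0 := orth_ne S.w1_6 S.rw1 (six3 S.e1_3) S.r1 (S.nw S.e1_3)
  have p12 : S1 ⬝ᵥ V2 = 0 := orth_ne S.w1_6 S.rw1 (six3 S.e2_3) S.r2 (S.nw S.e2_3)
  have p1R : S1 ⬝ᵥ R = 0 := orth_ne S.w1_6 S.rw1 (six3 S.e12_3) S.r12 (S.nw S.e12_3)
  have p21 : S2 ⬝ᵥ V1 = 0 := orth_ne S.w2_6 S.rw2 (six3 S.e1_3) S.r1 (S.nw' S.e1_3)
  have p22 : S2 ⬝ᵥ V2 = 0 := orth_ne S.w2_6 S.rw2 (six3 S.e2_3) S.r2 (S.nw' S.e2_3)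
  have p2R : S2 ⬝ᵥ R = 0 := orth_ne S.w2_6 S.rw2 (six3 S.e12_3) S.r12 (S.nw' S.e12_3)
  have d1 : V1 ⬝ᵥ D = 0 := orth_ne (six3 S.e1_3) S.r1 one6 oner
    (fun h => S.e1_ne (isConj_one_left.1 h))
  have d2 : V2 ⬝ᵥ D = 0 := orth_ne (six3 S.e2_3) S.r2 one6 oner
    (fun h => S.e2_ne (isConj_one_left.1 h))
  have dR : R ⬝ᵥ D = 0 := orth_ne (six3 S.e12_3) S.r12 one6 oner
    (fun h => S.e12_ne (isConj_one_left.1 h))
  have dS1 : S1 ⬝ᵥ D = 0 := orth_ne S.w1_6 S.rw1 one6 oner (S.nw one3)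
  have dS2 : S2 ⬝ᵥ D = 0 := orth_ne S.w2_6 S.rw2 one6 oner (S.nw' one3)
  have zz1 : ∀ {z : G}, z ^ 2 = 1 → V1 ⬝ᵥ val z = 0 := fun hz =>
    orth_ne (six3 S.e1_3) S.r1 (six2 hz) (two hz) (not32 S.e1_3 S.e1_ne hz)
  have zz2 : ∀ {z : G}, z ^ 2 = 1 → V2 ⬝ᵥ val z = 0 := fun hz =>
    orth_ne (six3 S.e2_3) S.r2 (six2 hz) (two hz) (not32 S.e2_3 S.e2_ne hz)
  have zzR : ∀ {z : G}, z ^ 2 = 1 → R ⬝ᵥ val z = 0 := fun hz =>
    orth_ne (six3 S.e12_3) S.r12 (six2 hz) (two hz) (not32 S.e12_3 S.e12_ne hz)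
  -- the vectors of norm 3
  obtain ⟨x, hx⟩ : ∃ x : IrrCharacter G → ℤ, (3 : ℤ) • x = R - V1 := by
    choose x hx using fun χ : IrrCharacter G => (show (3 : ℤ) ∣ R χ - V1 χ from by
      have h1 := kV1 χ; have h2 := kR χ; omega)
    exact ⟨x, funext fun χ => by simpa using (hx χ).symm⟩
  obtain ⟨y, hy⟩ : ∃ y : IrrCharacter G → ℤ, (3 : ℤ) • y = R - V2 := by
    choose y hy using fun χ : IrrCharacter G => (show (3 : ℤ) ∣ R χ - V2 χ from by
      have h1 := kV2 χ; have h2 := kR χ; omega)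
    exact ⟨y, funext fun χ => by simpa using (hy χ).symm⟩
  obtain ⟨m, hm⟩ : ∃ m : IrrCharacter G → ℤ, (-6 : ℤ) • m = V1 + (3 : ℤ) • S1 + (2 : ℤ) • R := by
    choose m hm using fun χ : IrrCharacter G => (show (-6 : ℤ) ∣ V1 χ + 3 * S1 χ + 2 * R χ from by
      have h1 := kV1 χ; have h2 := kR χ; have h3 := kS1 χ; exact neg_dvd.2 (by omega))
    exact ⟨m, funext fun χ => by simpa using (hm χ).symm⟩
  obtain ⟨n, hn⟩ : ∃ n : IrrCharacter G → ℤ, (-6 : ℤ) • n = V2 + (3 : ℤ) • S2 + (2 : ℤ) • R := by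
    choose n hn using fun χ : IrrCharacter G => (show (-6 : ℤ) ∣ V2 χ + 3 * S2 χ + 2 * R χ from by
      have h1 := kV2 χ; have h2 := kR χ; have h3 := kS2 χ; exact neg_dvd.2 (by omega))
    exact ⟨n, funext fun χ => by simpa using (hn χ).symm⟩
  have bil : ∀ (a b : ℤ) (f g : IrrCharacter G → ℤ), (a • f) ⬝ᵥ (b • g) = a * b * (f ⬝ᵥ g) := by
    intro a b f g
    rw [smul_dotProduct, dotProduct_smul, smul_eq_mul, smul_eq_mul, mul_assoc]
  have bil' : ∀ (a : ℤ) (f g : IrrCharacter G → ℤ), (a • f) ⬝ᵥ g = a * (f ⬝ᵥ g) := by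
    intro a f g
    rw [smul_dotProduct, smul_eq_mul]
  have hxx : x ⬝ᵥ x = 3 := by
    have h := bil 3 3 x x
    rw [hx] at h
    simp only [sub_dotProduct, dotProduct_sub, dotProduct_comm R V1, oRR, o1R, o11] at h
    omega
  have hyy : y ⬝ᵥ y = 3 := by
    have h := bil 3 3 y y
    rw [hy] at h
    simp only [sub_dotProduct, dotProduct_sub, dotProduct_comm R V2, oRR, o2R, o22] at h
    omega
  have hxy : x ⬝ᵥ y = 1 := by
    have h := bil 3 3 x y
    rw [hx, hy] at h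
    simp only [sub_dotProduct, dotProduct_sub, dotProduct_comm R V2, oRR, o2R, o1R, o12] at h
    omega
  have hxr : x ⬝ᵥ R = 3 := by
    have h := bil' 3 x R
    rw [hx] at h
    simp only [sub_dotProduct, oRR, o1R] at h
    omega
  have hyr : y ⬝ᵥ R = 3 := by
    have h := bil' 3 y R
    rw [hy] at h
    simp only [sub_dotProduct, oRR, o2R] at h
    omega
  have hmm : m ⬝ᵥ m = 3 := by
    have h := bil (-6) (-6) m m
    rw [hm] at h
    simp only [add_dotProduct, dotProduct_add, smul_dotProduct, dotProduct_smul, smul_eq_mul,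
      dotProduct_comm R V1, dotProduct_comm R S1, dotProduct_comm V1 S1, oRR, o1R, o11, p11, p1R,
      oS1] at h
    omega
  have hnn : n ⬝ᵥ n = 3 := by
    have h := bil (-6) (-6) n n
    rw [hn] at h
    simp only [add_dotProduct, dotProduct_add, smul_dotProduct, dotProduct_smul, smul_eq_mul,
      dotProduct_comm R V2, dotProduct_comm R S2, dotProduct_comm V2 S2, oRR, o2R, o22, p22, p2R,
      oS2] at h
    omega
  have hmn : m ⬝ᵥ n = 1 := by
    have h := bil (-6) (-6) m n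
    rw [hm, hn] at h
    simp only [add_dotProduct, dotProduct_add, smul_dotProduct, dotProduct_smul, smul_eq_mul,
      dotProduct_comm R V2, dotProduct_comm R S2, dotProduct_comm V1 S2, oRR, o2R, o12, p12, p1R,
      o1R, p2R, p21, oSS] at h
    omega
  have hmx : m ⬝ᵥ x = 0 := by
    have h := bil (-6) 3 m x
    rw [hm, hx] at h
    simp only [add_dotProduct, dotProduct_sub, smul_dotProduct, smul_eq_mul,
      dotProduct_comm R V1, oRR, o1R, o11, p11, p1R] at h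
    omega
  have hmy : m ⬝ᵥ y = -1 := by
    have h := bil (-6) 3 m y
    rw [hm, hy] at h
    simp only [add_dotProduct, dotProduct_sub, smul_dotProduct, smul_eq_mul,
      dotProduct_comm R V2, oRR, o1R, o2R, o12, p12, p1R] at h
    omega
  have hmr : m ⬝ᵥ R = -3 := by
    have h := bil' (-6) m R
    rw [hm] at h
    simp only [add_dotProduct, smul_dotProduct, smul_eq_mul, oRR, o1R, p1R] at h
    omega
  have hnx : n ⬝ᵥ x = -1 := by
    have h := bil (-6) 3 n x
    rw [hn, hx] at h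
    simp only [add_dotProduct, dotProduct_sub, smul_dotProduct, smul_eq_mul,
      dotProduct_comm R V1, dotProduct_comm V2 V1, oRR, o1R, o2R, o12, p21, p2R] at h
    omega
  have hny : n ⬝ᵥ y = 0 := by
    have h := bil (-6) 3 n y
    rw [hn, hy] at h
    simp only [add_dotProduct, dotProduct_sub, smul_dotProduct, smul_eq_mul,
      dotProduct_comm R V2, oRR, o2R, o22, p22, p2R] at h
    omega
  have hnr : n ⬝ᵥ R = -3 := by
    have h := bil' (-6) n R
    rw [hn] at h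
    simp only [add_dotProduct, smul_dotProduct, smul_eq_mul, oRR, o2R, p2R] at h
    omega
  have hxD : x ⬝ᵥ D = 0 := by
    have h := bil' 3 x D
    rw [hx] at h
    simp only [sub_dotProduct, dR, d1] at h
    omega
  have hyD : y ⬝ᵥ D = 0 := by
    have h := bil' 3 y D
    rw [hy] at h
    simp only [sub_dotProduct, dR, d2] at h
    omega
  have hmD : m ⬝ᵥ D = 0 := by
    have h := bil' (-6) m D
    rw [hm] at h
    simp only [add_dotProduct, smul_dotProduct, smul_eq_mul, dR, d1, dS1] at h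
    omega
  have hnD : n ⬝ᵥ D = 0 := by
    have h := bil' (-6) n D
    rw [hn] at h
    simp only [add_dotProduct, smul_dotProduct, smul_eq_mul, dR, d2, dS2] at h
    omega
  have hxZ : ∀ {z : G}, z ^ 2 = 1 → x ⬝ᵥ val z = 0 := by
    intro z hz
    have h := bil' 3 x (val z)
    rw [hx] at h
    simp only [sub_dotProduct, zzR hz, zz1 hz] at h
    omega
  have hyZ : ∀ {z : G}, z ^ 2 = 1 → y ⬝ᵥ val z = 0 := by
    intro z hz
    have h := bil' 3 y (val z)
    rw [hy] at h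
    simp only [sub_dotProduct, zzR hz, zz2 hz] at h
    omega
  -- the trivial character
  set o : IrrCharacter G := ⟨1, Core.isIrr_one⟩ with ho
  have vo : ∀ g : G, val g o = 1 := by
    intro g
    simp [val, ho]
  have Do : D o = 1 := vo 1
  have hxo : x o = 0 := by
    have h := congrFun hx o
    simp only [Pi.smul_apply, Pi.sub_apply, smul_eq_mul] at h
    rw [hR, hV1, vo, vo] at h
    omega
  have hyo : y o = 0 := by
    have h := congrFun hy o
    simp only [Pi.smul_apply, Pi.sub_apply, smul_eq_mul] at h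
    rw [hR, hV2, vo, vo] at h
    omega
  have hmo : m o = -1 := by
    have h := congrFun hm o
    simp only [Pi.smul_apply, Pi.add_apply, smul_eq_mul] at h
    rw [hR, hV1, hS1, vo, vo, vo] at h
    omega
  have hno : n o = -1 := by
    have h := congrFun hn o
    simp only [Pi.smul_apply, Pi.add_apply, smul_eq_mul] at h
    rw [hR, hV2, hS2, vo, vo, vo] at h
    omega
  have Dpos : ∀ χ, 0 < D χ := by
    intro χ
    obtain ⟨k, hk, hk'⟩ := Core.isIrr_apply_one χ.2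
    have h := cD χ
    rw [hk'] at h
    have h1 : D χ = k := by exact_mod_cast h
    omega
  have hxq : ∀ χ, (x χ : ℚ) = (R χ - V1 χ) / 3 := by
    intro χ
    have h := congrFun hx χ
    simp only [Pi.smul_apply, Pi.sub_apply, smul_eq_mul] at h
    have h' : (3 : ℚ) * x χ = R χ - V1 χ := by exact_mod_cast h
    rw [← h']; ring
  have hyq : ∀ χ, (y χ : ℚ) = (R χ - V2 χ) / 3 := by
    intro χ
    have h := congrFun hy χ
    simp only [Pi.smul_apply, Pi.sub_apply, smul_eq_mul] at h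
    have h' : (3 : ℚ) * y χ = R χ - V2 χ := by exact_mod_cast h
    rw [← h']; ring
  -- the class algebra relations
  have hInv : ∀ {z : G}, z ^ 2 = 1 → KleinComb.Inv D x y R o (val z) := by
    intro z hz
    have c12 := class_zero S.e1_3 S.r1 S.e2_3 S.r2 hz S.n12
    have c1R := class_zero S.e1_3 S.r1 S.e12_3 S.r12 hz S.n13
    have c2R := class_zero S.e2_3 S.r2 S.e12_3 S.r12 hz S.n23
    rw [← hV1, ← hV2, ← hD] at c12
    rw [← hV1, ← hR, ← hD] at c1R
    rw [← hV2, ← hR, ← hD] at c2R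
    refine ⟨vo z, hxZ hz, hyZ hz, zzR hz, ?_, ?_, ?_⟩
    · rw [Finset.mul_sum, ← sub_eq_zero, ← Finset.sum_sub_distrib]
      have : ∀ i, ((x i : ℚ) * R i) * ((val z i : ℚ) / D i) -
          3 * (((x i : ℚ) * y i) * ((val z i : ℚ) / D i)) =
          (1 / 3) * (((V2 i : ℚ) * R i) * ((val z i : ℚ) / D i)) -
          (1 / 3) * (((V1 i : ℚ) * V2 i) * ((val z i : ℚ) / D i)) := by
        intro i
        rw [hxq, hyq]; ring
      rw [Finset.sum_congr rfl fun i _ => this i, Finset.sum_sub_distrib, ← Finset.mul_sum,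
        ← Finset.mul_sum, c2R, c12]
      norm_num
    · rw [Finset.mul_sum, ← sub_eq_zero, ← Finset.sum_sub_distrib]
      have : ∀ i, ((y i : ℚ) * R i) * ((val z i : ℚ) / D i) -
          3 * (((x i : ℚ) * y i) * ((val z i : ℚ) / D i)) =
          (1 / 3) * (((V1 i : ℚ) * R i) * ((val z i : ℚ) / D i)) -
          (1 / 3) * (((V1 i : ℚ) * V2 i) * ((val z i : ℚ) / D i)) := by
        intro i
        rw [hxq, hyq]; ring
      rw [Finset.sum_congr rfl fun i _ => this i, Finset.sum_sub_distrib, ← Finset.mul_sum,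
        ← Finset.mul_sum, c1R, c12]
      norm_num
    · rw [Finset.mul_sum, ← sub_eq_zero, ← Finset.sum_sub_distrib]
      have : ∀ i, ((R i : ℚ) * R i) * ((val z i : ℚ) / D i) -
          9 * (((x i : ℚ) * y i) * ((val z i : ℚ) / D i)) =
          (((V1 i : ℚ) * R i) * ((val z i : ℚ) / D i)) +
          (((V2 i : ℚ) * R i) * ((val z i : ℚ) / D i)) -
          (((V1 i : ℚ) * V2 i) * ((val z i : ℚ) / D i)) := by
        intro i
        rw [hxq, hyq]; ring
      rw [Finset.sum_congr rfl fun i _ => this i, Finset.sum_sub_distrib, Finset.sum_add_distrib,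
        c1R, c2R, c12]
      norm_num
  -- the counts of elements inverting
  have hcount : ∀ {z e : G}, z ^ 2 = 1 → e ^ 3 = 1 → IsConj e e⁻¹ →
      (∀ g : G, g * (e1 * e2) * g⁻¹ = (e1 * e2)⁻¹ → g * e * g⁻¹ = e⁻¹) →
      z * e * z⁻¹ = e⁻¹ → z * (e1 * e2) * z⁻¹ ≠ (e1 * e2)⁻¹ →
      ∑ i, ((R i : ℚ) * val z i) * ((val z i : ℚ) / D i) ≠
        ∑ i, ((val e i : ℚ) * val z i) * ((val z i : ℚ) / D i) := by
    intro z e hz he her hsub hze hz12 heq
    obtain ⟨c, hc, hcs⟩ := class_inv hz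
    have h1 := hcs (e1 * e2) S.e12_3 S.r12
    have h2 := hcs e he her
    rw [← hR, ← hD, heq] at h1
    rw [← hD] at h2
    rw [← h2] at h1
    have h3 : Nat.card {u : G // IsConj z u ∧ u * (e1 * e2) * u⁻¹ = (e1 * e2)⁻¹} =
        Nat.card {u : G // IsConj z u ∧ u * e * u⁻¹ = e⁻¹} := by exact_mod_cast h1
    have h4 : ({u : G | IsConj z u ∧ u * (e1 * e2) * u⁻¹ = (e1 * e2)⁻¹} : Set G) ⊂
        {u : G | IsConj z u ∧ u * e * u⁻¹ = e⁻¹} := by
      refine ⟨fun u hu => ⟨hu.1, hsub u hu.2⟩, fun h => hz12 ?_⟩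
      exact (h (a := z) ⟨IsConj.refl z, hze⟩).2
    have h5 := Set.ncard_lt_ncard h4 (Set.toFinite _)
    rw [← Nat.card_coe_set_eq, ← Nat.card_coe_set_eq] at h5
    exact absurd h3 h5.ne
  have q1 : ∑ i, ((x i : ℚ) * val z1 i) * ((val z1 i : ℚ) / D i) ≠ 0 := by
    have h1 := hcount S.z1_2 S.e1_3 S.r1 (fun g hg => (S.inv g hg).1) S.a11 (by
      intro h
      have h2 : z1 * (e1 * e2) * z1⁻¹ = (z1 * e1 * z1⁻¹) * (z1 * e2 * z1⁻¹) := by group
      rw [h, S.a11, S.a12, S.inv12] at h2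
      have h3 : e2⁻¹ = e2 := mul_left_cancel h2
      have h4 := mul_self_of_three S.e2_3
      rw [h3] at h4
      exact S.e2_ne (mul_eq_left.1 h4))
    intro h
    apply h1
    rw [← hV1]
    have h2 : ∀ i, ((x i : ℚ) * val z1 i) * ((val z1 i : ℚ) / D i) =
        (1 / 3) * (((R i : ℚ) * val z1 i) * ((val z1 i : ℚ) / D i)) -
        (1 / 3) * (((V1 i : ℚ) * val z1 i) * ((val z1 i : ℚ) / D i)) := by
      intro i
      rw [hxq]; ring
    rw [Finset.sum_congr rfl fun i _ => h2 i, Finset.sum_sub_distrib, ← Finset.mul_sum,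
      ← Finset.mul_sum] at h
    linarith
  have q2 : ∑ i, ((y i : ℚ) * val z2 i) * ((val z2 i : ℚ) / D i) ≠ 0 := by
    have h1 := hcount S.z2_2 S.e2_3 S.r2 (fun g hg => (S.inv g hg).2) S.a22 (by
      intro h
      have h2 : z2 * (e1 * e2) * z2⁻¹ = (z2 * e1 * z2⁻¹) * (z2 * e2 * z2⁻¹) := by group
      rw [h, S.a21, S.a22, S.inv12] at h2
      have h3 : e1⁻¹ = e1 := mul_right_cancel h2
      have h4 := mul_self_of_three S.e1_3
      rw [h3] at h4
      exact S.e1_ne (mul_eq_left.1 h4))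
    intro h
    apply h1
    rw [← hV2]
    have h2 : ∀ i, ((y i : ℚ) * val z2 i) * ((val z2 i : ℚ) / D i) =
        (1 / 3) * (((R i : ℚ) * val z2 i) * ((val z2 i : ℚ) / D i)) -
        (1 / 3) * (((V2 i : ℚ) * val z2 i) * ((val z2 i : ℚ) / D i)) := by
      intro i
      rw [hyq]; ring
    rw [Finset.sum_congr rfl fun i _ => h2 i, Finset.sum_sub_distrib, ← Finset.mul_sum,
      ← Finset.mul_sum] at h
    linarith
  -- linear characters
  have lin : ∀ i, D i = 1 → val z1 i = 1 ∨ val z2 i = 1 ∨ val (z1 * z2) i = 1 := by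
    intro χ hχ
    have h1 : (χ : G → ℂ) 1 = 1 := by rw [← cD, hχ, Int.cast_one]
    obtain ⟨φ, hφ⟩ := CharactersDeep.LinearExt.exists_hom_of_isCharacter (Core.isIrr_isCharacter χ.2) h1
    have k1 : (val z1 χ : ℂ) = φ z1 := by rw [cZ S.z1_2, hφ]
    have k2 : (val z2 χ : ℂ) = φ z2 := by rw [cZ S.z2_2, hφ]
    have k3 : (val (z1 * z2) χ : ℂ) = φ z1 * φ z2 := by
      rw [cZ S.z12_2, ← hφ, map_mul, Units.val_mul]
    have k4 : val (z1 * z2) χ = val z1 χ * val z2 χ := by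
      have : ((val (z1 * z2) χ : ℤ) : ℂ) = ((val z1 χ * val z2 χ : ℤ) : ℂ) := by
        rw [k3, Int.cast_mul, k1, k2]
      exact_mod_cast this
    have k5 : val z1 χ * val z1 χ = 1 := by
      have : ((val z1 χ * val z1 χ : ℤ) : ℂ) = ((1 : ℤ) : ℂ) := by
        rw [Int.cast_mul, k1, ← Units.val_mul, ← map_mul, ← pow_two, S.z1_2, map_one]
        simp
      exact_mod_cast this
    have k6 : val z2 χ * val z2 χ = 1 := by
      have : ((val z2 χ * val z2 χ : ℤ) : ℂ) = ((1 : ℤ) : ℂ) := by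
        rw [Int.cast_mul, k2, ← Units.val_mul, ← map_mul, ← pow_two, S.z2_2, map_one]
        simp
      exact_mod_cast this
    rcases Int.eq_one_or_neg_one_of_mul_eq_one k5 with h | h
    · exact Or.inl h
    · rcases Int.eq_one_or_neg_one_of_mul_eq_one k6 with h' | h'
      · exact Or.inr (Or.inl h')
      · right; right
        rw [k4, h, h']; norm_num
  rcases KleinComb.core D x y R m n (val z1) (val z2) (val (z1 * z2)) o Dpos Do hxo hyo (vo _) hmo
    hno hxx hyy hmm hnn oRR hxy hxr hyr hmx hmy hmr hnx hny hnr hmn hxD hyD dR hmD hnD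
    (hInv S.z1_2) (hInv S.z2_2) (hInv S.z12_2) q1 q2 lin with h | h
  · exfalso
    obtain ⟨χ, hxχ, hyχ, hz⟩ := h
    have hχ := Core.isIrr_isCharacter χ.2
    -- if `e1` is in the kernel then `y χ = 0`
    have hy0 : e1 ∈ H686.CharKit.chKer χ → y χ = 0 := by
      intro hk
      have h1 : (χ : G → ℂ) (e1 * e2) = (χ : G → ℂ) e2 := H686.CharKit.apply_mul_of_eq hχ hk e2
      rw [← cR, ← cV2] at h1
      have h2 : R χ = V2 χ := by exact_mod_cast h1
      have h := congrFun hy χ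
      simp only [Pi.smul_apply, Pi.sub_apply, smul_eq_mul] at h
      omega
    have hx0 : e2 ∈ H686.CharKit.chKer χ → x χ = 0 := by
      intro hk
      have h1 : (χ : G → ℂ) (e1 * e2) = (χ : G → ℂ) e1 := H686.CharKit.apply_mul_of_eq' hχ hk e1
      rw [← cR, ← cV1] at h1
      have h2 : R χ = V1 χ := by exact_mod_cast h1
      have h := congrFun hx χ
      simp only [Pi.smul_apply, Pi.sub_apply, smul_eq_mul] at h
      omega
    have hker : ∀ z e : G, e ^ 3 = 1 → z ∈ H686.CharKit.chKer χ → z * e * z⁻¹ = e⁻¹ →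
        e ∈ H686.CharKit.chKer χ := by
      intro z e he hz hze
      have h1 : z * (e * z⁻¹ * e⁻¹) ∈ H686.CharKit.chKer χ :=
        mul_mem hz ((H686.CharKit.chKer_normal χ).conj_mem _ (inv_mem hz) e)
      have h2 : z * (e * z⁻¹ * e⁻¹) = e⁻¹ * e⁻¹ := by rw [← hze]; group
      rw [h2, ← mul_inv_rev, mul_self_of_three he, inv_inv] at h1
      exact h1
    have hmem : ∀ {z : G}, z ^ 2 = 1 → val z χ = D χ → z ∈ H686.CharKit.chKer χ := by
      intro z hz h
      rw [H686.CharKit.mem_chKer, ← cZ hz, ← cD, h]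
    rcases hz with h | h | h
    · exact hyχ (hy0 (hker z1 e1 S.e1_3 (hmem S.z1_2 h) S.a11))
    · exact hxχ (hx0 (hker z2 e2 S.e2_3 (hmem S.z2_2 h) S.a22))
    · exact hyχ (hy0 (hker (z1 * z2) e1 S.e1_3 (hmem S.z12_2 h) S.a31))
  · obtain ⟨a, b, c, d, ab, ac, ad, bc, bd, cd, Da, Db, Dc, Dd⟩ := h
    rw [← S0154.result]
    have hone : ∀ {χ : IrrCharacter G}, D χ = 1 → (χ : G → ℂ) 1 = 1 := by
      intro χ h
      rw [← cD, h, Int.cast_one]
    exact four_of_distinct ab ac ad bc bd cd (hone Da) (hone Db) (hone Dc) (hone Dd)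

end Setup

end Cfsg.Agent.H454.KleinChar
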