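import Mathlib
import Cfsg.Prelude.Def_Transfer
import Cfsg.Agent.H454.KleinChar
import Cfsg.Agent.S0058

/-!
# The configuration of S3805: Sylow 3-subgroup of order 9, Klein four automizer
-/

set_option autoImplicit false

open Cfsg Cfsg.Agent.H454.KleinChar

namespace Cfsg.Agent.H454.KleinGroup

variable {G : Type*} [Group G]

/-- A complement of `T` in its normalizer. -/
theorem exists_complement [Finite G] (T : Sylow 3 G) (hcard : Nat.card T = 9)
    [hn : ((T : Subgroup G).subgroupOf (Subgroup.normalizer ((T : Subgroup G) : Set G))).Normal]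
    (hK : IsKleinFour (↥(Subgroup.normalizer ((T : Subgroup G) : Set G)) ⧸
      (T : Subgroup G).subgroupOf (Subgroup.normalizer ((T : Subgroup G) : Set G)))) :
    ∃ V : Subgroup G, V ≤ Subgroup.normalizer ((T : Subgroup G) : Set G) ∧ Nat.card V = 4 ∧
      (∀ v ∈ V, v * v = 1) ∧ V ⊓ (T : Subgroup G) = ⊥ ∧
      ∀ n ∈ Subgroup.normalizer ((T : Subgroup G) : Set G), ∃ t ∈ (T : Subgroup G), ∃ v ∈ V,
        n = t * v := by
  set N := Subgroup.normalizer ((T : Subgroup G) : Set G) with hN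
  set T0 := (T : Subgroup G).subgroupOf N with hT0
  have hTN : (T : Subgroup G) ≤ N := Subgroup.le_normalizer
  have c1 : Nat.card T0 = 9 := by
    rw [← hcard]
    exact Nat.card_congr (Subgroup.subgroupOfEquivOfLe hTN).toEquiv
  have c2 : T0.index = 4 := by
    rw [Subgroup.index_eq_card]
    exact hK.card_four
  obtain ⟨V0, hV0⟩ := Subgroup.exists_right_complement'_of_coprime (N := T0) (by
    rw [c1, c2]; decide)
  have e : (N ⧸ T0) ≃* V0 := hV0.symm.QuotientMulEquiv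
  refine ⟨V0.map N.subtype, ?_, ?_, ?_, ?_, ?_⟩
  · rw [Subgroup.map_le_iff_le_comap]
    intro x _
    exact x.2
  · rw [Subgroup.card_map_of_injective N.subtype_injective, ← Nat.card_congr e.toEquiv]
    exact hK.card_four
  · rintro _ ⟨v, hv, rfl⟩
    have h1 : (⟨v, hv⟩ : V0) * ⟨v, hv⟩ = 1 := by
      apply e.symm.injective
      rw [map_mul, map_one, hK.mul_self]
    have h2 : v * v = 1 := congrArg Subtype.val h1
    rw [← map_mul, h2, map_one]
  · rw [eq_bot_iff]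
    rintro _ ⟨⟨v, hv, rfl⟩, hT⟩
    have h1 : v ∈ T0 := by
      rw [hT0, Subgroup.mem_subgroupOf]; exact hT
    have h2 : v ∈ T0 ⊓ V0 := ⟨h1, hv⟩
    rw [hV0.disjoint.eq_bot] at h2
    rw [Subgroup.mem_bot] at h2 ⊢
    rw [h2, map_one]
  · intro n hn'
    obtain ⟨⟨t, v⟩, htv⟩ := hV0.2 ⟨n, hn'⟩
    refine ⟨t.1.1, ?_, v.1.1, ⟨v.1, v.2, rfl⟩, ?_⟩
    · have := t.2
      exact Subgroup.mem_subgroupOf.1 this
    · have := congrArg Subtype.val htv
      exact this.symm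

/-- A proper subgroup of a group of order 9 containing a nonidentity element is generated by it. -/
theorem eq_zpowers [Finite G] {T A : Subgroup G} (hcard : Nat.card T = 9) (hA : A ≤ T)
    (hne : A ≠ T) {x : G} (hx : x ∈ A) (hx1 : x ≠ 1) (h3 : x ^ 3 = 1) : A = Subgroup.zpowers x := by
  have h1 : Nat.card A ∣ 9 := hcard ▸ Subgroup.card_dvd_of_le hA
  have h2 : Subgroup.zpowers x ≤ A := by rw [Subgroup.zpowers_le]; exact hx
  have h3 : Nat.card (Subgroup.zpowers x) = 3 := by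
    rw [Nat.card_zpowers]
    exact orderOf_eq_prime h3 hx1
  have h4 : Nat.card A = 1 ∨ Nat.card A = 3 ∨ Nat.card A = 9 := by
    have : Nat.card A ∈ Nat.divisors 9 := Nat.mem_divisors.2 ⟨h1, by norm_num⟩
    have h5 : Nat.divisors 9 = {1, 3, 9} := by decide
    rw [h5] at this
    simpa using this
  have h5 : Nat.card A ≤ 3 := by
    rcases h4 with h | h | h
    · omega
    · omega
    · exact absurd (Subgroup.eq_of_le_of_card_ge hA (by rw [h, hcard])) hne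
  exact (Subgroup.eq_of_le_of_card_ge h2 (by rw [h3]; exact h5)).symm

theorem mem_zpowers_three {x y : G} (h3 : x ^ 3 = 1) (hy : y ∈ Subgroup.zpowers x) :
    y = 1 ∨ y = x ∨ y = x⁻¹ := by
  obtain ⟨k, rfl⟩ := Subgroup.mem_zpowers_iff.1 hy
  have h1 : x ^ k = x ^ (k % 3) := by
    have h2 : x ^ (3 : ℤ) = 1 := by exact_mod_cast h3
    conv_lhs => rw [← Int.emod_add_mul_ediv k 3, zpow_add, zpow_mul, h2, one_zpow, mul_one]
  rw [h1]
  have h4 := Int.emod_nonneg k (by norm_num : (3 : ℤ) ≠ 0)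
  have h5 := Int.emod_lt_of_pos k (by norm_num : (0 : ℤ) < 3)
  generalize k % 3 = j at h4 h5
  interval_cases j
  · left; simp
  · right; left; simp
  · right; right
    refine eq_inv_of_mul_eq_one_left ?_
    rw [← h3]
    show x ^ (2 : ℤ) * x = _
    rw [← zpow_add_one]
    norm_cast

theorem mul_pow_of_inv (x : G) : x ^ 2 * x⁻¹ ^ 2 = 1 := by
  rw [inv_pow, mul_inv_cancel]

/-- The elements `e1, e2, z1, z2`. -/
structure Loc (T V : Subgroup G) (e1 e2 z1 z2 : G) : Prop where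
  m1 : e1 ∈ T
  m2 : e2 ∈ T
  v1 : z1 ∈ V
  v2 : z2 ∈ V
  n1 : e1 ≠ 1
  n2 : e2 ≠ 1
  a11 : z1 * e1 * z1⁻¹ = e1⁻¹
  a12 : z1 * e2 * z1⁻¹ = e2
  a21 : z2 * e1 * z2⁻¹ = e1
  a22 : z2 * e2 * z2⁻¹ = e2⁻¹
  dec : ∀ t ∈ T, ∃ c ∈ Subgroup.zpowers e1, ∃ d ∈ Subgroup.zpowers e2, t = c * d
  act : ∀ v ∈ V, (v * e1 * v⁻¹ = e1 ∨ v * e1 * v⁻¹ = e1⁻¹) ∧ (v * e2 * v⁻¹ = e2 ∨ v * e2 * v⁻¹ = e2⁻¹)

theorem exists_loc [Finite G] {T V : Subgroup G} (hT : Cfsg.IsElementaryAbelian 3 T)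
    (hcard : Nat.card T = 9) (hVN : V ≤ Subgroup.normalizer (T : Set G)) (hV4 : Nat.card V = 4)
    (hV2 : ∀ v ∈ V, v * v = 1) (hfaith : ∀ v ∈ V, (∀ t ∈ T, v * t * v⁻¹ = t) → v = 1) :
    ∃ e1 e2 z1 z2 : G, Loc T V e1 e2 z1 z2 := by
  have hab : ∀ a ∈ T, ∀ b ∈ T, a * b = b * a := by
    intro a ha b hb
    have := hT.1
    exact congrArg Subtype.val (this.is_comm.comm (⟨a, ha⟩ : T) ⟨b, hb⟩)
  have h3 : ∀ a ∈ T, a ^ 3 = 1 := hT.2
  have hconj : ∀ v ∈ V, ∀ t ∈ T, v * t * v⁻¹ ∈ T := by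
    intro v hv t ht
    exact (Subgroup.mem_normalizer_iff.1 (hVN hv) t).1 ht
  have hVi : ∀ v ∈ V, v⁻¹ = v := fun v hv => inv_eq_of_mul_eq_one_left (hV2 v hv)
  have hVc : ∀ v ∈ V, ∀ w ∈ V, v * w = w * v := by
    intro v hv w hw
    have h1 := hVi (v * w) (mul_mem hv hw)
    rw [mul_inv_rev, hVi v hv, hVi w hw] at h1
    exact h1.symm
  -- choose z2
  have hz2 : ∃ z2 ∈ V, z2 ≠ 1 ∧ ∃ e1 ∈ T, e1 ≠ 1 ∧ z2 * e1 * z2⁻¹ = e1 := by
    by_contra hc
    push Not at hc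
    have hinv : ∀ v ∈ V, v ≠ 1 → ∀ t ∈ T, v * t * v⁻¹ = t⁻¹ := by
      intro v hv hv1 t ht
      by_contra hne
      have hvt := hconj v hv t ht
      have h1 : t * (v * t * v⁻¹) ≠ 1 := by
        intro h
        exact hne (eq_inv_of_mul_eq_one_right h)
      refine hc v hv hv1 _ (mul_mem ht hvt) h1 ?_
      have h2 : v * (t * (v * t * v⁻¹)) * v⁻¹ = (v * t * v⁻¹) * ((v * v) * t * (v * v)⁻¹) := by group
      rw [h2, hV2 v hv, hab t ht _ hvt]
      group
    -- two distinct involutions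
    obtain ⟨v, hv, hv1⟩ : ∃ v ∈ V, v ≠ 1 := by
      by_contra h
      push Not at h
      have : V = ⊥ := by rw [eq_bot_iff]; intro x hx; exact Subgroup.mem_bot.2 (h x hx)
      rw [this, Subgroup.card_bot] at hV4
      omega
    obtain ⟨w, hw, hw1, hwv⟩ : ∃ w ∈ V, w ≠ 1 ∧ w ≠ v := by
      by_contra h
      push Not at h
      have h1 : V ≤ Subgroup.zpowers v := by
        intro x hx
        by_cases hx1 : x = 1
        · rw [hx1]; exact one_mem _
        · rw [h x hx hx1]; exact Subgroup.mem_zpowers v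
      have h2 := Subgroup.card_le_of_le h1
      rw [Nat.card_zpowers, hV4] at h2
      have h4 : orderOf v ≤ 2 := orderOf_le_of_pow_eq_one (by norm_num) (by rw [pow_two, hV2 v hv])
      omega
    have h5 : v * w = 1 := by
      refine hfaith _ (mul_mem hv hw) fun t ht => ?_
      have h6 : v * w * t * (v * w)⁻¹ = v * (w * t * w⁻¹) * v⁻¹ := by group
      rw [h6, hinv w hw hw1 t ht, hinv v hv hv1 _ (inv_mem ht), inv_inv]
    apply hwv
    have := eq_inv_of_mul_eq_one_right h5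
    rw [this, hVi v hv]
  obtain ⟨z2, hz2V, hz21, e1, he1, he11, hze⟩ := hz2
  -- choose e2
  obtain ⟨t, ht, htne⟩ : ∃ t ∈ T, z2 * t * z2⁻¹ ≠ t := by
    by_contra h
    push Not at h
    exact hz21 (hfaith z2 hz2V h)
  have hzt := hconj z2 hz2V t ht
  set e2 := t⁻¹ * (z2 * t * z2⁻¹) with he2
  have he2T : e2 ∈ T := mul_mem (inv_mem ht) hzt
  have he21 : e2 ≠ 1 := by
    intro h
    exact htne (inv_mul_eq_one.1 h).symm
  have hze2 : z2 * e2 * z2⁻¹ = e2⁻¹ := by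
    have h1 : z2 * e2 * z2⁻¹ = (z2 * t * z2⁻¹)⁻¹ * ((z2 * z2) * t * (z2 * z2)⁻¹) := by
      rw [he2]; group
    rw [h1, hV2 z2 hz2V, he2]
    group
  -- the centralizer and the inverted subgroup
  set A : Subgroup G := T ⊓ Subgroup.centralizer {z2} with hA
  have hmemA : ∀ x, x ∈ A ↔ x ∈ T ∧ z2 * x * z2⁻¹ = x := by
    intro x
    rw [hA, Subgroup.mem_inf, Subgroup.mem_centralizer_singleton_iff, mul_inv_eq_iff_eq_mul]
    exact ⟨fun h => ⟨h.1, h.2.symm⟩, fun h => ⟨h.1, h.2.symm⟩⟩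
  have hAz : A = Subgroup.zpowers e1 := by
    refine eq_zpowers hcard inf_le_left ?_ ((hmemA e1).2 ⟨he1, hze⟩) he11 (h3 e1 he1)
    intro h
    exact htne ((hmemA t).1 (by rw [hA, h]; exact ht)).2
  let B : Subgroup G :=
    { carrier := {x | x ∈ T ∧ z2 * x * z2⁻¹ = x⁻¹}
      one_mem' := ⟨one_mem _, by group⟩
      mul_mem' := by
        rintro a b ⟨ha, ha'⟩ ⟨hb, hb'⟩
        refine ⟨mul_mem ha hb, ?_⟩
        have h1 : z2 * (a * b) * z2⁻¹ = (z2 * a * z2⁻¹) * (z2 * b * z2⁻¹) := by group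
        rw [h1, ha', hb', hab a ha b hb, mul_inv_rev]
      inv_mem' := by
        rintro a ⟨ha, ha'⟩
        refine ⟨inv_mem ha, ?_⟩
        have h1 : z2 * a⁻¹ * z2⁻¹ = (z2 * a * z2⁻¹)⁻¹ := by group
        rw [h1, ha'] }
  have hmemB : ∀ x, x ∈ B ↔ x ∈ T ∧ z2 * x * z2⁻¹ = x⁻¹ := fun x => Iff.rfl
  have hBz : B = Subgroup.zpowers e2 := by
    refine eq_zpowers hcard (fun x hx => ((hmemB x).1 hx).1) ?_ ((hmemB e2).2 ⟨he2T, hze2⟩) he21
      (h3 e2 he2T)
    intro h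
    have h1 := ((hmemB e1).1 (by rw [h]; exact he1)).2
    rw [hze] at h1
    have h2 := mul_self_of_three (h3 e1 he1)
    rw [← h1] at h2
    exact he11 (mul_eq_left.1 h2)
  have hdec : ∀ t ∈ T, ∃ c ∈ Subgroup.zpowers e1, ∃ d ∈ Subgroup.zpowers e2, t = c * d := by
    intro t ht
    have hzt := hconj z2 hz2V t ht
    have hc : t * (z2 * t * z2⁻¹) ∈ A := by
      refine (hmemA _).2 ⟨mul_mem ht hzt, ?_⟩
      have h1 : z2 * (t * (z2 * t * z2⁻¹)) * z2⁻¹ = (z2 * t * z2⁻¹) * ((z2 * z2) * t * (z2 * z2)⁻¹) := by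
        group
      rw [h1, hV2 z2 hz2V, hab t ht _ hzt]
      group
    have hd : t * (z2 * t * z2⁻¹)⁻¹ ∈ B := by
      refine (hmemB _).2 ⟨mul_mem ht (inv_mem hzt), ?_⟩
      have h1 : z2 * (t * (z2 * t * z2⁻¹)⁻¹) * z2⁻¹ =
          (z2 * t * z2⁻¹) * ((z2 * z2) * t * (z2 * z2)⁻¹)⁻¹ := by group
      rw [h1, hV2 z2 hz2V]
      group
    rw [hAz] at hc
    rw [hBz] at hd
    refine ⟨_, pow_mem hc 2, _, pow_mem hd 2, ?_⟩
    have c1 : Commute t (z2 * t * z2⁻¹) := hab t ht _ hzt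
    have c2 : Commute t (z2 * t * z2⁻¹)⁻¹ := c1.inv_right
    rw [c1.mul_pow, c2.mul_pow]
    have e4 : t ^ 2 * t ^ 2 = t := by
      rw [← pow_add, show 2 + 2 = 3 + 1 by norm_num, pow_succ, h3 t ht, one_mul]
    calc t = t ^ 2 * t ^ 2 := e4.symm
      _ = t ^ 2 * ((z2 * t * z2⁻¹) ^ 2 * (z2 * t * z2⁻¹)⁻¹ ^ 2) * t ^ 2 := by
          rw [mul_pow_of_inv, mul_one]
      _ = _ := by
          have c3 : Commute ((z2 * t * z2⁻¹)⁻¹ ^ 2) (t ^ 2) := (c2.symm.pow_left 2).pow_right 2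
          rw [mul_assoc, mul_assoc, c3.eq, ← mul_assoc, ← mul_assoc]
  -- the action of `V`
  have hact : ∀ v ∈ V, (v * e1 * v⁻¹ = e1 ∨ v * e1 * v⁻¹ = e1⁻¹) ∧
      (v * e2 * v⁻¹ = e2 ∨ v * e2 * v⁻¹ = e2⁻¹) := by
    intro v hv
    have hvz := hVc v hv z2 hz2V
    have k : ∀ x : G, z2 * (v * x * v⁻¹) * z2⁻¹ = v * (z2 * x * z2⁻¹) * v⁻¹ := by
      intro x
      calc z2 * (v * x * v⁻¹) * z2⁻¹ = (z2 * v) * x * (z2 * v)⁻¹ := by group
        _ = (v * z2) * x * (v * z2)⁻¹ := by rw [hvz]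
        _ = _ := by group
    constructor
    · have h1 : v * e1 * v⁻¹ ∈ A := (hmemA _).2 ⟨hconj v hv e1 he1, by rw [k, hze]⟩
      rw [hAz] at h1
      rcases mem_zpowers_three (h3 e1 he1) h1 with h | h | h
      · exact absurd (conj_eq_one_iff.1 h) he11
      · exact Or.inl h
      · exact Or.inr h
    · have h1 : v * e2 * v⁻¹ ∈ B := (hmemB _).2 ⟨hconj v hv e2 he2T, by rw [k, hze2]; group⟩
      rw [hBz] at h1
      rcases mem_zpowers_three (h3 e2 he2T) h1 with h | h | h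
      · exact absurd (conj_eq_one_iff.1 h) he21
      · exact Or.inl h
      · exact Or.inr h
  have htriv : ∀ v ∈ V, v * e1 * v⁻¹ = e1 → v * e2 * v⁻¹ = e2 → v = 1 := by
    intro v hv h1 h2
    refine hfaith v hv fun t ht => ?_
    obtain ⟨c, hc, d, hd, rfl⟩ := hdec t ht
    obtain ⟨i, rfl⟩ := Subgroup.mem_zpowers_iff.1 hc
    obtain ⟨j, rfl⟩ := Subgroup.mem_zpowers_iff.1 hd
    have h3 : v * (e1 ^ i * e2 ^ j) * v⁻¹ = (v * e1 * v⁻¹) ^ i * (v * e2 * v⁻¹) ^ j := by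
      rw [conj_zpow, conj_zpow]; group
    rw [h3, h1, h2]
  obtain ⟨w, hw, hw1, hwz⟩ : ∃ w ∈ V, w ≠ 1 ∧ w ≠ z2 := by
    by_contra h
    push Not at h
    have h1 : V ≤ Subgroup.zpowers z2 := by
      intro x hx
      by_cases hx1 : x = 1
      · rw [hx1]; exact one_mem _
      · rw [h x hx hx1]; exact Subgroup.mem_zpowers z2
    have h2 := Subgroup.card_le_of_le h1
    rw [Nat.card_zpowers, hV4] at h2
    have h4 : orderOf z2 ≤ 2 := orderOf_le_of_pow_eq_one (by norm_num) (by rw [pow_two, hV2 z2 hz2V])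
    omega
  have hwz2 : ∀ x : G, w * z2 * x * (w * z2)⁻¹ = w * (z2 * x * z2⁻¹) * w⁻¹ := fun x => by group
  have hinvw : ∀ x : G, w * x⁻¹ * w⁻¹ = (w * x * w⁻¹)⁻¹ := fun x => by group
  obtain ⟨h1, h2⟩ := hact w hw
  rcases h2 with h2 | h2
  · rcases h1 with h1 | h1
    · exact absurd (htriv w hw h1 h2) hw1
    · exact ⟨e1, e2, w, z2, ⟨he1, he2T, hw, hz2V, he11, he21, h1, h2, hze, hze2, hdec, hact⟩⟩
  · rcases h1 with h1 | h1
    · exfalso
      have h5 := htriv (w * z2) (mul_mem hw hz2V) (by rw [hwz2, hze, h1])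
        (by rw [hwz2, hze2, hinvw, h2, inv_inv])
      exact hwz (by rw [eq_inv_of_mul_eq_one_left h5, hVi z2 hz2V])
    · exact ⟨e1, e2, w * z2, z2, ⟨he1, he2T, mul_mem hw hz2V, hz2V, he11, he21,
        by rw [hwz2, hze, h1], by rw [hwz2, hze2, hinvw, h2, inv_inv], hze, hze2, hdec, hact⟩⟩

theorem card_two_mul [Finite G] {H C : Subgroup G} (hHC : H ≤ C) {a : G} (ha : a ∈ C) (haH : a ∉ H)
    (h : ∀ b ∈ C, b ∈ H ∨ b * a ∈ H) : Nat.card C = 2 * Nat.card H := by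
  have h1 : (H.subgroupOf C).index = 2 := by
    rw [Subgroup.index_eq_two_iff]
    refine ⟨⟨a, ha⟩, fun b => ?_⟩
    have hb := h b b.2
    simp only [Subgroup.mem_subgroupOf, Subgroup.coe_mul]
    rcases hb with hb | hb
    · right
      refine ⟨hb, fun hba => haH ?_⟩
      have := mul_mem (inv_mem hb) hba
      rwa [inv_mul_cancel_left] at this
    · left
      refine ⟨hb, fun hb' => haH ?_⟩
      have := mul_mem (inv_mem hb') hb
      rwa [inv_mul_cancel_left] at this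
  have h2 := (H.subgroupOf C).card_mul_index
  rw [h1, Nat.card_congr (Subgroup.subgroupOfEquivOfLe hHC).toEquiv] at h2
  omega

/-- The ambient hypotheses on `T` and a complement `V` of `T` in its normalizer. -/
structure Amb (T V : Subgroup G) : Prop where
  elem : Cfsg.IsElementaryAbelian 3 T
  card : Nat.card T = 9
  cent : Subgroup.centralizer (T : Set G) = T
  loc : ∀ t ∈ T, t ≠ 1 → Subgroup.centralizer ({t} : Set G) ≤ Subgroup.normalizer (T : Set G)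
  le : V ≤ Subgroup.normalizer (T : Set G)
  card' : Nat.card V = 4
  two : ∀ v ∈ V, v * v = 1
  disj : V ⊓ T = ⊥
  prod : ∀ n ∈ Subgroup.normalizer (T : Set G), ∃ t ∈ T, ∃ v ∈ V, n = t * v

namespace Amb

variable {T V : Subgroup G} (A : Amb T V)
include A

theorem comm {a b : G} (ha : a ∈ T) (hb : b ∈ T) : a * b = b * a := by
  have := A.elem.1
  exact congrArg Subtype.val (this.is_comm.comm (⟨a, ha⟩ : T) ⟨b, hb⟩)

theorem three {a : G} (ha : a ∈ T) : a ^ 3 = 1 := A.elem.2 a ha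

omit A in
theorem conj_mem {n t : G} (hn : n ∈ Subgroup.normalizer (T : Set G)) (ht : t ∈ T) :
    n * t * n⁻¹ ∈ T := (Subgroup.mem_normalizer_iff.1 hn t).1 ht

theorem sq_mem {n : G} (hn : n ∈ Subgroup.normalizer (T : Set G)) : n * n ∈ T := by
  obtain ⟨t, ht, v, hv, rfl⟩ := A.prod n hn
  have h1 : t * v * (t * v) = t * (v * t * v⁻¹) * (v * v) := by group
  rw [h1, A.two v hv, mul_one]
  exact mul_mem ht (Amb.conj_mem (A.le hv) ht)

/-- `N(T)` controls fusion of the nonidentity elements of `T`. -/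
theorem fusion [Finite G] {e g : G} (he : e ∈ T) (he1 : e ≠ 1) (hg : g * e * g⁻¹ ∈ T) :
    g ∈ Subgroup.normalizer (T : Set G) := by
  refine Subgroup.mem_normalizer_fintype fun t ht => ?_
  have h1 : g * t * g⁻¹ ∈ Subgroup.centralizer ({g * e * g⁻¹} : Set G) := by
    rw [Subgroup.mem_centralizer_singleton_iff]
    have h2 := A.comm (show t ∈ T from ht) he
    calc g * t * g⁻¹ * (g * e * g⁻¹) = g * (t * e) * g⁻¹ := by group
      _ = g * (e * t) * g⁻¹ := by rw [h2]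
      _ = _ := by group
  have h2 := A.loc _ hg (fun h => he1 (conj_eq_one_iff.1 h)) h1
  have h3 := A.sq_mem h2
  have h4 : (g * t * g⁻¹) ^ 3 = 1 := by rw [conj_pow, A.three ht]; group
  rw [mul_self_of_three h4] at h3
  exact inv_mem_iff.1 h3

end Amb

namespace Loc

variable {T V : Subgroup G} {e1 e2 z1 z2 : G}

theorem swap (A : Amb T V) (L : Loc T V e1 e2 z1 z2) : Loc T V e2 e1 z2 z1 :=
  ⟨L.m2, L.m1, L.v2, L.v1, L.n2, L.n1, L.a22, L.a21, L.a12, L.a11, fun t ht => by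
    obtain ⟨c, hc, d, hd, h⟩ := L.dec t ht
    refine ⟨d, hd, c, hc, ?_⟩
    rw [h]
    exact A.comm ((Subgroup.zpowers_le.2 L.m1) hc) ((Subgroup.zpowers_le.2 L.m2) hd),
    fun v hv => ⟨(L.act v hv).2, (L.act v hv).1⟩⟩

/-- an element inverted is not centralized -/
theorem ne_inv {e : G} (h3 : e ^ 3 = 1) (h1 : e ≠ 1) : e ≠ e⁻¹ := by
  intro h
  have h2 := mul_self_of_three h3
  rw [← h] at h2
  exact h1 (mul_eq_left.1 h2)

theorem actN (A : Amb T V) (L : Loc T V e1 e2 z1 z2) {n : G}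
    (hn : n ∈ Subgroup.normalizer (T : Set G)) :
    (n * e1 * n⁻¹ = e1 ∨ n * e1 * n⁻¹ = e1⁻¹) ∧ (n * e2 * n⁻¹ = e2 ∨ n * e2 * n⁻¹ = e2⁻¹) := by
  obtain ⟨t, ht, v, hv, rfl⟩ := A.prod n hn
  have h1 : ∀ e ∈ T, t * v * e * (t * v)⁻¹ = v * e * v⁻¹ := by
    intro e he
    have h2 := A.comm ht (Amb.conj_mem (A.le hv) he)
    calc t * v * e * (t * v)⁻¹ = t * (v * e * v⁻¹) * t⁻¹ := by group
      _ = v * e * v⁻¹ := by rw [h2]; group
  rw [h1 e1 L.m1, h1 e2 L.m2]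
  exact L.act v hv

theorem memT (A : Amb T V) (L : Loc T V e1 e2 z1 z2) {n : G} (h1 : n * e1 * n⁻¹ = e1)
    (h2 : n * e2 * n⁻¹ = e2) : n ∈ T := by
  rw [← A.cent]
  rw [Subgroup.mem_centralizer_iff]
  intro t ht
  obtain ⟨c, hc, d, hd, rfl⟩ := L.dec t ht
  obtain ⟨i, rfl⟩ := Subgroup.mem_zpowers_iff.1 hc
  obtain ⟨j, rfl⟩ := Subgroup.mem_zpowers_iff.1 hd
  have c1 : Commute n e1 := mul_inv_eq_iff_eq_mul.1 h1
  have c2 : Commute n e2 := mul_inv_eq_iff_eq_mul.1 h2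
  exact ((c1.zpow_right i).mul_right (c2.zpow_right j)).eq.symm

theorem z_ne (L : Loc T V e1 e2 z1 z2) (A : Amb T V) : z2 ≠ 1 := by
  intro h
  have h1 := L.a22
  rw [h] at h1
  exact ne_inv (A.three L.m2) L.n2 (by simpa using h1)

theorem z_notMem (A : Amb T V) (L : Loc T V e1 e2 z1 z2) : z2 ∉ T := by
  intro h
  have h1 : z2 ∈ V ⊓ T := ⟨L.v2, h⟩
  rw [A.disj, Subgroup.mem_bot] at h1
  exact L.z_ne A h1

theorem cent1 [Finite G] (A : Amb T V) (L : Loc T V e1 e2 z1 z2) {b : G} (hb : b * e1 * b⁻¹ = e1) :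
    b ∈ T ∨ b * z2 ∈ T := by
  have hbN : b ∈ Subgroup.normalizer (T : Set G) := A.fusion L.m1 L.n1 (by rw [hb]; exact L.m1)
  rcases (L.actN A hbN).2 with h | h
  · exact Or.inl (L.memT A hb h)
  · right
    have h1 : ∀ x : G, b * z2 * x * (b * z2)⁻¹ = b * (z2 * x * z2⁻¹) * b⁻¹ := fun x => by group
    refine L.memT A (by rw [h1, L.a21, hb]) ?_
    rw [h1, L.a22]
    have h2 : b * e2⁻¹ * b⁻¹ = (b * e2 * b⁻¹)⁻¹ := by group
    rw [h2, h, inv_inv]

theorem mem_cent {e b : G} : b ∈ Subgroup.centralizer ({e} : Set G) ↔ b * e * b⁻¹ = e := by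
  rw [Subgroup.mem_centralizer_singleton_iff, mul_inv_eq_iff_eq_mul]

theorem card1 [Finite G] (A : Amb T V) (L : Loc T V e1 e2 z1 z2) :
    Nat.card (Subgroup.centralizer ({e1} : Set G)) = 18 := by
  rw [card_two_mul (H := T) (a := z2) (fun t ht => ?_) (mem_cent.2 L.a21) (L.z_notMem A)
    (fun b hb => L.cent1 A (mem_cent.1 hb)), A.card]
  exact mem_cent.2 (by rw [A.comm ht L.m1]; group)

theorem mem_zpowers_of (A : Amb T V) (L : Loc T V e1 e2 z1 z2) {b : G} (hb : b ∈ T)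
    (hz : b * z2 * b⁻¹ = z2) : b ∈ Subgroup.zpowers e1 := by
  obtain ⟨c, hc, d, hd, rfl⟩ := L.dec b hb
  have hcT : c ∈ T := (Subgroup.zpowers_le.2 L.m1) hc
  have hdT : d ∈ T := (Subgroup.zpowers_le.2 L.m2) hd
  have h1 : z2 * c * z2⁻¹ = c := by
    obtain ⟨i, rfl⟩ := Subgroup.mem_zpowers_iff.1 hc
    rw [← conj_zpow, L.a21]
  have h2 : z2 * d * z2⁻¹ = d⁻¹ := by
    obtain ⟨i, rfl⟩ := Subgroup.mem_zpowers_iff.1 hd
    rw [← conj_zpow, L.a22, inv_zpow]
  have h3 : z2 * (c * d) * z2⁻¹ = c * d := by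
    have h4 : c * d * z2 = z2 * (c * d) := mul_inv_eq_iff_eq_mul.1 hz
    rw [← h4]; group
  have h4 : z2 * (c * d) * z2⁻¹ = (z2 * c * z2⁻¹) * (z2 * d * z2⁻¹) := by group
  rw [h3, h1, h2] at h4
  have h5 : d = d⁻¹ := mul_left_cancel h4
  by_cases hd1 : d = 1
  · rw [hd1, mul_one]; exact hc
  · exact absurd h5 (ne_inv (A.three hdT) hd1)

theorem cardw [Finite G] (A : Amb T V) (L : Loc T V e1 e2 z1 z2) :
    Nat.card (Subgroup.centralizer ({e1 * z2} : Set G)) = 6 := by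
  have hz : z2 * z2 = 1 := A.two z2 L.v2
  have c1 : Commute e1 z2 := by
    have := L.a21
    rw [mul_inv_eq_iff_eq_mul] at this
    exact this.symm
  have sq : (e1 * z2) ^ 2 = e1⁻¹ := by
    rw [c1.mul_pow, pow_two z2, hz, mul_one, pow_two, mul_self_of_three (A.three L.m1)]
  have cu : (e1 * z2) ^ 3 = z2 := by
    rw [c1.mul_pow, A.three L.m1, one_mul, pow_succ, pow_two, hz, one_mul]
  have hcar : Nat.card (Subgroup.zpowers e1) = 3 := by
    rw [Nat.card_zpowers]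
    exact orderOf_eq_prime (A.three L.m1) L.n1
  have hT : Subgroup.zpowers e1 ≤ T := Subgroup.zpowers_le.2 L.m1
  rw [card_two_mul (H := Subgroup.zpowers e1) (a := z2) ?_ ?_ ?_ ?_, hcar]
  · rw [Subgroup.zpowers_le, Subgroup.mem_centralizer_singleton_iff]
    exact ((Commute.refl e1).mul_right c1).eq
  · rw [Subgroup.mem_centralizer_singleton_iff]
    exact (c1.symm.mul_right (Commute.refl z2)).eq
  · intro h
    exact L.z_notMem A (hT h)
  · intro b hb
    rw [Subgroup.mem_centralizer_singleton_iff] at hb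
    have hb' : Commute b (e1 * z2) := hb
    have h1 : Commute b e1⁻¹ := sq ▸ hb'.pow_right 2
    have h2 : Commute b z2 := cu ▸ hb'.pow_right 3
    have h3 : b * e1 * b⁻¹ = e1 := by
      rw [mul_inv_eq_iff_eq_mul]
      exact Commute.inv_right_iff.1 h1
    have h4 : b * z2 * b⁻¹ = z2 := mul_inv_eq_iff_eq_mul.2 h2
    rcases L.cent1 A h3 with h | h
    · exact Or.inl (L.mem_zpowers_of A h h4)
    · refine Or.inr (L.mem_zpowers_of A h ?_)
      have h5 : b * z2 * z2 * (b * z2)⁻¹ = b * z2 * b⁻¹ := by group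
      rw [h5, h4]

theorem ne12 (A : Amb T V) (L : Loc T V e1 e2 z1 z2) : e1 ≠ e2 := by
  intro h
  have h1 := L.a12
  rw [← h, L.a11] at h1
  exact ne_inv (A.three L.m1) L.n1 h1.symm

theorem ne12' (A : Amb T V) (L : Loc T V e1 e2 z1 z2) : e1⁻¹ ≠ e2 := by
  intro h
  have h1 := L.a12
  rw [← h] at h1
  have h2 : z1 * e1⁻¹ * z1⁻¹ = (z1 * e1 * z1⁻¹)⁻¹ := by group
  rw [h2, L.a11, inv_inv] at h1
  exact ne_inv (A.three L.m1) L.n1 h1

theorem card12 [Finite G] (A : Amb T V) (L : Loc T V e1 e2 z1 z2) (h12 : e1 * e2 ≠ 1) :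
    Nat.card (Subgroup.centralizer ({e1 * e2} : Set G)) = 9 := by
  rw [← A.card]
  congr 2
  have hm := mul_mem L.m1 L.m2
  have h3 := A.three hm
  refine le_antisymm (fun b hb => ?_) (fun t ht => mem_cent.2 (by rw [A.comm ht hm]; group))
  have hb' := mem_cent.1 hb
  have hbN : b ∈ Subgroup.normalizer (T : Set G) := A.fusion hm h12 (by rw [hb']; exact hm)
  have h1 : b * (e1 * e2) * b⁻¹ = (b * e1 * b⁻¹) * (b * e2 * b⁻¹) := by group
  rw [hb'] at h1
  obtain ⟨k1, k2⟩ := L.actN A hbN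
  rcases k1 with k1 | k1 <;> rcases k2 with k2 | k2
  · exact L.memT A k1 k2
  · rw [k1, k2] at h1
    exact absurd (mul_left_cancel h1) (ne_inv (A.three L.m2) L.n2)
  · rw [k1, k2] at h1
    exact absurd (mul_right_cancel h1) (ne_inv (A.three L.m1) L.n1)
  · rw [k1, k2, A.comm (inv_mem L.m1) (inv_mem L.m2), ← mul_inv_rev] at h1
    exact absurd h1 (ne_inv h3 h12)

theorem setup [Finite G] (A : Amb T V) (L : Loc T V e1 e2 z1 z2) : Setup e1 e2 z1 z2 := by
  have hm := mul_mem L.m1 L.m2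
  have h12 : e1 * e2 ≠ 1 := fun h => L.ne12' A (eq_inv_of_mul_eq_one_right h).symm
  have zc : z1 * z2 = z2 * z1 := by
    have h1 := A.two _ (mul_mem L.v1 L.v2)
    have h2 : z1⁻¹ = z1 := inv_eq_of_mul_eq_one_left (A.two z1 L.v1)
    have h3 : z2⁻¹ = z2 := inv_eq_of_mul_eq_one_left (A.two z2 L.v2)
    have h4 : (z1 * z2)⁻¹ = z1 * z2 := inv_eq_of_mul_eq_one_left h1
    rw [← h4, mul_inv_rev, h2, h3]
  have conj' : ∀ g : G, g * (e1 * e2) * g⁻¹ = (g * e1 * g⁻¹) * (g * e2 * g⁻¹) := fun g => by group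
  refine ⟨A.three L.m1, A.three L.m2, L.n1, L.n2, A.comm L.m1 L.m2, ?_, ?_, zc, L.a11, L.a12,
    L.a21, L.a22, L.card1 A, (L.swap A).card1 A, L.card12 A h12, L.cardw A, ?_, ?_, ?_, ?_, ?_⟩
  · rw [pow_two, A.two z1 L.v1]
  · rw [pow_two, A.two z2 L.v2]
  · have := (L.swap A).cardw A
    have c : e2 * z1 = z1 * e2 := by
      have := L.a12
      rw [mul_inv_eq_iff_eq_mul] at this
      exact this.symm
    rw [← c]; exact this
  · intro h
    obtain ⟨g, hg⟩ := isConj_iff.1 h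
    have hgN := A.fusion L.m1 L.n1 (g := g) (by rw [hg]; exact L.m2)
    rcases (L.actN A hgN).1 with h | h
    · exact L.ne12 A (h.symm.trans hg)
    · exact L.ne12' A (h.symm.trans hg)
  · intro h
    obtain ⟨g, hg⟩ := isConj_iff.1 h
    have hgN := A.fusion L.m1 L.n1 (g := g) (by rw [hg]; exact hm)
    rcases (L.actN A hgN).1 with h | h
    · rw [hg] at h
      exact L.n2 (mul_eq_left.1 h)
    · rw [hg] at h
      have h1 : e2 = e1⁻¹ * e1⁻¹ := by
        calc e2 = e1⁻¹ * (e1 * e2) := by group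
          _ = _ := by rw [h]
      rw [← mul_inv_rev, mul_self_of_three (A.three L.m1), inv_inv] at h1
      exact L.ne12 A h1.symm
  · intro h
    obtain ⟨g, hg⟩ := isConj_iff.1 h
    have hgN := A.fusion L.m2 L.n2 (g := g) (by rw [hg]; exact hm)
    rcases (L.actN A hgN).2 with h | h
    · rw [hg] at h
      exact L.n1 (mul_eq_right.1 h)
    · rw [hg] at h
      have h1 : e1 = e2⁻¹ * e2⁻¹ := by
        calc e1 = (e1 * e2) * e2⁻¹ := by group
          _ = _ := by rw [h]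
      rw [← mul_inv_rev, mul_self_of_three (A.three L.m2), inv_inv] at h1
      exact L.ne12 A h1
  · intro g hg
    have hgN := A.fusion hm h12 (g := g) (by rw [hg]; exact inv_mem hm)
    have h1 := conj' g
    rw [hg, A.comm L.m1 L.m2, mul_inv_rev] at h1
    obtain ⟨k1, k2⟩ := L.actN A hgN
    rcases k1 with k1 | k1 <;> rcases k2 with k2 | k2
    · exfalso
      rw [k1, k2] at h1
      have h2 : (e1 * e2)⁻¹ = e1 * e2 := by rw [A.comm L.m1 L.m2, mul_inv_rev, h1, A.comm L.m1 L.m2]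
      exact ne_inv (A.three hm) h12 h2.symm
    · exfalso
      rw [k1, k2] at h1
      exact ne_inv (A.three L.m1) L.n1 (mul_right_cancel h1).symm
    · exfalso
      rw [k1, k2] at h1
      exact ne_inv (A.three L.m2) L.n2 (mul_left_cancel h1).symm
    · exact ⟨k1, k2⟩

end Loc

end Cfsg.Agent.H454.KleinGroup
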