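import Mathlib
import Cfsg.Agent.H449.Lcs
import Cfsg.Agent.PLocal.CyclicAbelianization
import Cfsg.Agent.Transfer.MaximalClass

/-!
# p-groups of maximal class: the lower central series

`L S i = γ_{i+1}(S)`.  For `S` of order `p ^ n`, `3 ≤ n`, and class `n - 1`:
* `card_L` : `|γ_{i+1}(S)| = p ^ (n - 1 - i)` for `1 ≤ i ≤ n - 1`;
* `eq_zpowers_sup` : `γ_{i+1} = ⟨w⟩ γ_{i+2}` for `w ∈ γ_{i+1} \ γ_{i+2}`;
* `commutator_L_self_le` : `[γ_{i+1}, γ_{i+1}] ≤ γ_{2i+3}`.
-/

set_option autoImplicit false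

namespace Cfsg.Agent.H454.MaxClass

open Subgroup
open scoped commutatorElement

/-- `L S i = γ_{i+1}(S)`. -/
abbrev L (S : Type*) [Group S] (i : ℕ) : Subgroup S := (⊤ : Subgroup S).lowerCentralSeries i

theorem L_anti (S : Type*) [Group S] {i j : ℕ} (h : i ≤ j) : L S j ≤ L S i :=
  (⊤ : Subgroup S).lowerCentralSeries_antitone h

theorem comm_mem {S : Type*} [Group S] {i : ℕ} {x : S} (hx : x ∈ L S i) (y : S) :
    ⁅x, y⁆ ∈ L S (i + 1) := by
  rw [L, Subgroup.lowerCentralSeries_succ]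
  exact commutator_mem_commutator hx (mem_top y)

theorem comm_mem' {S : Type*} [Group S] {i j : ℕ} {x y : S} (hx : x ∈ L S i) (hy : y ∈ L S j) :
    ⁅x, y⁆ ∈ L S (i + j + 1) :=
  H449.commutator_lcs_le ⊤ i j (commutator_mem_commutator hx hy)

section

variable {S : Type*} [Group S] [Finite S] {p : ℕ} [hp : Fact p.Prime] {n : ℕ}

theorem L_eq_bot (hc : Nat.card S = p ^ n) (hcl : Group.nilpotencyClass S = n - 1) {i : ℕ}
    (hi : n - 1 ≤ i) : L S i = ⊥ := by
  have hS : IsPGroup p S := IsPGroup.of_card hc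
  have : Group.IsNilpotent S := hS.isNilpotent
  rw [L, Subgroup.lowerCentralSeries_eq_bot_iff_nilpotencyClass_le]
  omega

theorem L_ne_bot (hc : Nat.card S = p ^ n) (hcl : Group.nilpotencyClass S = n - 1) {i : ℕ}
    (hi : i < n - 1) : L S i ≠ ⊥ := by
  have hS : IsPGroup p S := IsPGroup.of_card hc
  have : Group.IsNilpotent S := hS.isNilpotent
  rw [L, Ne, Subgroup.lowerCentralSeries_eq_bot_iff_nilpotencyClass_le]
  omega

theorem L_lt (hc : Nat.card S = p ^ n) (hcl : Group.nilpotencyClass S = n - 1) {i : ℕ}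
    (hi : i < n - 1) : L S (i + 1) < L S i := by
  refine lt_of_le_of_ne (L_anti S (Nat.le_succ i)) ?_
  intro h
  have h1 : ∀ k, L S (i + k) = L S i := by
    intro k
    induction k with
    | zero => rfl
    | succ k ih =>
      have ih' : (⊤ : Subgroup S).lowerCentralSeries (i + k) =
        (⊤ : Subgroup S).lowerCentralSeries i := ih
      rw [← add_assoc, L, Subgroup.lowerCentralSeries_succ, ih',
        ← Subgroup.lowerCentralSeries_succ]
      exact h
  have h2 := h1 (n - 1 - i)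
  rw [show i + (n - 1 - i) = n - 1 by omega, L_eq_bot hc hcl le_rfl] at h2
  exact L_ne_bot hc hcl hi h2.symm

theorem prime_dvd (hc : Nat.card S = p ^ n) (hcl : Group.nilpotencyClass S = n - 1) {i : ℕ}
    (hi : i < n - 1) : p ∣ (L S (i + 1)).relIndex (L S i) := by
  have hS : IsPGroup p S := IsPGroup.of_card hc
  exact PLocal.Uniserial.prime_dvd_relIndex_of_lt (hS.to_subgroup _) (L_lt hc hcl hi)

theorem index_commutator (hc : Nat.card S = p ^ n) (hcl : Group.nilpotencyClass S = n - 1)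
    (hn : 3 ≤ n) : p ^ 2 ∣ (L S 1).index := by
  have hS : IsPGroup p S := IsPGroup.of_card hc
  have hnil : Group.IsNilpotent S := hS.isNilpotent
  have h1 : ¬ IsCyclic (S ⧸ _root_.commutator S) := by
    intro h
    have h2 := PLocal.CyclicAbelianization.commutator_eq_bot_of_isCyclic_quotient hnil h
    rw [← top_lowerCentralSeries_one] at h2
    exact L_ne_bot hc hcl (show 1 < n - 1 by omega) h2
  rw [L, top_lowerCentralSeries_one]
  obtain ⟨k, hk⟩ := hS.index (_root_.commutator S)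
  rw [hk]
  apply pow_dvd_pow
  by_contra hlt
  apply h1
  have hcard : Nat.card (S ⧸ _root_.commutator S) = p ^ k := hk
  have hk' : k = 0 ∨ k = 1 := by omega
  rcases hk' with rfl | rfl
  · rw [pow_zero] at hcard
    have := (Nat.card_eq_one_iff_unique.mp hcard).1
    infer_instance
  · rw [pow_one] at hcard
    exact isCyclic_of_prime_card hcard

theorem card_L (hc : Nat.card S = p ^ n) (hcl : Group.nilpotencyClass S = n - 1)
    (hn : 3 ≤ n) {i : ℕ} (hi : 1 ≤ i) (hin : i ≤ n - 1) : Nat.card (L S i) = p ^ (n - 1 - i) := by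
  have hpp : p.Prime := hp.out
  apply Nat.dvd_antisymm
  · -- upper bound
    induction i, hi using Nat.le_induction with
    | base =>
      obtain ⟨a, ha⟩ := index_commutator hc hcl hn
      have h1 := (L S 1).card_mul_index
      rw [ha, hc, show n = (n - 1 - 1) + 2 by omega, pow_add] at h1
      have h2 : p ^ 2 * (Nat.card (L S 1) * a) = p ^ 2 * p ^ (n - 1 - 1) := by
        rw [mul_comm (p ^ 2) (p ^ (n - 1 - 1)), ← h1]; ring
      have h3 := Nat.eq_of_mul_eq_mul_left (pow_pos hpp.pos 2) h2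
      exact Dvd.intro a h3
    | succ i hi ih =>
      obtain ⟨a, ha⟩ := prime_dvd hc hcl (show i < n - 1 by omega)
      have h1 := PLocal.Uniserial.card_mul_relIndex (L_anti S (Nat.le_succ i))
      have h2 := ih (by omega)
      rw [← h1, ha, show n - 1 - i = (n - 1 - (i + 1)) + 1 by omega, pow_succ] at h2
      have h3 : p * (Nat.card (L S (i + 1)) * a) ∣ p * p ^ (n - 1 - (i + 1)) := by
        refine (Eq.dvd ?_).trans (h2.trans (Eq.dvd (mul_comm _ _)))
        ring
      exact (Dvd.intro a rfl).trans (Nat.dvd_of_mul_dvd_mul_left hpp.pos h3)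
  · -- lower bound
    have key : ∀ j, j ≤ n - 1 → p ^ j ∣ Nat.card (L S (n - 1 - j)) := by
      intro j
      induction j with
      | zero => intro _; simp
      | succ j ih =>
        intro hj
        have h1 := PLocal.Uniserial.card_mul_relIndex
          (L_anti S (show n - 1 - (j + 1) ≤ n - 1 - (j + 1) + 1 by omega))
        have h2 := prime_dvd hc hcl (show n - 1 - (j + 1) < n - 1 by omega)
        rw [← h1, pow_succ]
        refine mul_dvd_mul ?_ h2
        rw [show n - 1 - (j + 1) + 1 = n - 1 - j by omega]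
        exact ih (by omega)
    have := key (n - 1 - i) (by omega)
    rwa [show n - 1 - (n - 1 - i) = i by omega] at this

theorem index_L (hc : Nat.card S = p ^ n) (hcl : Group.nilpotencyClass S = n - 1)
    (hn : 3 ≤ n) {i : ℕ} (hi : 1 ≤ i) (hin : i ≤ n - 1) : (L S i).index = p ^ (i + 1) := by
  have h1 := (L S i).card_mul_index
  rw [card_L hc hcl hn hi hin, hc, show n = (n - 1 - i) + (i + 1) by omega, pow_add] at h1
  simp only [show (n - 1 - i) + (i + 1) - 1 - i = n - 1 - i by omega] at h1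
  exact Nat.eq_of_mul_eq_mul_left (pow_pos hp.out.pos _) h1

theorem relIndex_L (hc : Nat.card S = p ^ n) (hcl : Group.nilpotencyClass S = n - 1)
    (hn : 3 ≤ n) {i : ℕ} (hi : 1 ≤ i) (hin : i < n - 1) :
    (L S (i + 1)).relIndex (L S i) = p := by
  have h1 := PLocal.Uniserial.card_mul_relIndex (L_anti S (Nat.le_succ i))
  rw [card_L hc hcl hn hi (by omega), card_L hc hcl hn (by omega) (by omega),
    show n - 1 - i = (n - 1 - (i + 1)) + 1 by omega, pow_succ] at h1
  exact Nat.eq_of_mul_eq_mul_left (pow_pos hp.out.pos _) h1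

/-- `γ_{i+1} = ⟨w⟩ γ_{i+2}` for `w ∈ γ_{i+1} \ γ_{i+2}`. -/
theorem exists_eq_zpow_mul (hc : Nat.card S = p ^ n) (hcl : Group.nilpotencyClass S = n - 1)
    (hn : 3 ≤ n) {i : ℕ} (hi : 1 ≤ i) (hin : i < n - 1) {w : S} (hw : w ∈ L S i)
    (hw' : w ∉ L S (i + 1)) {x : S} (hx : x ∈ L S i) :
    ∃ a : ℤ, ∃ l ∈ L S (i + 1), x = w ^ a * l := by
  have hnorm : (L S (i + 1)).Normal := inferInstance
  set K : Subgroup S := zpowers w ⊔ L S (i + 1) with hK
  have hKL : K ≤ L S i := sup_le (by rwa [zpowers_le]) (L_anti S (Nat.le_succ i))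
  have h1 := relIndex_mul_relIndex (L S (i + 1)) K (L S i) le_sup_right hKL
  rw [relIndex_L hc hcl hn hi hin] at h1
  have h2 : (L S (i + 1)).relIndex K ≠ 1 := by
    rw [Ne, relIndex_eq_one]
    intro h
    exact hw' (h (mem_sup_left (mem_zpowers w)))
  have h3 : K.relIndex (L S i) = 1 := by
    rcases (Nat.dvd_prime hp.out).mp (Dvd.intro _ h1) with h | h
    · exact absurd h h2
    · rw [h] at h1
      exact Nat.eq_of_mul_eq_mul_left hp.out.pos (by rw [h1, mul_one])
  rw [relIndex_eq_one] at h3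
  have h4 := h3 hx
  rw [hK, mem_sup_of_normal_right] at h4
  obtain ⟨y, hy, l, hl, rfl⟩ := h4
  obtain ⟨a, rfl⟩ := mem_zpowers_iff.mp hy
  exact ⟨a, l, hl, rfl⟩

/-- `[γ_{i+1}, γ_{i+1}] ≤ γ_{2i+3}`. -/
theorem comm_mem_self (hc : Nat.card S = p ^ n) (hcl : Group.nilpotencyClass S = n - 1)
    (hn : 3 ≤ n) {i : ℕ} (hi : 1 ≤ i) {x y : S} (hx : x ∈ L S i) (hy : y ∈ L S i) :
    ⁅x, y⁆ ∈ L S (2 * i + 2) := by
  by_cases hin : i < n - 1
  · obtain ⟨w, hw, hw'⟩ := SetLike.exists_of_lt (L_lt hc hcl hin)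
    obtain ⟨a, l, hl, rfl⟩ := exists_eq_zpow_mul hc hcl hn hi hin hw hw' hx
    obtain ⟨b, m, hm, rfl⟩ := exists_eq_zpow_mul hc hcl hn hi hin hw hw' hy
    have hN : (L S (2 * i + 2)).Normal := inferInstance
    have hwa : w ^ a ∈ L S i := (L S i).zpow_mem hw a
    have hwb : w ^ b ∈ L S i := (L S i).zpow_mem hw b
    -- identity
    have e1 : ⁅w ^ a * l, w ^ b * m⁆ = (w ^ a * ⁅l, w ^ b * m⁆ * (w ^ a)⁻¹) *
        (⁅w ^ a, w ^ b⁆ * (w ^ b * ⁅w ^ a, m⁆ * (w ^ b)⁻¹)) := by
      simp only [commutatorElement_def]; group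
    have e2 : ⁅w ^ a, w ^ b⁆ = 1 := by
      rw [commutatorElement_eq_one_iff_mul_comm]
      exact (Commute.refl w).zpow_zpow a b
    have h1 : ⁅l, w ^ b * m⁆ ∈ L S (2 * i + 2) := by
      have := comm_mem' hl ((L S i).mul_mem hwb (L_anti S (Nat.le_succ i) hm))
      rwa [show i + 1 + i + 1 = 2 * i + 2 by ring] at this
    have h2 : ⁅w ^ a, m⁆ ∈ L S (2 * i + 2) := by
      have := comm_mem' hwa hm
      rwa [show i + (i + 1) + 1 = 2 * i + 2 by ring] at this
    rw [e1, e2, one_mul]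
    exact (L S (2 * i + 2)).mul_mem (hN.conj_mem _ h1 _) (hN.conj_mem _ h2 _)
  · have h1 : L S i = ⊥ := L_eq_bot hc hcl (by omega)
    rw [h1, mem_bot] at hx
    rw [hx, commutatorElement_one_left]
    exact one_mem _

/-- The last nontrivial term is the centre. -/
theorem L_eq_center (hc : Nat.card S = p ^ n) (hcl : Group.nilpotencyClass S = n - 1)
    (hn : 3 ≤ n) : L S (n - 2) = center S := by
  apply eq_of_le_of_card_ge
  · intro x hx
    rw [mem_center_iff]
    intro y
    have h1 := comm_mem hx y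
    rw [show n - 2 + 1 = n - 1 by omega, L_eq_bot hc hcl le_rfl, mem_bot,
      commutatorElement_eq_one_iff_mul_comm] at h1
    exact h1.symm
  · rw [Transfer.MaximalClass.card_center_of_maxClass hn hc hcl,
      card_L hc hcl hn (by omega) (by omega), show n - 1 - (n - 2) = 1 by omega, pow_one]

/-- Every `p`-th power lies in the commutator subgroup. -/
theorem pow_mem_L_one (hc : Nat.card S = p ^ n) (hcl : Group.nilpotencyClass S = n - 1)
    (hn : 3 ≤ n) (x : S) : x ^ p ∈ L S 1 := by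
  have hS : IsPGroup p S := IsPGroup.of_card hc
  have hnil : Group.IsNilpotent S := hS.isNilpotent
  have hi := index_L hc hcl hn (le_refl 1) (by omega)
  have hN : (L S 1).Normal := inferInstance
  have h1 : ¬ IsCyclic (S ⧸ L S 1) := by
    intro h
    have h2 := PLocal.CyclicAbelianization.commutator_eq_bot_of_isCyclic_quotient hnil h
    exact L_ne_bot hc hcl (show 1 < n - 1 by omega) h2
  have hcq : Nat.card (S ⧸ L S 1) = p ^ 2 := hi
  set a : S ⧸ L S 1 := QuotientGroup.mk x with ha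
  have h2 : orderOf a ∣ p ^ 2 := by rw [← hcq]; exact orderOf_dvd_natCard a
  obtain ⟨j, hj2, hj⟩ := (Nat.dvd_prime_pow hp.out).mp h2
  have hj1 : j ≤ 1 := by
    by_contra h
    have : j = 2 := by omega
    apply h1
    exact isCyclic_of_orderOf_eq_card a (by rw [hj, this, hcq])
  have h3 : a ^ p = 1 := by
    rw [← orderOf_dvd_iff_pow_eq_one, hj]
    exact (pow_dvd_pow p hj1).trans (by rw [pow_one])
  rw [ha, ← QuotientGroup.mk_pow, QuotientGroup.eq_one_iff] at h3
  exact h3

end

end Cfsg.Agent.H454.MaxClass
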