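import Mathlib
import Cfsg.Agent.H454.MaxClass
import Cfsg.Agent.S4209
import Cfsg.Agent.H544.Regular

/-!
# p-groups of maximal class: elements of order `p`

For `S` of order `p ^ n`, `3 ≤ n`, and class `n - 1`:
* `twoStep S i` : the two-step centralizer `C_S(γ_{i+1}/γ_{i+3})`;
* `pow_mem_center` : if `n ≤ p + 1` then `x ^ p ∈ Z(S)` for all `x`;
* `exp_L` : if `n ≤ 2 p` then `γ_{i+1}(S)` has exponent `p` for `1 ≤ i`, `n ≤ i + p`.
-/

set_option autoImplicit false

namespace Cfsg.Agent.H454.MaxClass

open Subgroup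
open scoped commutatorElement

/-- The two-step centralizer `C_S(γ_{i+1}/γ_{i+3})`. -/
def twoStep (S : Type*) [Group S] (i : ℕ) : Subgroup S where
  carrier := {s | ∀ y ∈ L S i, ⁅y, s⁆ ∈ L S (i + 2)}
  one_mem' := by
    intro y _
    rw [commutatorElement_one_right]
    exact one_mem _
  mul_mem' := by
    intro s t hs ht y hy
    have e : ⁅y, s * t⁆ = ⁅y, s⁆ * (s * ⁅y, t⁆ * s⁻¹) := by
      simp only [commutatorElement_def]; group
    have hN : (L S (i + 2)).Normal := inferInstance
    rw [e]
    exact mul_mem (hs y hy) (hN.conj_mem _ (ht y hy) s)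
  inv_mem' := by
    intro s hs y hy
    have e : ⁅y, s⁻¹⁆ = s⁻¹ * ⁅y, s⁆⁻¹ * (s⁻¹)⁻¹ := by
      simp only [commutatorElement_def]; group
    have hN : (L S (i + 2)).Normal := inferInstance
    rw [e]
    exact hN.conj_mem _ (inv_mem (hs y hy)) _

theorem mem_twoStep {S : Type*} [Group S] {i : ℕ} {s : S} :
    s ∈ twoStep S i ↔ ∀ y ∈ L S i, ⁅y, s⁆ ∈ L S (i + 2) := Iff.rfl

/-- A subgroup of class less than `p` is regular. -/
theorem regular_of_lcs {S : Type*} [Group S] [Finite S] {p : ℕ} [Fact p.Prime] (hS : IsPGroup p S)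
    (H : Subgroup S) (h : H.lowerCentralSeries (p - 1) = ⊥) : Cfsg.IsRegularPGroup p H := by
  refine S4209.result (hS.to_subgroup H) ?_
  rw [← top_subtype_lowerCentralSeries] at h
  exact (Subgroup.map_eq_bot_iff_of_injective _ H.subtype_injective).mp h

section

variable {S : Type*} [Group S] [Finite S] {p : ℕ} [hp : Fact p.Prime] {n : ℕ}

theorem twoStep_ne_top (hc : Nat.card S = p ^ n) (hcl : Group.nilpotencyClass S = n - 1)
    {i : ℕ} (hi : i + 1 < n - 1) : twoStep S i ≠ ⊤ := by
  intro h
  have h1 : L S (i + 1) ≤ L S (i + 2) := by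
    have : L S (i + 1) = ⁅L S i, (⊤ : Subgroup S)⁆ := rfl
    rw [this, commutator_le]
    intro y hy s _
    have hs : s ∈ twoStep S i := by rw [h]; trivial
    exact hs y hy
  exact absurd h1 (not_le_of_gt (L_lt hc hcl hi))

/-- A uniform element has its `p`-th power in the centre. -/
theorem pow_mem_center_of_uniform (hc : Nat.card S = p ^ n)
    (hcl : Group.nilpotencyClass S = n - 1) (hn : 3 ≤ n) {s : S}
    (hs : ∀ i, 1 ≤ i → i + 1 < n - 1 → s ∉ twoStep S i) : s ^ p ∈ center S := by
  rw [← L_eq_center hc hcl hn]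
  have key : ∀ j, 1 ≤ j → j ≤ n - 2 → s ^ p ∈ L S j := by
    intro j hj
    induction j, hj using Nat.le_induction with
    | base => intro _; exact pow_mem_L_one hc hcl hn s
    | succ j hj ih =>
      intro hjn
      have h1 := ih (by omega)
      by_contra h2
      apply hs j hj (by omega)
      intro y hy
      obtain ⟨a, l, hl, rfl⟩ := exists_eq_zpow_mul hc hcl hn hj (by omega) h1 h2 hy
      have hN : (L S (j + 2)).Normal := inferInstance
      have e1 : ⁅(s ^ p) ^ a * l, s⁆ = ((s ^ p) ^ a * ⁅l, s⁆ * ((s ^ p) ^ a)⁻¹) *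
          ⁅(s ^ p) ^ a, s⁆ := by
        simp only [commutatorElement_def]; group
      have e2 : ⁅(s ^ p) ^ a, s⁆ = 1 := by
        rw [commutatorElement_eq_one_iff_mul_comm]
        exact ((Commute.refl s).pow_left p).zpow_left a
      rw [e1, e2, mul_one]
      exact hN.conj_mem _ (comm_mem hl s) _
  exact key (n - 2) (by omega) le_rfl

open Pointwise in
theorem pow_mem_center (hc : Nat.card S = p ^ n)
    (hcl : Group.nilpotencyClass S = n - 1) (hn : 3 ≤ n) (hnp : n ≤ p + 1) (x : S) :
    x ^ p ∈ center S := by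
  have hS : IsPGroup p S := IsPGroup.of_card hc
  have hnil : Group.IsNilpotent S := hS.isNilpotent
  have hreg : Cfsg.IsRegularPGroup p (S ⧸ center S) := by
    refine S4209.result (hS.to_quotient _) ?_
    rw [Subgroup.lowerCentralSeries_eq_bot_iff_nilpotencyClass_le,
      Transfer.MaximalClass.nilpotencyClass_quotient_center_of_maxClass hcl]
    omega
  obtain ⟨Om, -, hOm⟩ := H544.Regular.exists_omega hreg 1
  set W : Subgroup S := Om.comap (QuotientGroup.mk' (center S)) with hW
  have hmem : ∀ s : S, s ∈ W ↔ s ^ p ∈ center S := by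
    intro s
    have h1 : s ∈ W ↔ (QuotientGroup.mk' (center S) s) ∈ (Om : Set (S ⧸ center S)) := Iff.rfl
    rw [h1, hOm]
    change (QuotientGroup.mk' (center S) s) ^ p ^ 1 = 1 ↔ _
    rw [pow_one, ← map_pow]
    exact QuotientGroup.eq_one_iff _
  rw [← hmem]
  by_contra hx
  have hWt : W ≠ ⊤ := by
    intro h; apply hx; rw [h]; trivial
  let H : ℕ → Subgroup S := fun i => if i = 0 then W else twoStep S i
  have hindex : ∀ i ∈ Finset.range (n - 2), p ≤ (H i).index := by
    intro i hi
    rw [Finset.mem_range] at hi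
    have hne : H i ≠ ⊤ := by
      by_cases h0 : i = 0
      · simp only [H, h0, if_true]; exact hWt
      · simp only [H, h0, if_false]
        exact twoStep_ne_top hc hcl (by omega)
    obtain ⟨k, hk⟩ := hS.index (H i)
    rw [hk]
    have hk0 : k ≠ 0 := by
      rintro rfl
      rw [pow_zero, index_eq_one] at hk
      exact hne hk
    calc p = p ^ 1 := (pow_one p).symm
      _ ≤ p ^ k := Nat.pow_le_pow_right hp.out.pos (by omega)
  have hcov : ⋃ i ∈ Finset.range (n - 2), (1 : S) • (H i : Set S) = Set.univ := by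
    rw [Set.eq_univ_iff_forall]
    intro s
    simp only [one_smul, Set.mem_iUnion]
    by_cases hs : ∃ i, 1 ≤ i ∧ i + 1 < n - 1 ∧ s ∈ twoStep S i
    · obtain ⟨i, hi1, hi2, hi3⟩ := hs
      refine ⟨i, Finset.mem_range.mpr (by omega), ?_⟩
      have h0 : i ≠ 0 := by omega
      simp only [H, h0, if_false]
      exact hi3
    · push Not at hs
      refine ⟨0, Finset.mem_range.mpr (by omega), ?_⟩
      simp only [H, if_true]
      exact (hmem s).mpr (pow_mem_center_of_uniform hc hcl hn hs)
  obtain ⟨i, hi, -, hle⟩ := Subgroup.exists_index_le_card_of_leftCoset_cover hcov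
  have := hindex i hi
  rw [Finset.card_range] at hle
  omega

theorem comm_pow_eq_one (hc : Nat.card S = p ^ n)
    (hcl : Group.nilpotencyClass S = n - 1) (hn : 3 ≤ n) (hnp : n ≤ p + 1) (x y : S) :
    ⁅x, y⁆ ^ p = 1 ∧ (L S 1).lowerCentralSeries (p - 1) = ⊥ := by
  have hS : IsPGroup p S := IsPGroup.of_card hc
  have hN1 : (L S 1).Normal := inferInstance
  have hN2 : (L S 2).Normal := inferInstance
  set H : Subgroup S := zpowers x ⊔ L S 1 with hH
  have hlcs : ∀ j, 1 ≤ j → H.lowerCentralSeries j ≤ L S (j + 1) := by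
    intro j hj
    induction j, hj using Nat.le_induction with
    | base =>
      rw [Subgroup.lowerCentralSeries_succ, Subgroup.lowerCentralSeries_zero, commutator_le]
      intro u hu v hv
      rw [hH, mem_sup_of_normal_right] at hu hv
      obtain ⟨u', hu', l, hl, rfl⟩ := hu
      obtain ⟨v', hv', m, hm, rfl⟩ := hv
      obtain ⟨a, rfl⟩ := mem_zpowers_iff.mp hu'
      obtain ⟨b, rfl⟩ := mem_zpowers_iff.mp hv'
      have e1 : ⁅x ^ a * l, x ^ b * m⁆ = (x ^ a * ⁅l, x ^ b * m⁆ * (x ^ a)⁻¹) *
          (⁅x ^ a, x ^ b⁆ * (x ^ b * ⁅x ^ a, m⁆ * (x ^ b)⁻¹)) := by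
        simp only [commutatorElement_def]; group
      have e2 : ⁅x ^ a, x ^ b⁆ = 1 := by
        rw [commutatorElement_eq_one_iff_mul_comm]
        exact (Commute.refl x).zpow_zpow a b
      rw [e1, e2, one_mul]
      refine mul_mem (hN2.conj_mem _ (comm_mem hl _) _) (hN2.conj_mem _ ?_ _)
      have : ⁅m, x ^ a⁆⁻¹ ∈ L S 2 := inv_mem (comm_mem hm _)
      rwa [commutatorElement_inv] at this
    | succ j hj ih =>
      rw [Subgroup.lowerCentralSeries_succ]
      exact commutator_mono ih le_top
  have hp2 := hp.out.two_le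
  have hHp : H.lowerCentralSeries (p - 1) = ⊥ := by
    rw [eq_bot_iff]
    have h1 := hlcs (p - 1) (by omega)
    rwa [show p - 1 + 1 = p by omega, L_eq_bot hc hcl (by omega)] at h1
  refine ⟨?_, ?_⟩
  · have hreg := regular_of_lcs hS H hHp
    have hx : x ∈ H := mem_sup_left (mem_zpowers x)
    have hy : y * x * y⁻¹ ∈ H := by
      have e : y * x * y⁻¹ = ⁅y, x⁆ * x := by rw [commutatorElement_def]; group
      rw [e]
      refine mul_mem (mem_sup_right ?_) hx
      have : ⁅y, x⁆ ∈ L S (0 + 1) := comm_mem (mem_top y) x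
      exact this
    have h1 := (H544.Regular.pow_eq_iff hreg (⟨x, hx⟩ : H) ⟨y * x * y⁻¹, hy⟩ 1).mp (by
      apply Subtype.ext
      change x ^ p ^ 1 = (y * x * y⁻¹) ^ p ^ 1
      rw [pow_one, conj_pow]
      have := mem_center_iff.mp (pow_mem_center hc hcl hn hnp x) y
      rw [this, mul_inv_cancel_right])
    have h2 : (x * (y * x * y⁻¹)⁻¹) ^ p ^ 1 = 1 := congrArg Subtype.val h1
    rw [pow_one] at h2
    have e : ⁅x, y⁆ = x * (y * x * y⁻¹)⁻¹ := by rw [commutatorElement_def]; group
    rw [e, h2]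
  · rw [eq_bot_iff, ← hHp]
    exact Subgroup.lowerCentralSeries_mono _ le_sup_right

/-- If `n ≤ p + 1` then the commutator subgroup has exponent `p`. -/
theorem exp_L_one (hc : Nat.card S = p ^ n)
    (hcl : Group.nilpotencyClass S = n - 1) (hn : 3 ≤ n) (hnp : n ≤ p + 1) :
    ∀ x ∈ L S 1, x ^ p = 1 := by
  have hS : IsPGroup p S := IsPGroup.of_card hc
  have hreg := regular_of_lcs hS (L S 1) (comm_pow_eq_one hc hcl hn hnp 1 1).2
  have key : ∀ x ∈ L S 1, x ∈ L S 1 ∧ x ^ p = 1 := by
    intro x hx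
    have hx' : x ∈ closure {g | ∃ g₁ ∈ (⊤ : Subgroup S), ∃ g₂ ∈ (⊤ : Subgroup S), ⁅g₁, g₂⁆ = g} :=
      hx
    induction hx' using Subgroup.closure_induction with
    | mem y hy =>
      obtain ⟨a, ha, b, hb, rfl⟩ := hy
      exact ⟨comm_mem (i := 0) ha b, (comm_pow_eq_one hc hcl hn hnp a b).1⟩
    | one => exact ⟨one_mem _, one_pow _⟩
    | mul a b ha hb iha ihb =>
      obtain ⟨h1, h2⟩ := iha ha
      obtain ⟨h3, h4⟩ := ihb hb
      refine ⟨mul_mem h1 h3, ?_⟩
      have := H544.Regular.mul_pow_eq_one hreg (a := ⟨a, h1⟩) (b := ⟨b, h3⟩) 1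
        (Subtype.ext (by rw [pow_one]; exact h2)) (Subtype.ext (by rw [pow_one]; exact h4))
      rw [pow_one] at this
      exact congrArg Subtype.val this
    | inv a ha iha =>
      obtain ⟨h1, h2⟩ := iha ha
      exact ⟨inv_mem h1, by rw [inv_pow, h2, inv_one]⟩
  exact fun x hx => (key x hx).2

end

/-- If `n ≤ 2 p` then `γ_{i+1}(S)` has exponent `p` for `1 ≤ i`, `n ≤ i + p`. -/
theorem exp_L {p : ℕ} [hp : Fact p.Prime] (n : ℕ) : ∀ (S : Type*) [Group S] [Finite S],
    Nat.card S = p ^ n → Group.nilpotencyClass S = n - 1 → 3 ≤ n → n ≤ 2 * p →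
    ∀ i, 1 ≤ i → n ≤ i + p → ∀ x ∈ L S i, x ^ p = 1 := by
  induction n with
  | zero => intro S _ _ _ _ h; omega
  | succ n ih =>
    intro S _ _ hc hcl hn hnp i hi hin x hx
    have hp2 := hp.out.two_le
    by_cases hsmall : n + 1 ≤ p + 1
    · exact exp_L_one hc hcl hn hsmall x (L_anti S hi hx)
    · have hS : IsPGroup p S := IsPGroup.of_card hc
      have hnil : Group.IsNilpotent S := hS.isNilpotent
      have hi2 : 2 ≤ i := by omega
      have hcQ : Nat.card (S ⧸ center S) = p ^ n := by
        have := Transfer.MaximalClass.card_quotient_center_of_maxClass hn hc hcl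
        simpa using this
      have hclQ : Group.nilpotencyClass (S ⧸ center S) = n - 1 := by
        have := Transfer.MaximalClass.nilpotencyClass_quotient_center_of_maxClass hcl
        simpa using this
      have h1 : ∀ y ∈ L S (i - 1), y ^ p ∈ center S := by
        intro y hy
        have h2 : QuotientGroup.mk' (center S) y ∈ L (S ⧸ center S) (i - 1) := by
          have h3 : (L S (i - 1)).map (QuotientGroup.mk' (center S)) ≤
              L (S ⧸ center S) (i - 1) := by
            rw [L, map_lowerCentralSeries]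
            exact Subgroup.lowerCentralSeries_mono _ le_top
          exact h3 (mem_map_of_mem _ hy)
        have h4 := ih (S ⧸ center S) hcQ hclQ (by omega) (by omega) (i - 1) (by omega) (by omega)
          _ h2
        rw [← map_pow] at h4
        exact (QuotientGroup.eq_one_iff _).mp h4
      have hlcs : ∀ j, (L S 1).lowerCentralSeries j ≤ L S (2 * j + 1) := by
        intro j
        induction j with
        | zero => exact le_rfl
        | succ j ih' =>
          rw [Subgroup.lowerCentralSeries_succ]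
          refine (commutator_mono ih' le_rfl).trans ?_
          have := H449.commutator_lcs_le (⊤ : Subgroup S) (2 * j + 1) 1
          rwa [show 2 * j + 1 + 1 + 1 = 2 * (j + 1) + 1 by ring] at this
      have hreg := regular_of_lcs hS (L S 1) (by
        rw [eq_bot_iff]
        refine (hlcs (p - 1)).trans ?_
        rw [L_eq_bot hc hcl (show n + 1 - 1 ≤ 2 * (p - 1) + 1 by omega)])
      have key : ∀ x ∈ L S i, x ∈ L S i ∧ x ^ p = 1 := by
        intro x hx
        have hie : i = (i - 1) + 1 := by omega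
        have hLi : L S i = ⁅L S (i - 1), (⊤ : Subgroup S)⁆ := by
          conv_lhs => rw [hie]
          rfl
        have hx' : x ∈ closure {g | ∃ g₁ ∈ L S (i - 1), ∃ g₂ ∈ (⊤ : Subgroup S),
            ⁅g₁, g₂⁆ = g} := by
          rw [hLi] at hx; exact hx
        induction hx' using Subgroup.closure_induction with
        | mem y hy =>
          obtain ⟨a, ha, b, hb, rfl⟩ := hy
          refine ⟨hx, ?_⟩
          have ha1 : a ∈ L S 1 := L_anti S (by omega) ha
          have hN1 : (L S 1).Normal := inferInstance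
          have hb1 : b * a * b⁻¹ ∈ L S 1 := hN1.conj_mem _ ha1 b
          have h5 := (H544.Regular.pow_eq_iff hreg (⟨a, ha1⟩ : L S 1) ⟨b * a * b⁻¹, hb1⟩ 1).mp (by
            apply Subtype.ext
            change a ^ p ^ 1 = (b * a * b⁻¹) ^ p ^ 1
            rw [pow_one, conj_pow]
            have := mem_center_iff.mp (h1 a ha) b
            rw [this, mul_inv_cancel_right])
          have h6 : (a * (b * a * b⁻¹)⁻¹) ^ p ^ 1 = 1 := congrArg Subtype.val h5
          rw [pow_one] at h6
          have e : ⁅a, b⁆ = a * (b * a * b⁻¹)⁻¹ := by rw [commutatorElement_def]; group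
          rw [e, h6]
        | one => exact ⟨one_mem _, one_pow _⟩
        | mul a b ha hb iha ihb =>
          have ha' : a ∈ L S i := by rw [hLi]; exact ha
          have hb' : b ∈ L S i := by rw [hLi]; exact hb
          obtain ⟨h1, h2⟩ := iha ha'
          obtain ⟨h3, h4⟩ := ihb hb'
          refine ⟨mul_mem h1 h3, ?_⟩
          have := H544.Regular.mul_pow_eq_one hreg (a := ⟨a, L_anti S hi h1⟩)
            (b := ⟨b, L_anti S hi h3⟩) 1
            (Subtype.ext (by rw [pow_one]; exact h2)) (Subtype.ext (by rw [pow_one]; exact h4))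
          rw [pow_one] at this
          exact congrArg Subtype.val this
        | inv a ha iha =>
          have ha' : a ∈ L S i := by rw [hLi]; exact ha
          obtain ⟨h1, h2⟩ := iha ha'
          exact ⟨inv_mem h1, by rw [inv_pow, h2, inv_one]⟩
      exact (key x hx).2

end Cfsg.Agent.H454.MaxClass
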