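import Mathlib
import Cfsg.Agent.Transfer.OmegaFaithful

/-!
# Coprime automorphisms of 2-groups fixing the elements of order at most 4

* `map_eq_self_of_four`: an endomorphism `f` of the finite 2-group `G` with `f^[n] = id`, `n` odd,
  which fixes every `x` with `x ^ 4 = 1` is the identity;
* `le_centralizer_of_four`: a group `A` of odd order normalizing the 2-group `P` and centralizing
  every `x ∈ P` with `x ^ 4 = 1` centralizes `P`.
-/

open Subgroup
open scoped commutatorElement

namespace Cfsg.Agent.H454.OmegaFour

universe u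

open Cfsg.Agent.Transfer.OmegaFaithful in
/-- An endomorphism `f` of the finite `2`-group `G` with `f^[n] = id`, `n` odd, which fixes every
element of order dividing `4`, is the identity. -/
theorem map_eq_self_of_four {n : ℕ}
    (hn : n.Coprime 2) (G : Type u) [Group G] [Finite G] (hG : IsPGroup 2 G) (f : G →* G)
    (hf : ∀ x, f^[n] x = x) (h : ∀ x, x ^ 4 = 1 → f x = x) (x : G) : f x = x := by
  have hpf : Fact (Nat.Prime 2) := ⟨Nat.prime_two⟩
  -- strong induction on the order
  suffices H : ∀ (N : ℕ) (G : Type u) [Group G] [Finite G] (_ : Nat.card G ≤ N)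
      (_ : IsPGroup 2 G) (f : G →* G) (_ : ∀ x, f^[n] x = x) (_ : ∀ x, x ^ 4 = 1 → f x = x)
      (x : G), f x = x from H _ G le_rfl hG f hf h x
  intro N
  induction N with
  | zero =>
    intro G _ _ hN
    exact absurd (Nat.card_pos (α := G)) (by omega)
  | succ N ih =>
    intro G _ _ hN hG f hf h
    -- `f` is the identity on proper invariant subgroups
    have key : ∀ H : Subgroup G, (∀ x ∈ H, f x ∈ H) → H ≠ ⊤ → ∀ x ∈ H, f x = x := by
      intro H hH hne x hx
      obtain ⟨g, hg, hgn⟩ := restrict_data f H hH
      have hlt : Nat.card H < Nat.card G := by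
        refine lt_of_le_of_ne (Subgroup.card_le_card_group H) ?_
        intro he
        exact hne (Subgroup.eq_top_of_card_eq H he)
      have := ih H (by omega) (hG.to_subgroup H) g
        (fun x => Subtype.ext (by rw [hgn, hf]))
        (fun x hx => Subtype.ext (by
          rw [hg]; exact h x (by rw [← Subgroup.coe_pow, hx]; rfl)))
        ⟨x, hx⟩
      rw [← hg ⟨x, hx⟩, this]
    set K : Subgroup G := Subgroup.closure {c | ∃ x, x⁻¹ * f x = c} with hK
    have hKmem : ∀ x, x⁻¹ * f x ∈ K := fun x => Subgroup.subset_closure ⟨x, rfl⟩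
    have hKinv : ∀ x ∈ K, f x ∈ K := by
      intro x hx
      have h1 := hKmem x
      have h2 := K.mul_mem hx h1
      rwa [mul_inv_cancel_left] at h2
    by_cases hKtop : K = ⊤
    swap
    · intro x
      exact map_eq_self_of_fixed hG hn f x (hf x) (key K hKinv hKtop _ (hKmem x))
    -- so `K = ⊤`
    by_cases htriv : Subsingleton G
    · intro x; exact Subsingleton.elim _ _
    rw [not_subsingleton_iff_nontrivial] at htriv
    have := hG.isNilpotent
    -- the Frattini subgroup is fixed pointwise
    have hΦtop : frattini G ≠ ⊤ := by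
      intro htop
      obtain ⟨M, hM, -⟩ := (eq_top_or_exists_le_coatom (⊥ : Subgroup G)).resolve_left bot_ne_top
      exact hM.1 (top_le_iff.mp (htop ▸ frattini_le_coatom hM))
    have hinj : Function.Injective f := by
      rcases Nat.eq_zero_or_pos n with h0 | h0
      · subst h0
        exact absurd (Nat.coprime_zero_left 2 |>.mp hn) hpf.out.one_lt.ne'
      · intro x y hxy
        rw [← hf x, ← hf y]
        obtain ⟨m, rfl⟩ : ∃ m, n = m + 1 := ⟨n - 1, by omega⟩
        rw [Function.iterate_succ_apply, Function.iterate_succ_apply, hxy]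
    have hsurj : Function.Surjective f := Finite.surjective_of_injective hinj
    have hΦinv : ∀ x ∈ frattini G, f x ∈ frattini G := by
      intro x hx
      exact frattini_le_comap_frattini_of_surjective hsurj hx
    have hΦfix : ∀ x ∈ frattini G, f x = x := key _ hΦinv hΦtop
    have : (frattini G).Normal := inferInstance
    -- the Frattini subgroup is central
    have hcent : ∀ z ∈ frattini G, ∀ x : G, Commute x z := by
      intro z hz x
      have hx : x ∈ K := by rw [hKtop]; trivial
      rw [hK] at hx
      induction hx using Subgroup.closure_induction with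
      | mem c hc =>
        obtain ⟨y, rfl⟩ := hc
        exact commute_of_fixed f (frattini G) hΦfix y z hz
      | one => exact Commute.one_left z
      | mul a b _ _ ha hb => exact ha.mul_left hb
      | inv a _ ha => exact ha.inv_left
    have hcomm : ∀ x y : G, ⁅x, y⁆ ∈ frattini G := by
      intro x y
      exact Cfsg.Agent.Lib.FrattiniPGroup.commutator_le_frattini hG
        (Subgroup.commutator_mem_commutator (Subgroup.mem_top x) (Subgroup.mem_top y))
    have hpow : ∀ x : G, x ^ 2 ∈ frattini G :=
      fun x => Cfsg.Agent.Lib.FrattiniPGroup.pow_mem_frattini hG x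
    -- commutators have order dividing `2`
    have hcp : ∀ x y : G, ⁅y, x⁆ ^ 2 = 1 := by
      intro x y
      have h1 : y ^ 2 * x = x * y ^ 2 * ⁅y, x⁆ ^ 2 :=
        Cfsg.Agent.Transfer.ClassTwo.pow_mul_eq (hcent _ (hcomm y x) x) (hcent _ (hcomm y x) y) 2
      rw [(hcent _ (hpow y) x).eq] at h1
      exact (mul_eq_left.mp h1.symm)
    have hfix : ∀ x : G, f (x⁻¹ * f x) = x⁻¹ * f x := by
      intro x
      apply h
      have h2 : (x⁻¹ * f x) ^ 2 = x⁻¹ ^ 2 * f x ^ 2 * ⁅f x, x⁻¹⁆ ^ (Nat.choose 2 2) :=
        Cfsg.Agent.Transfer.ClassTwo.mul_pow_eq (hcent _ (hcomm _ _) _) (hcent _ (hcomm _ _) _) 2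
      rw [← map_pow, hΦfix _ (hpow x), inv_pow, inv_mul_cancel, one_mul, Nat.choose_self,
        pow_one] at h2
      rw [show (4 : ℕ) = 2 * 2 from rfl, pow_mul, h2, hcp]
    intro x
    exact map_eq_self_of_fixed hG hn f x (hf x) (hfix x)

/-- A group of odd order normalizing a `2`-group `P` and centralizing all elements of `P` of order
at most 4 centralizes `P`. -/
theorem le_centralizer_of_four {X : Type u} [Group X] [Finite X] (P A : Subgroup X)
    (hP : IsPGroup 2 P) (hA : Odd (Nat.card A)) (hAP : A ≤ normalizer (P : Set X))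
    (h : ∀ x ∈ P, x ^ 4 = 1 → ∀ a ∈ A, a * x = x * a) : A ≤ centralizer (P : Set X) := by
  intro a ha
  rw [mem_centralizer_iff]
  intro y hy
  let f : P →* P := ((MulAut.conj a).toMonoidHom.comp P.subtype).codRestrict P (fun x => by
    have := (mem_normalizer_iff.mp (hAP ha) x).mp x.2
    simpa using this)
  have hfa : ∀ x : P, ((f x : P) : X) = a * x * a⁻¹ := fun x => rfl
  have hit : ∀ (k : ℕ) (x : P), ((f^[k] x : P) : X) = a ^ k * x * (a ^ k)⁻¹ := by
    intro k
    induction k with
    | zero => intro x; simp
    | succ k ih =>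
      intro x
      rw [Function.iterate_succ_apply, ih, hfa, pow_succ]
      group
  have hodd : (orderOf a).Coprime 2 := by
    rw [Nat.coprime_comm, Nat.coprime_two_left]
    have : orderOf a ∣ Nat.card A := by
      rw [← Subgroup.orderOf_mk a ha]
      exact orderOf_dvd_natCard _
    exact Odd.of_dvd_nat hA this
  have := map_eq_self_of_four hodd P hP f
    (fun x => Subtype.ext (by rw [hit, pow_orderOf_eq_one]; simp))
    (fun x hx => Subtype.ext (by
      rw [hfa]
      have h1 := h x x.2 (by rw [← Subgroup.coe_pow, hx]; rfl) a ha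
      rw [h1]; group)) ⟨y, hy⟩
  have h2 := congrArg (Subtype.val) this
  rw [hfa] at h2
  simp only at h2
  rw [mul_inv_eq_iff_eq_mul] at h2
  exact h2.symm

end Cfsg.Agent.H454.OmegaFour
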