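import Cfsg.Agent.H109.EndPsl
import Cfsg.Agent.H959.Rad3.Iface

/-!
# Elements of order three of `PSL_2(q)` (helper454, for S3854): inner automorphisms

* `exists_conj_xm` : a matrix of order three in `SL_2` is conjugate under `GL_2` to `[[0, -1], [1, -1]]`;
* `exists_good` : there is `T` with `T² = -1` such that `X T` has order prime to six;
* `inner_false` : an inner automorphism of order three fails the involution test.
-/

set_option autoImplicit false
set_option linter.unusedSectionVars false

namespace Cfsg.Agent.H454.PslThree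

open Subgroup Cfsg Matrix
open Cfsg.Agent.H459.Iface Cfsg.Agent.H459.Rad Cfsg.Agent.H959.Rad3
open Cfsg.Agent.ClassicalGeometry.AutPSL.Root Cfsg.Agent.ClassicalGeometry.AutPSL.Auto
  Cfsg.Agent.ClassicalGeometry.AutPSL.Main Cfsg.Agent.BpLin Cfsg.Agent.H109.EndPsl

section Mat

variable {F : Type*} [Field F]

/-- Cayley–Hamilton -/
theorem sq_eq (X : Matrix (Fin 2) (Fin 2) F) (h : X.det = 1) : X * X = X.trace • X - 1 := by
  rw [Matrix.det_fin_two] at h
  ext i j
  fin_cases i <;> fin_cases j <;>
    simp [Matrix.mul_apply, Fin.sum_univ_two, Matrix.trace_fin_two]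
  · linear_combination -h
  · ring
  · ring
  · linear_combination -h

/-- the matrix of order three -/
def xm : Matrix (Fin 2) (Fin 2) F := !![0, -1; 1, -1]

theorem det_xm : (xm : Matrix (Fin 2) (Fin 2) F).det = 1 := by
  rw [xm, Matrix.det_fin_two_of]; ring

/-- trace of an element of order three -/
theorem trace_of_cube {X : Matrix (Fin 2) (Fin 2) F} (hd : X.det = 1) (h3 : X * X * X = 1) (h1 : X ≠ 1) :
    X.trace = -1 := by
  have h2 := sq_eq X hd
  have h4 : X * X * X = (X.trace ^ 2 - 1) • X - X.trace • 1 := by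
    rw [h2, sub_mul, smul_mul_assoc, h2, one_mul, smul_sub, smul_smul, sub_smul, one_smul, ← pow_two]
    abel
  rw [h3] at h4
  set t := X.trace with ht
  by_cases h5 : t ^ 2 - 1 = 0
  · rw [h5, zero_smul, zero_sub] at h4
    have h6 := congrFun (congrFun h4 0) 0
    simp at h6
    linear_combination h6
  · exfalso
    -- `X` is scalar
    have h6 : X = ((1 + t) / (t ^ 2 - 1)) • (1 : Matrix (Fin 2) (Fin 2) F) := by
      have h7 : (t ^ 2 - 1) • X = (1 + t) • (1 : Matrix (Fin 2) (Fin 2) F) := by
        calc (t ^ 2 - 1) • X = ((t ^ 2 - 1) • X - t • 1) + t • 1 := by abel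
          _ = 1 + t • 1 := by rw [← h4]
          _ = _ := by rw [add_smul, one_smul]
      rw [div_eq_inv_mul, ← smul_smul, ← h7, smul_smul, inv_mul_cancel₀ h5, one_smul]
    set c := (1 + t) / (t ^ 2 - 1)
    have h7 : c * c = 1 := by
      have := hd
      rw [h6, Matrix.det_smul, Matrix.det_one, mul_one, Fintype.card_fin] at this
      linear_combination this
    have h8 : c * (c * c) = 1 := by
      have := congrFun (congrFun h3 0) 0
      rw [h6] at this
      simpa using this
    rw [h7, mul_one] at h8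
    rw [h8, one_smul] at h6
    exact h1 h6

theorem exists_conj_xm {X : Matrix (Fin 2) (Fin 2) F} (hd : X.det = 1) (h3 : X * X * X = 1) (h1 : X ≠ 1) :
    ∃ g : GL (Fin 2) F, X * (g : Matrix (Fin 2) (Fin 2) F) = (g : Matrix (Fin 2) (Fin 2) F) * xm := by
  have ht := trace_of_cube hd h3 h1
  have h2 := sq_eq X hd
  rw [ht, neg_smul, one_smul] at h2
  have key : ∀ a b : F, a * (X 1 0 * a + X 1 1 * b) - (X 0 0 * a + X 0 1 * b) * b ≠ 0 →
      ∃ g : GL (Fin 2) F, X * (g : Matrix (Fin 2) (Fin 2) F) = (g : Matrix (Fin 2) (Fin 2) F) * xm := by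
    intro a b hab
    let g : Matrix (Fin 2) (Fin 2) F := !![a, X 0 0 * a + X 0 1 * b; b, X 1 0 * a + X 1 1 * b]
    have hg : g.det ≠ 0 := by
      rw [Matrix.det_fin_two_of]; exact hab
    refine ⟨Matrix.GeneralLinearGroup.mkOfDetNeZero g hg, ?_⟩
    show X * g = g * xm
    have h00 := congrFun (congrFun h2 0) 0
    have h01 := congrFun (congrFun h2 0) 1
    have h10 := congrFun (congrFun h2 1) 0
    have h11 := congrFun (congrFun h2 1) 1
    simp [Matrix.mul_apply, Fin.sum_univ_two] at h00 h01 h10 h11
    ext i j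
    fin_cases i <;> fin_cases j <;> simp [g, xm, Matrix.mul_apply, Fin.sum_univ_two]
    · linear_combination a * h00 + b * h01
    · linear_combination a * h10 + b * h11
  by_cases h10 : X 1 0 = 0
  · by_cases h01 : X 0 1 = 0
    · refine key 1 1 ?_
      rw [h10, h01]
      intro h
      have h5 : X 1 1 = X 0 0 := by linear_combination h
      have h6 : X 0 0 * X 0 0 = 1 := by
        rw [Matrix.det_fin_two, h10, h01, h5] at hd
        linear_combination hd
      have h7 : X = (X 0 0) • (1 : Matrix (Fin 2) (Fin 2) F) := by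
        ext i j
        fin_cases i <;> fin_cases j <;> simp [h10, h01, h5]
      have h8 : X 0 0 * (X 0 0 * X 0 0) = 1 := by
        have := congrFun (congrFun h3 0) 0
        rw [h7] at this
        simpa using this
      rw [h6, mul_one] at h8
      rw [h8, one_smul] at h7
      exact h1 h7
    · refine key 0 1 ?_
      intro h
      apply h01
      linear_combination -h
  · refine key 1 0 ?_
    intro h
    apply h10
    linear_combination h

/-- order five -/
theorem pow_five {M : Matrix (Fin 2) (Fin 2) F} {τ : F} (hd : M.det = 1) (ht : M.trace = τ) (hτ : τ ^ 2 + τ - 1 = 0) :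
    M ^ 5 = 1 := by
  have h2 := sq_eq M hd
  rw [ht] at h2
  have h3 : M * M * M = -τ • M - τ • 1 := by
    rw [h2, sub_mul, smul_mul_assoc, h2, one_mul, smul_sub, smul_smul]
    have e : τ * τ = 1 - τ := by linear_combination hτ
    rw [e, sub_smul, one_smul, neg_smul]
    abel
  calc M ^ 5 = (M * M * M) * (M * M) := by simp only [pow_succ, pow_zero, one_mul, mul_assoc]
    _ = (-τ • M - τ • 1) * (τ • M - 1) := by rw [h3, h2]
    _ = (-(τ * τ)) • (M * M) + (τ - τ * τ) • M + τ • 1 := by
        rw [sub_mul, mul_sub, mul_sub, smul_mul_smul_comm, smul_mul_smul_comm, one_mul, mul_one, mul_one, sub_smul, neg_smul, neg_smul,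
          neg_mul, neg_smul]
        abel
    _ = 1 := by
        rw [h2, smul_sub, smul_smul]
        have e : -(τ * τ) * τ = -(τ - τ * τ) := by linear_combination (-τ) * hτ
        have e2 : -(τ * τ) = τ - 1 := by linear_combination -hτ
        rw [e, e2, neg_smul]
        simp only [sub_smul, one_smul]
        abel

/-- split elements -/
theorem pow_split {M : Matrix (Fin 2) (Fin 2) F} {ζ η : F} (hd : M.det = 1) (hζ : ζ * η = 1) (ht : M.trace = ζ + η)
    (hne : ζ ≠ η) {n : ℕ} (hn : ζ ^ n = 1) : M ^ n = 1 := by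
  have h2 := sq_eq M hd
  rw [ht] at h2
  have a1 : M * (M - η • 1) = ζ • (M - η • 1) := by
    rw [mul_sub, h2, Matrix.mul_smul, mul_one, smul_sub, smul_smul, hζ, one_smul, add_smul]
    abel
  have a2 : M * (M - ζ • 1) = η • (M - ζ • 1) := by
    rw [mul_sub, h2, Matrix.mul_smul, mul_one, smul_sub, smul_smul, mul_comm η, hζ, one_smul, add_smul]
    abel
  have key : ∀ k : ℕ, (ζ - η) • M ^ k = ζ ^ k • (M - η • 1) - η ^ k • (M - ζ • 1) := by
    intro k
    induction k with
    | zero =>
      rw [pow_zero, pow_zero, pow_zero, one_smul, one_smul, sub_smul]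
      abel
    | succ k ih =>
      rw [pow_succ', ← Matrix.mul_smul, ih, mul_sub, Matrix.mul_smul, Matrix.mul_smul, a1, a2, smul_smul, smul_smul, ← pow_succ,
        ← pow_succ]
  have hη : η ^ n = 1 := by
    have := congrArg (· ^ n) hζ
    simp only [mul_pow, hn, one_mul, one_pow] at this
    exact this
  have h3 := key n
  rw [hn, hη, one_smul, one_smul] at h3
  have h4 : (ζ - η) • M ^ n = (ζ - η) • (1 : Matrix (Fin 2) (Fin 2) F) := by
    rw [h3, sub_smul]
    abel
  exact smul_right_injective _ (sub_ne_zero.2 hne) h4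

/-- traces of `X T`, characteristic two and three -/
theorem exists_trace {τ : F} (hτ : τ ≠ 0) (h : (2 : F) = 0 ∨ (3 : F) = 0) :
    ∃ T : Matrix (Fin 2) (Fin 2) F, T.det = 1 ∧ T * T = -1 ∧ (xm * T).trace = τ := by
  rcases h with h | h
  · refine ⟨!![1, τ + 1; 0, 1], by rw [Matrix.det_fin_two_of]; ring, ?_, ?_⟩
    · ext i j
      fin_cases i <;> fin_cases j <;> simp [Matrix.mul_apply, Fin.sum_univ_two]
      · linear_combination h
      · linear_combination (τ + 1) * h
      · linear_combination h
    · rw [Matrix.trace_fin_two]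
      simp [xm, Matrix.mul_apply, Fin.sum_univ_two]
  · have hi : τ * τ⁻¹ = 1 := mul_inv_cancel₀ hτ
    refine ⟨!![τ⁻¹, τ + τ⁻¹; -τ⁻¹, -τ⁻¹], ?_, ?_, ?_⟩
    · rw [Matrix.det_fin_two_of]
      linear_combination hi
    · ext i j
      fin_cases i <;> fin_cases j <;> simp [Matrix.mul_apply, Fin.sum_univ_two]
      · linear_combination -hi
      · ring
      · linear_combination -hi
    · rw [Matrix.trace_fin_two]
      simp [xm, Matrix.mul_apply, Fin.sum_univ_two]
      linear_combination τ⁻¹ * h

/-- **`T` with `X T` of order prime to six.** -/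
theorem exists_good [Finite F] (h4 : 4 ≤ Nat.card F) : ∃ (T : Matrix (Fin 2) (Fin 2) F) (n : ℕ), T.det = 1 ∧ T * T = -1 ∧
    Nat.Coprime n 6 ∧ (xm * T) ^ n = 1 := by
  classical
  have := Fintype.ofFinite F
  obtain ⟨r, hchar⟩ := CharP.exists F
  obtain ⟨f, hr, hF⟩ := FiniteField.card F r
  have hrf : Fact r.Prime := ⟨hr⟩
  by_cases h23 : (2 : F) = 0 ∨ (3 : F) = 0
  · by_cases h5 : ∃ τ : F, τ ^ 2 + τ - 1 = 0
    · obtain ⟨τ, hτ⟩ := h5
      have hτ0 : τ ≠ 0 := by
        rintro rfl
        simp at hτ
      obtain ⟨T, h1, h2, h3⟩ := exists_trace hτ0 h23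
      exact ⟨T, 5, h1, h2, by norm_num, pow_five (by rw [Matrix.det_mul, det_xm, h1, one_mul]) h3 hτ⟩
    · -- a number `n` prime to six and `ζ ≠ 1` with `ζ ^ n = 1`
      obtain ⟨n, ζ, hn6, hζ1, hζn⟩ : ∃ (n : ℕ) (ζ : Fˣ), Nat.Coprime n 6 ∧ ζ ≠ 1 ∧ ζ ^ n = 1 := by
        obtain ⟨g, hg⟩ := IsCyclic.exists_generator (α := Fˣ)
        have hord : orderOf g = Fintype.card F - 1 := by
          rw [orderOf_eq_card_of_forall_mem_zpowers hg, Nat.card_eq_fintype_card, Fintype.card_units]
        rw [Nat.card_eq_fintype_card] at h4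
        rcases h23 with h | h
        · have hr2 : r = 2 := by
            have h6 : r ∣ 2 := (CharP.cast_eq_zero_iff F r 2).1 (by exact_mod_cast h)
            exact (Nat.prime_dvd_prime_iff_eq hr Nat.prime_two).1 h6
          refine ⟨Fintype.card F - 1, g, ?_, ?_, by rw [← hord, pow_orderOf_eq_one]⟩
          · have h2 : ¬ 2 ∣ Fintype.card F - 1 := by
              have h6 : 2 ∣ Fintype.card F := by rw [hF, hr2]; exact dvd_pow_self 2 f.ne_zero
              omega
            have h3 : ¬ 3 ∣ Fintype.card F - 1 := by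
              intro h3
              rw [← hord] at h3
              apply h5
              -- an element of order three
              set u : Fˣ := g ^ (orderOf g / 3) with hu
              have hu3 : orderOf u = 3 := orderOf_pow_orderOf_div (orderOf_pos g).ne' h3
              have hu1 : (u : F) ^ 3 = 1 := by
                rw [← Units.val_pow_eq_pow_val, ← hu3, pow_orderOf_eq_one, Units.val_one]
              have hu2 : (u : F) ≠ 1 := by
                intro h7
                have : u = 1 := Units.ext h7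
                rw [this, orderOf_one] at hu3
                omega
              refine ⟨u, ?_⟩
              have h8 : ((u : F) - 1) * ((u : F) ^ 2 + u + 1) = 0 := by linear_combination hu1
              have h9 := (mul_eq_zero.1 h8).resolve_left (sub_ne_zero.2 hu2)
              linear_combination h9 - h
            have e : (6 : ℕ) = 2 * 3 := by norm_num
            rw [e]
            exact Nat.Coprime.mul_right ((Nat.Prime.coprime_iff_not_dvd Nat.prime_two).2 h2).symm
              ((Nat.Prime.coprime_iff_not_dvd Nat.prime_three).2 h3).symm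
          · intro h6
            rw [h6, orderOf_one] at hord
            omega
        · have hr3 : r = 3 := by
            have h6 : r ∣ 3 := (CharP.cast_eq_zero_iff F r 3).1 (by exact_mod_cast h)
            exact (Nat.prime_dvd_prime_iff_eq hr Nat.prime_three).1 h6
          have h3q : 3 ∣ Fintype.card F := by rw [hF, hr3]; exact dvd_pow_self 3 f.ne_zero
          have hodd : Odd (Fintype.card F) := by rw [hF, hr3]; exact Odd.pow (by decide)
          have hmod : Fintype.card F % 4 = 3 := by
            by_contra hne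
            apply h5
            obtain ⟨i, hi⟩ := (FiniteField.isSquare_neg_one_iff (F := F)).2 hne
            refine ⟨1 + i, ?_⟩
            linear_combination -hi + i * h
          refine ⟨(Fintype.card F - 1) / 2, g ^ 2, ?_, ?_, ?_⟩
          · have h2 : ¬ 2 ∣ (Fintype.card F - 1) / 2 := by omega
            have h3 : ¬ 3 ∣ (Fintype.card F - 1) / 2 := by omega
            have e : (6 : ℕ) = 2 * 3 := by norm_num
            rw [e]
            exact Nat.Coprime.mul_right ((Nat.Prime.coprime_iff_not_dvd Nat.prime_two).2 h2).symm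
              ((Nat.Prime.coprime_iff_not_dvd Nat.prime_three).2 h3).symm
          · intro h6
            have h7 := Nat.le_of_dvd (by norm_num) (orderOf_dvd_of_pow_eq_one h6)
            rw [hord] at h7
            omega
          · rw [← pow_mul, Nat.mul_div_cancel' (by omega), ← hord, pow_orderOf_eq_one]
      have hodd : Odd n := by
        rw [← Nat.not_even_iff_odd, even_iff_two_dvd]
        intro h2
        have h3 : 2 ∣ Nat.gcd n 6 := Nat.dvd_gcd h2 (by norm_num)
        rw [hn6] at h3
        omega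
      -- `ζ ^ k = 1` for even `k` and `ζ ^ n = 1`
      have hcop : ∀ k : ℕ, ζ ^ (2 ^ k) = 1 → False := by
        intro k hk
        have h1 := orderOf_dvd_of_pow_eq_one hk
        have h2 := orderOf_dvd_of_pow_eq_one hζn
        have h3 : Nat.Coprime (2 ^ k) n := Nat.Coprime.pow_left k (Nat.coprime_two_left.2 hodd)
        have h6 := Nat.eq_one_of_dvd_coprimes h3 h1 h2
        exact hζ1 (orderOf_eq_one_iff.1 h6)
      have hne : (ζ : F) ≠ ((ζ⁻¹ : Fˣ) : F) := by
        intro h6
        have h7 : ζ = ζ⁻¹ := Units.ext h6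
        apply hcop 1
        rw [pow_one, pow_two]
        nth_rewrite 1 [h7]
        exact inv_mul_cancel ζ
      have hζη : (ζ : F) * ((ζ⁻¹ : Fˣ) : F) = 1 := by rw [← Units.val_mul, mul_inv_cancel, Units.val_one]
      have hτ0 : (ζ : F) + ((ζ⁻¹ : Fˣ) : F) ≠ 0 := by
        intro h6
        apply hcop 2
        apply Units.ext
        rw [Units.val_pow_eq_pow_val, Units.val_one]
        have h7 : (ζ : F) * ζ = -1 := by linear_combination (ζ : F) * h6 - hζη
        calc (ζ : F) ^ 2 ^ 2 = (ζ * ζ) * (ζ * ζ) := by ring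
          _ = 1 := by rw [h7]; ring
      obtain ⟨T, h1, h2, h3⟩ := exists_trace hτ0 h23
      refine ⟨T, n, h1, h2, hn6, pow_split (by rw [Matrix.det_mul, det_xm, h1, one_mul]) hζη h3 hne ?_⟩
      rw [← Units.val_pow_eq_pow_val, hζn, Units.val_one]
  · push Not at h23
    refine ⟨!![0, 1; -1, 0], r, by rw [Matrix.det_fin_two_of]; ring, ?_, ?_, ?_⟩
    · ext i j
      fin_cases i <;> fin_cases j <;> simp [Matrix.mul_apply, Fin.sum_univ_two]
    · have e : (6 : ℕ) = 2 * 3 := by norm_num
      rw [e]
      refine Nat.Coprime.mul_right ((Nat.coprime_primes hr Nat.prime_two).2 ?_) ((Nat.coprime_primes hr Nat.prime_three).2 ?_)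
      · rintro rfl
        exact h23.1 (by exact_mod_cast CharP.cast_eq_zero F 2)
      · rintro rfl
        exact h23.2 (by exact_mod_cast CharP.cast_eq_zero F 3)
    · have h1 : (xm * !![0, 1; -1, 0] : Matrix (Fin 2) (Fin 2) F) = !![1, 0; 1, 1] := by
        ext i j
        fin_cases i <;> fin_cases j <;> simp [xm, Matrix.mul_apply, Fin.sum_univ_two]
      have h2 : ∀ k : ℕ, (!![1, 0; 1, 1] : Matrix (Fin 2) (Fin 2) F) ^ k = !![1, 0; (k : F), 1] := by
        intro k
        induction k with
        | zero => rw [pow_zero, Nat.cast_zero, Matrix.one_fin_two]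
        | succ k ih =>
          rw [pow_succ, ih]
          ext i j
          fin_cases i <;> fin_cases j <;> simp [Matrix.mul_apply, Fin.sum_univ_two]
      rw [h1, h2, CharP.cast_eq_zero, Matrix.one_fin_two]

end Mat

section Grp

variable {F : Type*} [Field F]

local notation "S2" => Matrix.SpecialLinearGroup (Fin 2) F
local notation "P2" => Matrix.ProjectiveSpecialLinearGroup (Fin 2) F

/-- **Inner automorphisms of order three fail the involution test.** -/
theorem inner_false [Finite F] (h4 : 4 ≤ Nat.card F) {s : P2} (hs3 : s ^ 3 = 1) (hs : MulAut.conj s ≠ (1 : MulAut P2))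
    (hI : Inv (MulAut.conj s : MulAut P2)) : False := by
  have hs1 : s ≠ 1 := by
    rintro rfl
    exact hs (map_one _)
  obtain ⟨m, hm⟩ := pr_surjective s
  -- the lift
  have hmp : (m ^ 3) * (m ^ 3) = 1 := by
    have h1 : pr (m ^ 3) = 1 := by rw [map_pow, hm, hs3]
    rw [← map_one (pr : S2 →* _)] at h1
    obtain ⟨c, hc⟩ := exists_smul_of_pr_eq h1.symm
    have h2 := congrArg Matrix.det hc
    rw [Matrix.det_smul, (m ^ 3).2, (1 : S2).2, mul_one, Fintype.card_fin] at h2
    apply Subtype.ext
    rw [Matrix.SpecialLinearGroup.coe_mul, hc, Matrix.SpecialLinearGroup.coe_one, Matrix.smul_mul, one_mul, smul_smul,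
      ← pow_two, ← h2, one_smul]
  have hX3 : (m ^ 4) ^ 3 = 1 := by
    rw [← pow_mul, show 4 * 3 = 3 * 2 * 2 by norm_num, pow_mul, pow_mul, pow_two (m ^ 3), hmp, one_pow]
  have hprX : pr (m ^ 4) = s := by rw [map_pow, hm, pow_succ, hs3, one_mul]
  have hX1 : m ^ 4 ≠ 1 := by
    intro h
    rw [h, map_one] at hprX
    exact hs1 hprX.symm
  obtain ⟨g, hg⟩ := exists_conj_xm (X := ((m ^ 4 : S2) : Matrix (Fin 2) (Fin 2) F)) (m ^ 4).2 (by
    rw [← Matrix.SpecialLinearGroup.coe_mul, ← Matrix.SpecialLinearGroup.coe_mul]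
    have : m ^ 4 * m ^ 4 * m ^ 4 = 1 := by rw [← hX3]; group
    rw [this, Matrix.SpecialLinearGroup.coe_one]) (fun h => hX1 (Subtype.ext h))
  let C : S2 := ⟨xm, det_xm⟩
  have hcj : cj g⁻¹ (m ^ 4) = C := by
    apply Subtype.ext
    rw [coe_cj, inv_inv, mul_assoc, hg, ← mul_assoc, ← Units.val_mul, inv_mul_cancel, Units.val_one, one_mul]
  have hI' := hI.tr (lift (cj g⁻¹))
  have he : Cfsg.Agent.H459.Rad.tr (lift (cj g⁻¹)) (MulAut.conj s) = MulAut.conj (pr C) := by
    rw [← hcj, ← lift_pr, hprX]
    ext y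
    rw [tr_apply, MulAut.conj_apply, MulAut.conj_apply, map_mul, map_mul, MulEquiv.apply_symm_apply]
    congr 1
    exact map_inv (lift (cj g⁻¹)) s
  have hC1 : (MulAut.conj (pr C) : MulAut P2) ≠ 1 := by
    intro h
    apply hs
    rw [h] at he
    ext y
    have h1 := DFunLike.congr_fun he (lift (cj g⁻¹) y)
    rw [tr_apply, MulEquiv.symm_apply_apply] at h1
    exact (lift (cj g⁻¹)).injective h1
  rw [he] at hI'
  -- the involution
  obtain ⟨T, n, hT1, hT2, hn, hpow⟩ := exists_good h4
  let t : S2 := ⟨T, hT1⟩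
  have ht : pr t * pr t = 1 := by
    rw [← map_mul, ← map_one (pr : S2 →* _)]
    symm
    apply pr_eq_of_smul (c := -1)
    rw [Matrix.SpecialLinearGroup.coe_mul, Matrix.SpecialLinearGroup.coe_one, neg_smul, one_smul]
    exact hT2
  have hC3 : (MulAut.conj (pr C) : MulAut P2) ^ 3 = 1 := by
    rw [← hcj, ← map_pow, ← map_pow, ← map_pow, hX3, map_one, map_one, map_one]
  have htt : (MulAut.conj (pr t) : MulAut P2) ^ 2 ^ 1 = 1 := by
    rw [pow_one, ← map_pow, pow_two, ht, map_one]
  refine not_solvable_of_coprime hC3 htt (n := n) ?_ hn ?_ (hI' (pr t) ht)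
  · rw [← map_mul, ← map_mul, ← map_pow, ← map_pow]
    have : (C * t) ^ n = 1 := by
      apply Subtype.ext
      rw [Matrix.SpecialLinearGroup.coe_pow, Matrix.SpecialLinearGroup.coe_mul, Matrix.SpecialLinearGroup.coe_one]
      exact hpow
    rw [this, map_one, map_one]
  · intro h
    apply hC1
    have h1 : (MulAut.conj (pr C) : MulAut P2) = (MulAut.conj (pr t))⁻¹ := eq_inv_of_mul_eq_one_left h
    have h2 : (MulAut.conj (pr C) : MulAut P2) ^ 2 = 1 := by
      rw [h1, inv_pow]
      rw [pow_one] at htt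
      rw [htt, inv_one]
    have h3 : (MulAut.conj (pr C) : MulAut P2) = (MulAut.conj (pr C)) ^ 3 * ((MulAut.conj (pr C)) ^ 2)⁻¹ := by group
    rw [h3, hC3, h2]
    simp

end Grp

end Cfsg.Agent.H454.PslThree
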