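import Cfsg.Agent.H454.PslThreeA

/-!
# Field automorphisms of order three of `PSL_2(q)` (helper454, for S3854)

* `trace_of_four` : an element normalising a four-group with noncommuting lifts has `tr² ∈ {0, 1, 2, 3, 4}`;
* `exists_param` : a parameter `b` with `(2 + (b - σ b)²)² ∉ {0, 1, 2, 3, 4}`;
* `no_abelian` : no nontrivial abelian subgroup is normalised by `σ` and `t_b`.
-/

set_option autoImplicit false
set_option linter.unusedSectionVars false

namespace Cfsg.Agent.H454.PslThree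

open Subgroup Cfsg Matrix
open Cfsg.Agent.H459.Iface Cfsg.Agent.H459.Rad Cfsg.Agent.H959.Rad3
open Cfsg.Agent.ClassicalGeometry.AutPSL.Root Cfsg.Agent.ClassicalGeometry.AutPSL.Auto
  Cfsg.Agent.ClassicalGeometry.AutPSL.Main Cfsg.Agent.BpLin Cfsg.Agent.H109.EndPsl

section Grp

variable {F : Type*} [Field F]

local notation "S2" => Matrix.SpecialLinearGroup (Fin 2) F
local notation "P2" => Matrix.ProjectiveSpecialLinearGroup (Fin 2) F

/-- the bad values of `tr²` -/
def Bad (s : F) : Prop := s * (s - 1) * (s - 2) * (s - 3) * (s - 4) = 0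

theorem pr_eq_one {g : S2} (h : pr g = 1) : ∃ c : F, (g : Matrix (Fin 2) (Fin 2) F) = c • (1 : Matrix (Fin 2) (Fin 2) F) := by
  rw [← map_one (pr : S2 →* _)] at h
  obtain ⟨c, hc⟩ := exists_smul_of_pr_eq h.symm
  exact ⟨c, by rw [hc, Matrix.SpecialLinearGroup.coe_one]⟩

theorem smul_scalar {g : Matrix (Fin 2) (Fin 2) F} {a b c : F} (hd : g.det = 1) (h : a • g - b • 1 = c • (1 : Matrix (Fin 2) (Fin 2) F)) :
    a = 0 ∨ g.trace ^ 2 = 4 := by
  by_cases ha : a = 0
  · exact Or.inl ha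
  right
  have h01 := congrFun (congrFun h 0) 1
  have h10 := congrFun (congrFun h 1) 0
  have h00 := congrFun (congrFun h 0) 0
  have h11 := congrFun (congrFun h 1) 1
  simp [ha] at h01 h10 h00 h11
  have e : g 0 0 = g 1 1 := by
    apply mul_left_cancel₀ ha
    linear_combination h00 - h11
  rw [Matrix.det_fin_two, h01, h10, e] at hd
  rw [Matrix.trace_fin_two, e]
  linear_combination 4 * hd

/-- order dividing four or six -/
theorem bad_of_pow {g : S2} (h : pr (g ^ 4) = 1 ∨ pr (g ^ 6) = 1) :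
    Bad ((g : Matrix (Fin 2) (Fin 2) F).trace ^ 2) := by
  set M := (g : Matrix (Fin 2) (Fin 2) F) with hM
  have hd : M.det = 1 := g.2
  have h2 := sq_eq M hd
  set t := M.trace with ht
  have h4 : M ^ 4 = (t ^ 3 - 2 * t) • M - (t ^ 2 - 1) • 1 := by
    calc M ^ 4 = (M * M) * (M * M) := by simp only [pow_succ, pow_zero, one_mul, mul_assoc]
      _ = (t • M - 1) * (t • M - 1) := by rw [h2]
      _ = (t * t) • (M * M) - (2 * t) • M + 1 := by
          rw [sub_mul, mul_sub, mul_sub, smul_mul_smul_comm, one_mul, mul_one, mul_one, two_mul, add_smul]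
          abel
      _ = _ := by
          rw [h2, smul_sub, smul_smul]
          simp only [sub_smul, one_smul]
          rw [show t ^ 3 = t * t * t by ring, show t ^ 2 = t * t by ring]
          abel
  have h6 : M ^ 6 = (t ^ 5 - 4 * t ^ 3 + 3 * t) • M - (t ^ 4 - 3 * t ^ 2 + 1) • 1 := by
    calc M ^ 6 = M ^ 4 * (M * M) := by rw [show 6 = 4 + 2 by norm_num, pow_add, pow_two M]
      _ = ((t ^ 3 - 2 * t) • M - (t ^ 2 - 1) • 1) * (t • M - 1) := by rw [h4, h2]
      _ = ((t ^ 3 - 2 * t) * t) • (M * M) - ((t ^ 3 - 2 * t) + (t ^ 2 - 1) * t) • M + (t ^ 2 - 1) • 1 := by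
          rw [sub_mul, mul_sub, mul_sub, smul_mul_smul_comm, smul_mul_smul_comm, mul_one, mul_one, one_mul, add_smul]
          abel
      _ = _ := by
          rw [h2, smul_sub, smul_smul]
          have e1 : (t ^ 3 - 2 * t) * t * t - ((t ^ 3 - 2 * t) + (t ^ 2 - 1) * t) = t ^ 5 - 4 * t ^ 3 + 3 * t := by ring
          have e2 : (t ^ 3 - 2 * t) * t - (t ^ 2 - 1) = t ^ 4 - 3 * t ^ 2 + 1 := by ring
          rw [← e1, ← e2, sub_smul ((t ^ 3 - 2 * t) * t * t), sub_smul ((t ^ 3 - 2 * t) * t)]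
          abel
  rcases h with h | h
  · obtain ⟨c, hc⟩ := pr_eq_one h
    rw [Matrix.SpecialLinearGroup.coe_pow, ← hM, h4] at hc
    rcases smul_scalar hd hc with h5 | h5
    · unfold Bad
      have : t ^ 2 * (t ^ 2 - 2) = 0 := by linear_combination t * h5
      linear_combination ((t ^ 2 - 1) * (t ^ 2 - 3) * (t ^ 2 - 4)) * this
    · unfold Bad
      rw [h5]; ring
  · obtain ⟨c, hc⟩ := pr_eq_one h
    rw [Matrix.SpecialLinearGroup.coe_pow, ← hM, h6] at hc
    rcases smul_scalar hd hc with h5 | h5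
    · unfold Bad
      have : t ^ 2 * (t ^ 2 - 1) * (t ^ 2 - 3) = 0 := by linear_combination t * h5
      linear_combination ((t ^ 2 - 2) * (t ^ 2 - 4)) * this
    · unfold Bad
      rw [h5]; ring

/-- **Normalisers of four-groups.** -/
theorem trace_of_four {n m g : S2} (hnm : n * m ≠ m * n) (hc : pr n * pr m = pr m * pr n)
    (h1 : pr g * pr n * (pr g)⁻¹ = pr n ∨ pr g * pr n * (pr g)⁻¹ = pr m ∨ pr g * pr n * (pr g)⁻¹ = pr n * pr m)
    (h2 : pr g * pr m * (pr g)⁻¹ = pr n ∨ pr g * pr m * (pr g)⁻¹ = pr m ∨ pr g * pr m * (pr g)⁻¹ = pr n * pr m) :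
    Bad ((g : Matrix (Fin 2) (Fin 2) F).trace ^ 2) := by
  have ha : Anti n m := (comm_or hc).resolve_left hnm
  have hn1 : pr n ≠ 1 := by
    intro h
    obtain ⟨c, hc⟩ := pr_eq_one h
    apply hnm
    rw [sl_comm_iff, hc, Matrix.smul_mul, Matrix.mul_smul, one_mul, mul_one]
  have hm1 : pr m ≠ 1 := by
    intro h
    obtain ⟨c, hc⟩ := pr_eq_one h
    apply hnm
    rw [sl_comm_iff, hc, Matrix.smul_mul, Matrix.mul_smul, one_mul, mul_one]
  have key : ∀ h : S2, h * n = n * h → h * m = m * h → pr h = 1 := by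
    intro h h3 h4
    by_contra h5
    exact hnm (sl_comm_of_comm h5 h3 h4)
  have hnn : pr n * pr n = 1 := by
    rw [← map_mul]
    exact key _ (by rw [mul_assoc]) (Anti.mul ha ha)
  have hmm : pr m * pr m = 1 := by
    rw [← map_mul]
    exact key _ (Anti.mul ha.symm ha.symm) (by rw [mul_assoc])
  have hcent : ∀ k : ℕ, pr (g ^ k) * pr n = pr n * pr (g ^ k) → pr (g ^ k) * pr m = pr m * pr (g ^ k) →
      pr (g ^ (2 * k)) = 1 := by
    intro k h3 h4
    rw [mul_comm, pow_mul, map_pow pr (g ^ k) 2, pow_two]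
    rcases claim hnm hc h3 h4 with h | h | h | h <;> rw [h]
    · exact mul_one _
    · exact hnn
    · exact hmm
    · calc pr n * pr m * (pr n * pr m) = pr n * (pr m * pr n) * pr m := by group
        _ = (pr n * pr n) * (pr m * pr m) := by rw [← hc]; group
        _ = 1 := by rw [hnn, hmm, mul_one]
  set a := pr n with hadef
  set b := pr m with hbdef
  set γ := pr g with hγ
  have hab : a ≠ b := by
    intro h
    -- `m = ± n` would commute
    obtain ⟨c, hc⟩ := exists_smul_of_pr_eq h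
    apply hnm
    rw [sl_comm_iff, hc, Matrix.mul_smul, Matrix.smul_mul]
  -- conjugation by `γ`
  have hmul : ∀ x y, γ * (x * y) * γ⁻¹ = (γ * x * γ⁻¹) * (γ * y * γ⁻¹) := by intro x y; group
  have hinj : ∀ x y, γ * x * γ⁻¹ = γ * y * γ⁻¹ → x = y := by
    intro x y h
    exact mul_left_cancel (mul_right_cancel h)
  have hcomm_of : ∀ k : ℕ, ∀ x, (γ ^ k) * x * (γ ^ k)⁻¹ = x → pr (g ^ k) * x = x * pr (g ^ k) := by
    intro k x h
    rw [map_pow, ← hγ]
    exact mul_inv_eq_iff_eq_mul.1 h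
  have hp2 : ∀ x, (γ ^ 2) * x * (γ ^ 2)⁻¹ = γ * (γ * x * γ⁻¹) * γ⁻¹ := by intro x; rw [pow_two]; group
  have hp3 : ∀ x, (γ ^ 3) * x * (γ ^ 3)⁻¹ = γ * (γ * (γ * x * γ⁻¹) * γ⁻¹) * γ⁻¹ := by
    intro x; rw [pow_succ, pow_two]; group
  have aab : a * (a * b) = b := by rw [← mul_assoc, hnn, one_mul]
  have abb : (a * b) * b = a := by rw [mul_assoc, hmm, mul_one]
  have aba : (a * b) * a = b := by rw [hc, mul_assoc, hnn, mul_one]
  have bab : b * (a * b) = a := by rw [hc, ← mul_assoc, hmm, one_mul]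
  have hmab := hmul a b
  rcases h1 with h1 | h1 | h1 <;> rcases h2 with h2 | h2 | h2 <;> rw [h1, h2] at hmab
  · exact absurd (hinj _ _ (h1.trans h2.symm)) hab
  · apply bad_of_pow
    left
    apply hcent 2 (hcomm_of 2 _ (by rw [hp2, h1, h1])) (hcomm_of 2 _ (by rw [hp2, h2, h2]))
  · apply bad_of_pow
    left
    apply hcent 2 (hcomm_of 2 _ (by rw [hp2, h1, h1])) (hcomm_of 2 _ (by rw [hp2, h2, hmab, aab]))
  · apply bad_of_pow
    left
    apply hcent 2 (hcomm_of 2 _ (by rw [hp2, h1, h2])) (hcomm_of 2 _ (by rw [hp2, h2, h1]))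
  · exact absurd (hinj _ _ (h1.trans h2.symm)) hab
  · -- a → b → ab → a
    apply bad_of_pow
    right
    apply hcent 3 (hcomm_of 3 _ (by rw [hp3, h1, h2, hmab, bab]))
      (hcomm_of 3 _ (by rw [hp3, h2, hmab, bab, h1]))
  · -- a → ab → b → a
    apply bad_of_pow
    right
    apply hcent 3 (hcomm_of 3 _ (by rw [hp3, h1, hmab, aba, h2]))
      (hcomm_of 3 _ (by rw [hp3, h2, h1, hmab, aba]))
  · apply bad_of_pow
    left
    apply hcent 2 (hcomm_of 2 _ (by rw [hp2, h1, hmab, abb])) (hcomm_of 2 _ (by rw [hp2, h2, h2]))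
  · exact absurd (hinj _ _ (h1.trans h2.symm)) hab

end Grp

section Param

open Polynomial

variable {F : Type*} [Field F] [Finite F]

/-- `b ↦ b - σ b` -/
def dif (σ : F ≃+* F) : F →+ F where
  toFun b := b - σ b
  map_zero' := by simp
  map_add' a b := by rw [map_add]; ring

theorem dif_apply (σ : F ≃+* F) (b : F) : dif σ b = b - σ b := rfl

theorem card_eq_cube {σ : F ≃+* F} (h3 : σ ^ 3 = 1) (h1 : σ ≠ 1) : Nat.card F = Nat.card (dif σ).ker ^ 3 := by
  classical
  have hF : Fintype F := Fintype.ofFinite F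
  have ho : orderOf σ = 3 := orderOf_eq_prime h3 h1
  let G : Subgroup (F ≃+* F) := Subgroup.zpowers σ
  have hfin : Finite (F ≃+* F) := Finite.of_injective (fun e : F ≃+* F => (e : F → F)) DFunLike.coe_injective
  have hGf : Fintype G := Fintype.ofFinite G
  have hG : Fintype.card G = 3 := by rw [← Nat.card_eq_fintype_card, Nat.card_zpowers, ho]
  have h4 := FixedPoints.finrank_eq_card G F
  rw [hG] at h4
  have h5 := Module.card_eq_pow_finrank (K := FixedPoints.subfield G F) (V := F)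
  rw [h4] at h5
  rw [Nat.card_eq_fintype_card, h5]
  congr 1
  rw [← Nat.card_eq_fintype_card]
  refine Nat.card_congr (Equiv.subtypeEquivRight fun x => ?_)
  constructor
  · intro hx
    have h6 : σ x = x := hx ⟨σ, Subgroup.mem_zpowers σ⟩
    change dif σ x = 0
    rw [dif_apply, h6, sub_self]
  · intro hx
    have h6 : σ x = x := by
      have : dif σ x = 0 := hx
      rw [dif_apply, sub_eq_zero] at this
      exact this.symm
    rintro ⟨τ, n, rfl⟩
    change (σ ^ n) x = x
    have h7 : σ ∈ MulAction.stabilizer (F ≃+* F) x := h6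
    exact zpow_mem h7 n

theorem exists_eval_ne {σ : F ≃+* F} (h3 : σ ^ 3 = 1) (h1 : σ ≠ 1) {P : F[X]} (hP : P ≠ 0)
    (hd : P.natDegree < Nat.card (dif σ).ker ^ 2) : ∃ b, P.eval (b - σ b) ≠ 0 := by
  classical
  by_contra hcon
  push Not at hcon
  have h4 := card_eq_cube h3 h1
  have h5 : Nat.card F = Nat.card (dif σ).range * Nat.card (dif σ).ker := by
    rw [AddSubgroup.card_eq_card_quotient_mul_card_addSubgroup (dif σ).ker]
    congr 1
    exact Nat.card_congr (QuotientAddGroup.quotientKerEquivRange (dif σ)).toEquiv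
  have h6 : Nat.card (dif σ).range ≤ P.natDegree := by
    have h7 : ((dif σ).range : Set F) ⊆ (P.roots.toFinset : Set F) := by
      rintro _ ⟨b, rfl⟩
      rw [Finset.mem_coe, Multiset.mem_toFinset, mem_roots hP]
      exact hcon b
    calc Nat.card (dif σ).range = ((dif σ).range : Set F).ncard := rfl
      _ ≤ (P.roots.toFinset : Set F).ncard := Set.ncard_le_ncard h7 (Set.toFinite _)
      _ = P.roots.toFinset.card := Set.ncard_coe_finset _
      _ ≤ Multiset.card P.roots := Multiset.toFinset_card_le _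
      _ ≤ _ := P.card_roots'
  have h8 : 0 < Nat.card (dif σ).ker := Nat.card_pos
  rw [h4] at h5
  have h9 : Nat.card (dif σ).ker ^ 2 = Nat.card (dif σ).range := by
    apply Nat.eq_of_mul_eq_mul_right h8
    rw [← h5]; ring
  omega

theorem exists_param {σ : F ≃+* F} (h3 : σ ^ 3 = 1) (h1 : σ ≠ 1) :
    ∃ b : F, σ b ≠ b ∧ ((2 : F) ≠ 0 → ¬ Bad ((2 + (b - σ b) ^ 2) ^ 2)) := by
  classical
  have hF : Fintype F := Fintype.ofFinite F
  by_cases h2 : (2 : F) = 0
  · by_contra hcon
    push Not at hcon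
    apply h1
    ext b
    by_contra hb
    exact (hcon b hb).1 h2
  have hne : ∀ b : F, ¬ Bad ((2 + (b - σ b) ^ 2) ^ 2) → σ b ≠ b := by
    intro b hb h
    apply hb
    rw [h, sub_self]
    unfold Bad
    ring
  have hodd : Odd (Nat.card F) := by
    rw [Nat.card_eq_fintype_card]
    exact (Cfsg.Agent.ClassicalGeometry.PSLTorus.two_ne_zero_iff_odd F).1 h2
  have hk3 : 3 ≤ Nat.card (dif σ).ker := by
    have h5 : ({0, 1, -1} : Set F) ⊆ ((dif σ).ker : Set F) := by
      rintro x (rfl | rfl | rfl)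
      · exact zero_mem _
      · change dif σ 1 = 0
        rw [dif_apply, map_one, sub_self]
      · change dif σ (-1) = 0
        rw [dif_apply, map_neg, map_one, sub_self]
    have h6 : ({0, 1, -1} : Set F).ncard = 3 := by
      rw [Set.ncard_insert_of_notMem, Set.ncard_pair]
      · intro h
        apply h2
        linear_combination h
      · simp only [Set.mem_insert_iff, Set.mem_singleton_iff, not_or]
        refine ⟨zero_ne_one, fun h => ?_⟩
        apply zero_ne_one (α := F)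
        linear_combination -h
    calc 3 = ({0, 1, -1} : Set F).ncard := h6.symm
      _ ≤ ((dif σ).ker : Set F).ncard := Set.ncard_le_ncard h5 (Set.toFinite _)
      _ = _ := rfl
  have hkodd : Odd (Nat.card (dif σ).ker) := hodd.of_dvd_nat (AddSubgroup.card_addSubgroup_dvd_card _)
  by_cases hk : Nat.card (dif σ).ker = 3
  · -- the field with 27 elements
    have h27 : Nat.card F = 27 := by rw [card_eq_cube h3 h1, hk]; norm_num
    rw [Nat.card_eq_fintype_card] at h27
    have h30 : (3 : F) = 0 := by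
      obtain ⟨p, hp⟩ := CharP.exists F
      obtain ⟨n, hpp, hn⟩ := FiniteField.card F p
      rw [h27] at hn
      have h5 : p ∣ 3 ^ 3 := by
        rw [show 3 ^ 3 = 27 by norm_num, hn]
        exact dvd_pow_self p n.ne_zero
      have h6 := (Nat.prime_dvd_prime_iff_eq hpp Nat.prime_three).1 (hpp.dvd_of_dvd_pow h5)
      rw [h6] at hp
      exact_mod_cast CharP.cast_eq_zero F 3
    have hns : ¬ IsSquare (-1 : F) := by
      rw [FiniteField.isSquare_neg_one_iff, h27]
      norm_num
    have hP : (X ^ 3 - X : F[X]) ≠ 0 := by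
      have : (X ^ 3 - X : F[X]).natDegree = 3 := by compute_degree!
      intro h
      rw [h, natDegree_zero] at this
      omega
    obtain ⟨b, hb⟩ := exists_eval_ne h3 h1 hP (by
      have : (X ^ 3 - X : F[X]).natDegree = 3 := by compute_degree!
      rw [this, hk]; norm_num)
    rw [eval_sub, eval_pow, eval_X] at hb
    have hc0 : b - σ b ≠ 0 := by
      intro h
      apply hb
      rw [h]; ring
    have hc1 : (b - σ b) ^ 2 ≠ 1 := by
      intro h
      apply hb
      linear_combination (b - σ b) * h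
    have hcm : (b - σ b) ^ 2 ≠ -1 := by
      intro h
      exact hns ⟨b - σ b, by rw [← h]; ring⟩
    have hbad : ¬ Bad ((2 + (b - σ b) ^ 2) ^ 2) := by
      set c := b - σ b with hc
      intro h
      unfold Bad at h
      have e : (2 + c ^ 2) ^ 2 = (c ^ 2 - 1) ^ 2 := by linear_combination (2 * c ^ 2 + 1) * h30
      rw [e] at h
      have e2 : (c ^ 2 - 1) ^ 2 * ((c ^ 2 - 1) ^ 2 - 1) * ((c ^ 2 - 1) ^ 2 - 2) * ((c ^ 2 - 1) ^ 2 - 3) * ((c ^ 2 - 1) ^ 2 - 4) =
          (c ^ 2 - 1) ^ 2 * ((c ^ 2 - 1) ^ 2 - 1) * ((c ^ 2 - 1) ^ 2 + 1) * (c ^ 2 - 1) ^ 2 * ((c ^ 2 - 1) ^ 2 - 1) := by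
        have f1 : ((c ^ 2 - 1) ^ 2 - 2) = ((c ^ 2 - 1) ^ 2 + 1) := by linear_combination -h30
        have f2 : ((c ^ 2 - 1) ^ 2 - 3) = (c ^ 2 - 1) ^ 2 := by linear_combination -h30
        have f3 : ((c ^ 2 - 1) ^ 2 - 4) = ((c ^ 2 - 1) ^ 2 - 1) := by linear_combination -h30
        rw [f1, f2, f3]
      rw [e2] at h
      have g1 : (c ^ 2 - 1) ^ 2 ≠ 0 := pow_ne_zero _ (sub_ne_zero.2 hc1)
      have g2 : (c ^ 2 - 1) ^ 2 - 1 ≠ 0 := by
        have : (c ^ 2 - 1) ^ 2 - 1 = c ^ 2 * (c ^ 2 + 1) := by linear_combination (-c ^ 2) * h30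
        rw [this]
        refine mul_ne_zero (pow_ne_zero _ hc0) ?_
        intro h5
        exact hcm (eq_neg_of_add_eq_zero_left h5)
      have g3 : (c ^ 2 - 1) ^ 2 + 1 ≠ 0 := by
        intro h5
        exact hns ⟨c ^ 2 - 1, by linear_combination -h5⟩
      exact mul_ne_zero (mul_ne_zero (mul_ne_zero (mul_ne_zero g1 g2) g3) g1) g2 h
    exact ⟨b, hne b hbad, fun _ => hbad⟩
  · have hk5 : 5 ≤ Nat.card (dif σ).ker := by
      obtain ⟨j, hj⟩ := hkodd
      omega
    set s : F[X] := (C 2 + X ^ 2) ^ 2 with hs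
    have hdeg : ∀ k : F, (s - C k).Monic ∧ (s - C k).natDegree = 4 := by
      intro k
      have e : s - C k = X ^ 4 + (C 4 * X ^ 2 + C (4 - k)) := by
        rw [hs, C_sub]
        have : (C 4 : F[X]) = C 2 * C 2 := by rw [← C_mul]; norm_num
        have h4 : (C 4 : F[X]) = C 2 + C 2 := by rw [← C_add]; norm_num
        linear_combination (-1 : F[X]) * this - X ^ 2 * h4
      rw [e]
      constructor
      · apply monic_X_pow_add
        compute_degree!
      · compute_degree!
    have hdeg0 : s.Monic ∧ s.natDegree = 4 := by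
      have := hdeg 0
      rwa [C_0, sub_zero] at this
    set P : F[X] := s * (s - C 1) * (s - C 2) * (s - C 3) * (s - C 4) with hPdef
    have hPm : P.Monic := (((hdeg0.1.mul (hdeg 1).1).mul (hdeg 2).1).mul (hdeg 3).1).mul (hdeg 4).1
    have hPd : P.natDegree ≤ 20 := by
      have h1 := natDegree_mul_le (p := s * (s - C 1) * (s - C 2) * (s - C 3)) (q := s - C 4)
      have h2 := natDegree_mul_le (p := s * (s - C 1) * (s - C 2)) (q := s - C 3)
      have h3 := natDegree_mul_le (p := s * (s - C 1)) (q := s - C 2)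
      have h4 := natDegree_mul_le (p := s) (q := s - C 1)
      rw [(hdeg 4).2] at h1
      rw [(hdeg 3).2] at h2
      rw [(hdeg 2).2] at h3
      rw [(hdeg 1).2, hdeg0.2] at h4
      rw [hPdef]
      omega
    obtain ⟨b, hb⟩ := exists_eval_ne h3 h1 hPm.ne_zero (by
      have : 5 ^ 2 ≤ Nat.card (dif σ).ker ^ 2 := Nat.pow_le_pow_left hk5 2
      omega)
    have hbad : ¬ Bad ((2 + (b - σ b) ^ 2) ^ 2) := by
      intro h
      apply hb
      rw [hPdef, hs]
      simp only [eval_mul, eval_sub, eval_pow, eval_add, eval_C, eval_X]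
      exact h
    exact ⟨b, hne b hbad, fun _ => hbad⟩

end Param

end Cfsg.Agent.H454.PslThree
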