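import Cfsg.Agent.H301.SY.Spor

/-!
# `RE` implies `RC` in simple groups (helper454, for S3846)

* `RE.rc` : in a simple group an element which lies in the radical of each proper subgroup containing it is radical (`RC`);
-/

set_option autoImplicit false
set_option maxRecDepth 20000

namespace Cfsg.Agent.H454.SY

open Subgroup Cfsg Cfsg.Agent.H459.Rad Cfsg.Agent.H459.Iface Cfsg.Agent.H301.SY

/-- `RE` implies `RC` in a simple group -/
theorem RE.rc {K : Type*} [Group K] [Finite K] [IsSimpleGroup K] {x : K} (h : RE x) : RC (MulAut.conj x) := by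
  intro M hM hx m hm
  have hxm : ∀ m ∈ M, x * m * x⁻¹ ∈ M := hx
  have hinj : ∀ a ∈ M, x⁻¹ * a * x ∈ M := by
    intro a ha
    have h1 : M.map (MulAut.conj x).toMonoidHom ≤ M := by
      rintro _ ⟨b, hb, rfl⟩
      exact hx b hb
    have h2 : M.map (MulAut.conj x).toMonoidHom = M := by
      apply eq_of_le_of_card_ge h1
      rw [Subgroup.card_map_of_injective (MulAut.conj x).injective]
    rw [← h2] at ha
    obtain ⟨b, hb, rfl⟩ := ha
    have h3 : x⁻¹ * (MulAut.conj x).toMonoidHom b * x = b := by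
      show x⁻¹ * (x * b * x⁻¹) * x = b
      group
    rwa [h3]
  have hzp : ∀ k : ℤ, ∀ a ∈ M, x ^ k * a * (x ^ k)⁻¹ ∈ M := by
    intro k
    induction k using Int.induction_on with
    | zero => intro a ha; simpa using ha
    | succ i ih =>
      intro a ha
      have h1 := ih _ (hxm a ha)
      have e : x ^ ((i : ℤ) + 1) * a * (x ^ ((i : ℤ) + 1))⁻¹ = x ^ (i : ℤ) * (x * a * x⁻¹) * (x ^ (i : ℤ))⁻¹ := by
        rw [zpow_add_one]; group
      rwa [e]
    | pred i ih =>
      intro a ha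
      have h1 := ih _ (hinj a ha)
      have e : x ^ (-(i : ℤ) - 1) * a * (x ^ (-(i : ℤ) - 1))⁻¹ = x ^ (-(i : ℤ)) * (x⁻¹ * a * x) * (x ^ (-(i : ℤ)))⁻¹ := by
        rw [zpow_sub_one]; group
      rwa [e]
  set H := M ⊔ zpowers x with hH
  have hnorm : ∀ g ∈ H, ∀ a ∈ M, g * a * g⁻¹ ∈ M := by
    have h1 : H ≤ normalizer (M : Set K) := by
      rw [hH]
      refine sup_le le_normalizer ?_
      rw [zpowers_le]
      refine mem_normalizer_iff.2 fun a => ⟨hxm a, fun ha => ?_⟩
      have := hinj _ ha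
      have e : x⁻¹ * (x * a * x⁻¹) * x = a := by group
      rwa [e] at this
    intro g hg a ha
    exact (mem_normalizer_iff.1 (h1 hg) a).1 ha
  by_cases hHt : H = ⊤
  · have hn : M.Normal := ⟨fun a ha g => hnorm g (hHt ▸ mem_top g) a ha⟩
    rcases hn.eq_bot_or_eq_top with h1 | h1
    · rw [h1, mem_bot] at hm
      rw [hm, map_one, inv_one, mul_one]
      exact one_mem _
    · exact absurd h1 hM
  · have hxH : x ∈ H := mem_sup_right (mem_zpowers x)
    have hmH : m ∈ H := mem_sup_left hm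
    have h1 := h H hHt hxH
    refine radIn_inf_le (M := M) (H := H) le_sup_left ⟨?_, M.mul_mem (M.inv_mem hm) (hx m hm)⟩
    have h2 : m⁻¹ * x * m⁻¹⁻¹ ∈ radIn H := radIn_conj_mem (H.inv_mem hmH) h1
    have e : m⁻¹ * MulAut.conj x m = (m⁻¹ * x * m⁻¹⁻¹) * x⁻¹ := by
      rw [MulAut.conj_apply]; group
    have h3 : m⁻¹ * MulAut.conj x m ∈ radIn H := by
      rw [e]
      exact (radIn H).mul_mem h2 ((radIn H).inv_mem h1)
    exact h3

end Cfsg.Agent.H454.SY
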